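import Cfsg.Agent.LocalCharP.Overgroup
import Cfsg.Agent.Amalgam.CharPVertices
import Cfsg.Agent.Subnormal.Basic
import Mathlib.Tactic.Group

/-!
Groups in which a `p`-subgroup `O` is such that a fixed `Y ≤ O` lies in `O_p` of every proper overgroup
of `O` but not in `O_p` of the whole group (the members of `ℌ(O_p(M))`).
-/

set_option autoImplicit false

namespace CfsgLib.LocalCharP

open Cfsg
open scoped commutatorElement

variable {p : ℕ} {G : Type*} [Group G] [Finite G] [Fact p.Prime]

omit [Fact p.Prime] in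
/-- `O_p` of a subgroup, seen inside an intermediate subgroup. -/
theorem pCoreOf_top : pCoreOf p (⊤ : Subgroup G) = pCore p G :=
  CfsgLib.Amalgam.map_pCore_equiv Subgroup.topEquiv

theorem pCoreOf_le_pCore_of_isSubnormal {P : Subgroup G} (hP : P.IsSubnormal) :
    pCoreOf p P ≤ pCore p G := map_pCore_le_pCore_of_isSubnormal hP

section Setting

variable {O Y : Subgroup G} (hOp : IsPGroup p ↥O) (hYO : Y ≤ O)
  (hY : ¬ Y ≤ pCore p G) (hmax : ∀ P : Subgroup G, O ≤ P → P < ⊤ → Y ≤ pCoreOf p P)

include hY hmax in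
theorem eq_top_of_isSubnormal {P : Subgroup G} (hOP : O ≤ P) (hP : P.IsSubnormal) : P = ⊤ := by
  by_contra hne
  exact hY ((hmax P hOP (lt_top_iff_ne_top.mpr hne)).trans (pCoreOf_le_pCore_of_isSubnormal hP))

include hY hmax in
theorem normalClosure_eq_top : Subgroup.normalClosure (O : Set G) = ⊤ :=
  eq_top_of_isSubnormal hY hmax Subgroup.le_normalClosure Subgroup.normalClosure_normal.isSubnormal

include hOp hYO hY hmax in
theorem not_isPClosed : ¬ IsPClosed p G := fun h => hY (hYO.trans (le_pCore_of_isPClosed h hOp))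

include hOp hYO hY hmax in
/-- A normal subgroup which is not supplemented by `O` is `p`-closed. -/
theorem isPClosed_of_sup_ne_top {N : Subgroup G} (hN : N.Normal) (hne : N ⊔ O ≠ ⊤) :
    IsPClosed p ↥N := by
  haveI := hN
  haveI := pCore_normal p G
  have hY1 : Y ≤ pCoreOf p (N ⊔ O) := hmax _ le_sup_right (lt_top_iff_ne_top.mpr hne)
  -- `N` centralizes `Y` modulo `O_p`
  have hNY : ∀ n ∈ N, ∀ y ∈ Y, ⁅n, y⁆ ∈ pCore p G := by
    intro n hn y hy
    have h1 : ⁅n, y⁆ ∈ N ⊓ pCoreOf p (N ⊔ O) := by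
      refine ⟨?_, ?_⟩
      · rw [show ⁅n, y⁆ = n * (y * n⁻¹ * y⁻¹) by group]
        exact N.mul_mem hn (hN.conj_mem _ (N.inv_mem hn) y)
      · rw [commutatorElement_def]
        exact Subgroup.mul_mem _
          (conj_mem_of_le_normalizer (le_normalizer_pCoreOf _) (Subgroup.mem_sup_left hn) (hY1 hy))
          (Subgroup.inv_mem _ (hY1 hy))
    have h2 : N ⊓ pCoreOf p (N ⊔ O) ≤ pCoreOf p N :=
      le_pCoreOf inf_le_left ((isPGroup_pCoreOf _).to_le inf_le_right)
        (le_normalizer_inf Subgroup.le_normalizer (le_sup_left.trans (le_normalizer_pCoreOf _)))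
    exact pCoreOf_le_pCore_of_isSubnormal hN.isSubnormal (h2 h1)
  obtain ⟨T, hT⟩ := hOp.exists_le_sylow
  set A := ((T : Subgroup G) ⊓ N) ⊔ pCore p G with hA
  have hTA : (T : Subgroup G) ≤ Subgroup.normalizer (A : Set G) := by
    refine le_normalizer_of_conj_mem fun t ht x hx => ?_
    have hle : A ≤ A.comap (MulAut.conj t).toMonoidHom :=
      sup_le (fun y hy => Subgroup.mem_sup_left
          ⟨(T : Subgroup G).mul_mem ((T : Subgroup G).mul_mem ht hy.1) ((T : Subgroup G).inv_mem ht),
            hN.conj_mem y hy.2 t⟩)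
        fun y hy => Subgroup.mem_sup_right ((pCore_normal p G).conj_mem y hy t)
    exact hle hx
  have hAp : IsPGroup p ↥A := (T.2.to_le inf_le_left).to_sup_of_normal_right
    CfsgLib.CharP.isPGroup_pCore
  by_cases hP2 : Subgroup.normalizer (A : Set G) = ⊤
  · obtain ⟨R, hR⟩ := exists_sylow_inf T hN
    refine isPClosed_of_sylow_le R ?_
    have hAn : A.Normal := Subgroup.normalizer_eq_top_iff.mp hP2
    have h1 : (T : Subgroup G) ⊓ N ≤ pCore p G := le_sup_left.trans (CfsgLib.CharP.le_pCore hAn hAp)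
    intro x hx
    have hx' : (x : G) ∈ (T : Subgroup G) ⊓ N := hR ▸ ⟨x, hx, rfl⟩
    refine CfsgLib.CharP.le_pCore (N := (pCore p G).subgroupOf N) inferInstance
      (CfsgLib.CharP.isPGroup_pCore.comap_of_injective _ N.subtype_injective) ?_
    exact h1 hx'
  exfalso
  set P2 := Subgroup.normalizer (A : Set G) with hP2def
  have hY2 : Y ≤ pCoreOf p P2 := hmax _ (hT.trans hTA) (lt_top_iff_ne_top.mpr hP2)
  -- Frattini
  obtain ⟨R, hR⟩ := exists_sylow_inf T hN
  have hfra : P2 ⊔ N = ⊤ := by
    refine top_le_iff.mp ((Sylow.normalizer_sup_eq_top R).ge.trans (sup_le_sup_right ?_ N))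
    rw [hR]
    refine le_normalizer_of_conj_mem fun x hx y hy => ?_
    have hle : A ≤ A.comap (MulAut.conj x).toMonoidHom :=
      sup_le (fun z hz => Subgroup.mem_sup_left ((Subgroup.mem_normalizer_iff.mp hx z).mp hz))
        fun z hz => Subgroup.mem_sup_right ((pCore_normal p G).conj_mem z hz x)
    exact hle hy
  set V : Subgroup G := ⨆ x : ↥P2, Y.map (MulAut.conj (x : G)).toMonoidHom with hV
  have hVle : V ≤ pCoreOf p P2 := iSup_le fun x => (Subgroup.map_mono hY2).trans
    (map_conj_eq_self_iff.mpr (le_normalizer_pCoreOf P2 x.2)).le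
  set W := V ⊔ pCore p G with hW
  have hWp : IsPGroup p ↥W := ((isPGroup_pCoreOf P2).to_le hVle).to_sup_of_normal_right
    CfsgLib.CharP.isPGroup_pCore
  have hWn : W.Normal := by
    refine Subgroup.normalizer_eq_top_iff.mp (top_le_iff.mp (hfra.ge.trans (sup_le ?_ ?_)))
    · refine le_normalizer_of_conj_mem fun q hq w hw => ?_
      have hle : W ≤ W.comap (MulAut.conj q).toMonoidHom := by
        refine sup_le (iSup_le fun x => ?_) fun z hz => Subgroup.mem_sup_right ((pCore_normal p G).conj_mem z hz q)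
        rw [← Subgroup.map_le_iff_le_comap, map_conj_map_conj]
        exact (le_iSup (fun x : ↥P2 => Y.map (MulAut.conj (x : G)).toMonoidHom) (⟨q, hq⟩ * x)).trans le_sup_left
      exact hle hw
    · refine le_normalizer_of_conj_mem fun n hn w hw => ?_
      have hle : W ≤ W.comap (MulAut.conj n).toMonoidHom := by
        refine sup_le (iSup_le fun x => ?_) fun z hz => Subgroup.mem_sup_right ((pCore_normal p G).conj_mem z hz n)
        rintro _ ⟨y, hy, rfl⟩
        show n * ((x : G) * y * (x : G)⁻¹) * n⁻¹ ∈ W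
        rw [show n * ((x : G) * y * (x : G)⁻¹) * n⁻¹ =
          ((x : G) * ⁅(x : G)⁻¹ * n * x, y⁆ * (x : G)⁻¹) * ((x : G) * y * (x : G)⁻¹) by group]
        refine mul_mem (Subgroup.mem_sup_right ((pCore_normal p G).conj_mem _ (hNY _ ?_ y hy) _))
          (Subgroup.mem_sup_left (le_iSup (fun x : ↥P2 => Y.map (MulAut.conj (x : G)).toMonoidHom) x ⟨y, hy, rfl⟩))
        simpa using hN.conj_mem n hn (x : G)⁻¹
      exact hle hw
  exact hY (((map_conj_one Y).ge.trans (le_iSup_of_le (1 : ↥P2) le_rfl)).trans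
    (le_sup_left.trans (CfsgLib.CharP.le_pCore hWn hWp)))

include hOp hYO hY hmax in
theorem isPIrreducible : IsPIrreducible p G := by
  refine ⟨not_isPClosed hOp hYO hY hmax, fun N hN hcl => ?_⟩
  haveI := hN
  have htop : N ⊔ O = ⊤ := by_contra fun h => hcl (isPClosed_of_sup_ne_top hOp hYO hY hmax hN h)
  exact pResidual_le_of_isPGroup_quotient (isPGroup_quotient_of_sup_eq_top hOp htop)

end Setting

section Transfer

variable {A B : Type*} [Group A] [Group B] [Finite A] [Finite B]

theorem isPClosed_of_equiv (e : A ≃* B) (h : IsPClosed p A) : IsPClosed p B := by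
  intro P
  have h1 := h (P.comapOfInjective e.toMonoidHom e.injective fun x _ => e.surjective x)
  change ((P : Subgroup B).comap e.toMonoidHom).Normal at h1
  have h2 := h1.map e.toMonoidHom e.surjective
  rwa [Subgroup.map_comap_eq_self_of_surjective (f := e.toMonoidHom) e.surjective] at h2

theorem isPIrreducible_of_equiv (e : A ≃* B) (h : IsPIrreducible p A) : IsPIrreducible p B := by
  refine ⟨fun hc => h.1 (isPClosed_of_equiv e.symm hc), fun N hN hcl => ?_⟩
  have hN' : (N.comap e.toMonoidHom).Normal := hN.comap _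
  have hcl' : ¬ IsPClosed p ↥(N.comap e.toMonoidHom) := fun hc => hcl (by
    have hmap : (N.comap e.toMonoidHom).map e.toMonoidHom = N :=
      Subgroup.map_comap_eq_self_of_surjective (f := e.toMonoidHom) e.surjective N
    exact isPClosed_of_equiv ((e.subgroupMap (N.comap e.toMonoidHom)).trans
      (MulEquiv.subgroupCongr hmap)) hc)
  rw [← map_pResidual (f := e.toMonoidHom) e.surjective, Subgroup.map_le_iff_le_comap]
  exact h.2 _ hN' hcl'

end Transfer

/-- If `G = H U` for a normal subgroup `H` and a normal `p`-subgroup `U` and `H` is `p`-irreducible, so is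
`G`. -/
theorem isPIrreducible_of_sup_eq_top {H U : Subgroup G} [H.Normal] (hU : U ≤ pCore p G) (hHU : H ⊔ U = ⊤)
    (hH : IsPIrreducible p ↥H) : IsPIrreducible p G := by
  have hres : pResidual p G ≤ H := pResidual_le_of_isPGroup_quotient
    (isPGroup_quotient_of_sup_eq_top (CfsgLib.CharP.isPGroup_pCore.to_le hU) hHU)
  refine ⟨fun h => hH.1 (isPClosed_of_le_pCore inferInstance fun P hP hp => le_pCore_of_isPClosed h hp), ?_⟩
  intro N hN hcl
  haveI := hN
  haveI := pCore_normal p G
  set N2 := ((N ⊔ pCore p G) ⊓ H).subgroupOf H with hN2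
  have hle : pResidual p G ≤ N ⊔ pCore p G := by
    by_contra hne
    refine hcl ?_
    have hcl2 : IsPClosed p ↥N2 := by
      refine isPClosed_of_not_le hH inferInstance fun h => hne (pResidual_le fun x hx => ?_)
      exact (h (mem_pResidual (x := (⟨x, hres (mem_pResidual hx)⟩ : ↥H)) (by rwa [← Subgroup.orderOf_coe]))).1
    refine isPClosed_of_le_pCore hN fun P hP hPp => ?_
    -- `P O_p(G) = P' O_p(G)` with `P' = P O_p(G) ∩ H`
    set P' := (P ⊔ pCore p G) ⊓ H with hP'
    have hPp' : IsPGroup p ↥(P ⊔ pCore p G) := hPp.to_sup_of_normal_right CfsgLib.CharP.isPGroup_pCore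
    have h1 : P'.subgroupOf H ≤ pCore p ↥H := by
      have hn : N2.Normal := inferInstance
      refine le_pCore_of_isPClosed_subnormal hn.isSubnormal hcl2 (fun x hx => ?_)
        ((hPp'.to_le inf_le_left).comap_of_injective _ H.subtype_injective)
      exact ⟨sup_le_sup_right hP _ hx.1, hx.2⟩
    have h2 : P' ≤ pCore p G := by
      intro x hx
      exact map_pCore_le_pCore_of_isSubnormal (inferInstance : H.Normal).isSubnormal ⟨⟨x, hx.2⟩, h1 hx, rfl⟩
    intro x hx
    have hx' : x ∈ ((H ⊔ U : Subgroup G) : Set G) := hHU ▸ Subgroup.mem_top x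
    rw [← SetLike.mem_coe] at hx
    rw [Subgroup.normal_mul] at hx'
    obtain ⟨h, hh, u, hu, rfl⟩ := hx'
    refine Subgroup.mul_mem _ (h2 ⟨?_, hh⟩) (hU hu)
    have := Subgroup.mul_mem (P ⊔ pCore p G) (Subgroup.mem_sup_left hx)
      (Subgroup.mem_sup_right ((pCore p G).inv_mem (hU hu)))
    rwa [mul_inv_cancel_right] at this
  refine pResidual_le fun x hx => ?_
  have hxs : x ∈ ((N ⊔ pCore p G : Subgroup G) : Set G) := hle (mem_pResidual hx)
  rw [Subgroup.normal_mul] at hxs
  obtain ⟨n, hn, o, ho, rfl⟩ := hxs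
  obtain ⟨k, hk⟩ := CfsgLib.CharP.isPGroup_pCore (p := p) (G := G) ⟨o, ho⟩
  refine mem_of_pow_pow_mem hx (k := k) ?_
  rw [← QuotientGroup.eq_one_iff, QuotientGroup.mk_pow, QuotientGroup.mk_mul,
    (QuotientGroup.eq_one_iff n).mpr hn, one_mul, ← QuotientGroup.mk_pow, QuotientGroup.eq_one_iff]
  rw [show o ^ p ^ k = 1 by simpa using congrArg Subtype.val hk]
  exact one_mem _

end CfsgLib.LocalCharP
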