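import Cfsg.Agent.LocalCharP.Dagger
import Cfsg.Agent.LocalCharP.WeaklyClosed

/-!
`O_p(M)` for a subgroup `M` with the basic property whose `Y_M` is asymmetric: it is weakly closed in the
whole group and controls the normalizers of the `p`-subgroups containing it.
-/

set_option autoImplicit false

namespace CfsgLib.LocalCharP

open Cfsg
open scoped commutatorElement

variable {p : ℕ} {G : Type*} [Group G] [Finite G] [Fact p.Prime]

/-- For `M` with the basic property, `S ∩ C(Y_M) = O_p(M)`. -/
theorem sylow_inf_centralizer_eq_pCoreOf (S : Sylow p G) {M : Subgroup G} (hSM : (S : Subgroup G) ≤ M)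
    (hM : IsInFrakM p M) :
    (S : Subgroup G) ⊓ Subgroup.centralizer (largestPReducedOf p M : Set G) = pCoreOf p M := by
  set C := Subgroup.centralizer (largestPReducedOf p M : Set G) with hC
  have hMY : M ≤ Subgroup.normalizer (largestPReducedOf p M : Set G) := le_normalizer_largestPReducedOf M
  refine le_antisymm ?_ (le_inf (pCoreOf_le_of_le hSM) (pCoreOf_le_centralizer_largestPReducedOf M))
  intro x hx
  have hxM : x ∈ M ⊓ C := ⟨hSM hx.1, hx.2⟩
  have h1 : (⟨x, hxM⟩ : ↥(M ⊓ C)) ∈ pCore p ↥(M ⊓ C) :=
    le_pCore_of_isPClosed hM.2.2.2.2.1 (P := ((S : Subgroup G) ⊓ C).subgroupOf (M ⊓ C))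
      ((S.2.to_le inf_le_left).comap_of_injective _ (Subgroup.subtype_injective _)) hx
  exact (le_pCoreOf ((pCoreOf_le _).trans inf_le_left) (isPGroup_pCoreOf _)
    ((le_normalizer_inf_centralizer Subgroup.le_normalizer hMY).trans
      (normalizer_le_normalizer_pCoreOf _))) ⟨_, h1, rfl⟩

/-- A `p`-subgroup containing `O_p(M)` meets `C(Y_M)` in `O_p(M)`. -/
theorem isPGroup_inf_centralizer_eq_pCoreOf (S : Sylow p G) {M : Subgroup G} (hSM : (S : Subgroup G) ≤ M)
    (hM : IsInFrakM p M) {R : Subgroup G} (hR : IsPGroup p ↥R) (hOR : pCoreOf p M ≤ R) :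
    R ⊓ Subgroup.centralizer (largestPReducedOf p M : Set G) = pCoreOf p M := by
  refine (Subgroup.eq_of_le_of_card_ge (le_inf hOR (pCoreOf_le_centralizer_largestPReducedOf M)) ?_).symm
  have h := card_le_inf_centralizer S (hSM.trans (le_normalizer_largestPReducedOf M))
    (hR.to_le (inf_le_left (b := Subgroup.centralizer (largestPReducedOf p M : Set G)))) inf_le_right
  rwa [sylow_inf_centralizer_eq_pCoreOf S hSM hM] at h

theorem dagger_le_normalizer_centralizer (M : Subgroup G) :
    M ⊔ Subgroup.centralizer (largestPReducedOf p M : Set G) ≤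
      Subgroup.normalizer ((Subgroup.centralizer (largestPReducedOf p M : Set G) : Subgroup G) : Set G) :=
  sup_le (le_normalizer_centralizer (le_normalizer_largestPReducedOf M)) Subgroup.le_normalizer

/-- If `Y_M` is asymmetric, a conjugate of `Y_M` that normalizes `Y_M` and is normalized by it
centralizes it. -/
theorem le_centralizer_of_not_isSymmetricIn {A : Subgroup G} (h : ¬ IsSymmetricIn A) {g : G}
    (h1 : A.map (MulAut.conj g).toMonoidHom ≤ Subgroup.normalizer (A : Set G))
    (h2 : A.map (MulAut.conj g⁻¹).toMonoidHom ≤ Subgroup.normalizer (A : Set G)) :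
    A.map (MulAut.conj g).toMonoidHom ≤ Subgroup.centralizer (A : Set G) := by
  have h3 : A ≤ Subgroup.normalizer ((A.map (MulAut.conj g).toMonoidHom : Subgroup G) : Set G) := by
    have h4 := Subgroup.map_mono (f := (MulAut.conj g).toMonoidHom) h2
    rwa [map_conj_map_conj, mul_inv_cancel, map_conj_one, map_conj_normalizer] at h4
  by_contra hne
  refine h ⟨g, fun hb => hne ?_, le_inf (commutator_le_of_le_normalizer h1 le_rfl) ?_⟩
  · rw [← Subgroup.commutator_eq_bot_iff_le_centralizer, Subgroup.commutator_comm]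
    exact hb
  · rw [Subgroup.commutator_comm]
    exact commutator_le_of_le_normalizer h3 le_rfl

section

variable (hH : IsOfParabolicCharacteristic p G) (S : Sylow p G) {M : Subgroup G}
  (hSM : (S : Subgroup G) ≤ M) (hM : IsInFrakM p M) (hasym : ¬ IsSymmetricIn (largestPReducedOf p M))

include hH S hSM hM hasym

/-- The normalizer of a `p`-subgroup between `O_p(M)` and `M†` lies in `M†`. -/
theorem normalizer_le_dagger_of_asymmetric_of_le {R : Subgroup G} (hR : IsPGroup p ↥R)
    (hOR : pCoreOf p M ≤ R)
    (hRM : R ≤ M ⊔ Subgroup.centralizer (largestPReducedOf p M : Set G)) :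
    Subgroup.normalizer (R : Set G) ≤ M ⊔ Subgroup.centralizer (largestPReducedOf p M : Set G) := by
  set Y := largestPReducedOf p M with hY
  set O := pCoreOf p M with hO
  have hRY : R ≤ Subgroup.normalizer (Y : Set G) :=
    hRM.trans (sup_le (le_normalizer_largestPReducedOf M) (Subgroup.centralizer_le_normalizer _))
  have hYO : Y ≤ O := largestPReducedOf_le_pCoreOf M
  set T : Set G := (M : Set G) ∪ (Subgroup.normalizer (R : Set G) : Set G) with hT
  have hTinv : ∀ t ∈ T, t⁻¹ ∈ T := fun t ht => ht.imp (fun h => inv_mem h) fun h => inv_mem h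
  -- conjugating a good conjugate by a generator gives a conjugate in `R`
  have hstep : ∀ h : G, Y.map (MulAut.conj h).toMonoidHom ≤ O → ∀ t ∈ T,
      Y.map (MulAut.conj (t * h)).toMonoidHom ≤ R := by
    intro h hh t ht
    rw [← map_conj_map_conj]
    rcases ht with ht | ht
    · refine ((Subgroup.map_mono hh).trans ?_).trans hOR
      exact (map_conj_eq_self_iff.mpr (le_normalizer_pCoreOf M ht)).le
    · exact (Subgroup.map_mono (hh.trans hOR)).trans (map_conj_eq_self_iff.mpr ht).le
  have key : ∀ n : ℕ, ∀ l : List G, l.length ≤ n → (∀ t ∈ l, t ∈ T) →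
      Y.map (MulAut.conj l.prod).toMonoidHom ≤ O := by
    intro n
    induction n with
    | zero =>
      intro l hl _
      rw [List.length_eq_zero_iff.mp (Nat.le_zero.mp hl), List.prod_nil, map_conj_one]
      exact hYO
    | succ n ih =>
      intro l hl hlT
      rcases l with _ | ⟨t, l'⟩
      · rw [List.prod_nil, map_conj_one]
        exact hYO
      have hl' : l'.length ≤ n := by simpa using hl
      have h1 : Y.map (MulAut.conj (t :: l').prod).toMonoidHom ≤ R := by
        rw [List.prod_cons]
        exact hstep _ (ih l' hl' fun s hs => hlT s (List.mem_cons_of_mem _ hs)) t (hlT t (List.mem_cons_self ..))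
      have h2 : Y.map (MulAut.conj ((t :: l').prod)⁻¹).toMonoidHom ≤ R := by
        rw [List.prod_inv_reverse]
        set m := ((t :: l').map fun x => x⁻¹).reverse with hm
        have hmlen : m.length ≤ n + 1 := by rw [hm, List.length_reverse, List.length_map]; exact hl
        have hmT : ∀ s ∈ m, s ∈ T := by
          intro s hs
          rw [hm, List.mem_reverse, List.mem_map] at hs
          obtain ⟨u, hu, rfl⟩ := hs
          exact hTinv u (hlT u hu)
        rcases m with _ | ⟨s, m'⟩
        · rw [List.prod_nil, map_conj_one]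
          exact hYO.trans hOR
        rw [List.prod_cons]
        exact hstep _ (ih m' (by simpa using hmlen) fun u hu => hmT u (List.mem_cons_of_mem _ hu)) s
          (hmT s (List.mem_cons_self ..))
      refine le_trans (le_inf h1 (le_centralizer_of_not_isSymmetricIn hasym (h1.trans hRY) (h2.trans hRY))) ?_
      exact (isPGroup_inf_centralizer_eq_pCoreOf S hSM hM hR hOR).le
  -- the subgroup generated by the conjugates
  set X := M ⊔ Subgroup.normalizer (R : Set G) with hX
  have hXgen : X = Subgroup.closure T := Subgroup.sup_eq_closure _ _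
  set E : Subgroup G := ⨆ x : ↥X, Y.map (MulAut.conj (x : G)).toMonoidHom with hE
  have hEO : E ≤ O := by
    refine iSup_le fun x => ?_
    have hx : (x : G) ∈ Submonoid.closure T := by
      have h : (x : G) ∈ (Subgroup.closure T).toSubmonoid := hXgen ▸ x.2
      rw [Subgroup.closure_toSubmonoid] at h
      refine Submonoid.closure_mono ?_ h
      refine Set.union_subset le_rfl fun t ht => ?_
      simpa using hTinv _ (Set.mem_inv.mp ht)
    obtain ⟨l, hl, hlx⟩ := Submonoid.exists_list_of_mem_closure hx
    rw [← hlx]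
    exact key _ l le_rfl hl
  have hE1 : E ≠ ⊥ := fun h => largestPReducedOf_ne_bot S hSM hM.1 (le_bot_iff.mp (h ▸
    (map_conj_one Y).ge.trans (le_iSup_of_le (1 : ↥X) le_rfl)))
  have hXE : X ≤ Subgroup.normalizer (E : Set G) := by
    intro y hy
    rw [← map_conj_eq_self_iff]
    refine Subgroup.eq_of_le_of_card_ge ?_
      (Subgroup.card_map_of_injective (K := E) (MulAut.conj y).injective).ge
    rw [hE, Subgroup.map_iSup]
    refine iSup_le fun x => ?_
    rw [map_conj_map_conj]
    exact le_iSup_of_le (⟨y, hy⟩ * x : ↥X) le_rfl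
  exact le_sup_right.trans (le_dagger_of_normalizes hH S hSM hM le_sup_left
    (hEO.trans (pCoreOf_le_of_le hSM)) hE1 hXE)

/-- A `p`-subgroup containing `O_p(M)` lies in `M†`. -/
theorem le_dagger_of_asymmetric {R : Subgroup G} (hR : IsPGroup p ↥R) (hOR : pCoreOf p M ≤ R) :
    R ≤ M ⊔ Subgroup.centralizer (largestPReducedOf p M : Set G) := by
  set X := M ⊔ Subgroup.centralizer (largestPReducedOf p M : Set G) with hX
  by_contra hne
  haveI := hR.isNilpotent
  set R0 := X.subgroupOf R with hR0
  have hlt : R0 < ⊤ := lt_top_iff_ne_top.mpr fun h => hne (Subgroup.subgroupOf_eq_top.mp h)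
  obtain ⟨r, hr, hr0⟩ := Set.exists_of_ssubset (normalizerCondition_of_isNilpotent R0 hlt)
  refine hr0 ?_
  have hN := normalizer_le_dagger_of_asymmetric_of_le hH S hSM hM hasym (R := R ⊓ X)
    (hR.to_le inf_le_left) (le_inf hOR ((pCoreOf_le M).trans le_sup_left)) inf_le_right
  refine hN (Subgroup.mem_normalizer_iff.mpr fun x => ?_)
  constructor
  · rintro ⟨hxR, hxX⟩
    exact ⟨R.mul_mem (R.mul_mem r.2 hxR) (R.inv_mem r.2), (Subgroup.mem_normalizer_iff.mp hr ⟨x, hxR⟩).mp hxX⟩
  · rintro ⟨hxR, hxX⟩
    have hx : x ∈ R := by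
      have := R.mul_mem (R.mul_mem (R.inv_mem r.2) hxR) r.2
      simpa [mul_assoc] using this
    exact ⟨hx, (Subgroup.mem_normalizer_iff.mp hr ⟨x, hx⟩).mpr hxX⟩

theorem normalizer_le_dagger_of_asymmetric {R : Subgroup G} (hR : IsPGroup p ↥R) (hOR : pCoreOf p M ≤ R) :
    Subgroup.normalizer (R : Set G) ≤ M ⊔ Subgroup.centralizer (largestPReducedOf p M : Set G) :=
  normalizer_le_dagger_of_asymmetric_of_le hH S hSM hM hasym hR hOR
    (le_dagger_of_asymmetric hH S hSM hM hasym hR hOR)

theorem normalizer_le_normalizer_pCoreOf_of_asymmetric {R : Subgroup G} (hR : IsPGroup p ↥R)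
    (hOR : pCoreOf p M ≤ R) :
    Subgroup.normalizer (R : Set G) ≤ Subgroup.normalizer (pCoreOf p M : Set G) := by
  intro x hx
  rw [← map_conj_eq_self_iff]
  refine Subgroup.eq_of_le_of_card_ge ?_
    (Subgroup.card_map_of_injective (K := pCoreOf p M) (MulAut.conj x).injective).ge
  refine le_trans (le_inf ((Subgroup.map_mono hOR).trans (map_conj_eq_self_iff.mpr hx).le) ?_)
    (isPGroup_inf_centralizer_eq_pCoreOf S hSM hM hR hOR).le
  exact (Subgroup.map_mono (pCoreOf_le_centralizer_largestPReducedOf M)).trans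
    (map_conj_eq_self_iff.mpr (dagger_le_normalizer_centralizer M
      (normalizer_le_dagger_of_asymmetric hH S hSM hM hasym hR hOR hx))).le

theorem isWeaklyClosedSubgroup_pCoreOf : IsWeaklyClosedSubgroup p (pCoreOf p M) :=
  isWeaklyClosedSubgroup_of_normalizer_le (isPGroup_pCoreOf M) fun _ hR hOR =>
    normalizer_le_normalizer_pCoreOf_of_asymmetric hH S hSM hM hasym hR hOR

/-- Every overgroup `L` of `O_p(M)` has a Sylow `p`-subgroup inside `M†`. -/
theorem exists_sylow_le_dagger {L : Subgroup G} (hOL : pCoreOf p M ≤ L) :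
    ∃ P : Sylow p ↥L, (P : Subgroup ↥L).map L.subtype ≤
      M ⊔ Subgroup.centralizer (largestPReducedOf p M : Set G) ∧
        pCoreOf p M ≤ (P : Subgroup ↥L).map L.subtype := by
  obtain ⟨P, hP⟩ := ((isPGroup_pCoreOf (p := p) M).comap_of_injective L.subtype L.subtype_injective).exists_le_sylow
  have hO : pCoreOf p M ≤ (P : Subgroup ↥L).map L.subtype := fun x hx => ⟨⟨x, hOL hx⟩, hP hx, rfl⟩
  exact ⟨P, le_dagger_of_asymmetric hH S hSM hM hasym (P.2.map _) hO, hO⟩

end

end CfsgLib.LocalCharP
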