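import Cfsg.Agent.LocalCharP.QuadraticPair
import Cfsg.Agent.LocalCharP.Asymmetric
import Cfsg.Agent.Involution.BaerSuzuki
import Mathlib.GroupTheory.QuotientGroup.Basic
import Mathlib.Tactic.Group

/-!
The structure of a minimal `L` in a group `H` of `ℌ`-type, for asymmetric `Y`.
-/

set_option autoImplicit false

namespace CfsgLib.LocalCharP.AsymL

open Cfsg
open scoped commutatorElement

universe u

variable {G : Type u} [Group G] {p : ℕ}

/-- An `H`-chief pair `B < A` inside `U`. -/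
structure ChiefPair (H U A B : Subgroup G) : Prop where
  le : A ≤ U
  lt : B < A
  normA : H ≤ Subgroup.normalizer (A : Set G)
  normB : H ≤ Subgroup.normalizer (B : Set G)
  max : ∀ Z : Subgroup G, H ≤ Subgroup.normalizer (Z : Set G) → B ≤ Z → Z ≤ A → Z = B ∨ Z = A

variable [Finite G] [Fact p.Prime]

/-- The action of `H` on a chief section inside a `p`-subgroup of `H`. -/
theorem exists_action {H U A B : Subgroup G} (h : ChiefPair H U A B) (hU : IsPGroup p ↥U) (hUH : U ≤ H) :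
    ∃ (V : Type u) (_ : CommGroup V) (_ : Finite V) (φ : ↥H →* MulAut V) (π : ↥A →* V),
      IsPGroup p V ∧ Function.Surjective π ∧ (∀ a : ↥A, π a = 1 ↔ (a : G) ∈ B) ∧
        (∀ (g : ↥H) (a : ↥A),
          φ g (π a) = π ⟨(g : G) * a * (g : G)⁻¹, conj_mem_of_le_normalizer h.normA g.2 a.2⟩) ∧
        (∀ S : Subgroup V, Quadratic.stab φ S = ⊤ → S = ⊥ ∨ S = ⊤) := by
  classical
  haveI hBn : (B.subgroupOf A).Normal :=
    Subgroup.normal_subgroupOf_of_le_normalizer ((h.le.trans hUH).trans h.normB)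
  set V := ↥A ⧸ B.subgroupOf A
  set π : ↥A →* V := QuotientGroup.mk' (B.subgroupOf A) with hπ
  have hπs : Function.Surjective π := QuotientGroup.mk'_surjective _
  have hπk : ∀ a : ↥A, π a = 1 ↔ (a : G) ∈ B := fun a => QuotientGroup.eq_one_iff a
  have hAp : IsPGroup p ↥A := hU.to_le h.le
  have hVp : IsPGroup p V := hAp.to_quotient _
  -- `A / B` is abelian
  set D : Subgroup G := ⁅A, A⁆ ⊔ B with hD
  have hDA : D ≤ A := sup_le (commutator_le_of_le_normalizer Subgroup.le_normalizer le_rfl) h.lt.le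
  have hDn : H ≤ Subgroup.normalizer (D : Set G) := fun g hg => map_conj_eq_self_iff.mp (by
    rw [hD, Subgroup.map_sup, Subgroup.map_commutator, map_conj_eq_self_iff.mpr (h.normA hg),
      map_conj_eq_self_iff.mpr (h.normB hg)])
  have hDB : D = B := by
    refine (h.max D hDn le_sup_right hDA).resolve_right fun hDeq => ?_
    haveI := hVp.isNilpotent
    haveI : Nontrivial V := by
      obtain ⟨a, ha, haB⟩ := SetLike.exists_of_lt h.lt
      exact ⟨⟨π ⟨a, ha⟩, 1, fun hh => haB ((hπk _).mp hh)⟩⟩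
    haveI : Group.IsPerfect V := ⟨top_le_iff.mp fun v _ => by
      obtain ⟨a, rfl⟩ := hπs v
      have hle : D ≤ ((commutator V).comap π).map A.subtype := by
        refine sup_le (Subgroup.commutator_le.mpr fun x hx y hy => ?_) fun x hx => ?_
        · refine ⟨⁅(⟨x, hx⟩ : ↥A), ⟨y, hy⟩⁆, ?_, rfl⟩
          rw [SetLike.mem_coe, Subgroup.mem_comap, map_commutatorElement]
          exact Subgroup.commutator_mem_commutator (Subgroup.mem_top _) (Subgroup.mem_top _)
        · refine ⟨⟨x, h.lt.le hx⟩, ?_, rfl⟩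
          rw [SetLike.mem_coe, Subgroup.mem_comap, (hπk _).mpr hx]
          exact one_mem _
      obtain ⟨b, hb, hba⟩ := hle (hDeq.ge a.2)
      rwa [← show b = a from Subtype.ext hba]⟩
    exact Group.IsPerfect.not_isSolvable V inferInstance
  letI cV : CommGroup V :=
    { (inferInstance : Group V) with
      mul_comm := fun x y => by
        obtain ⟨a, rfl⟩ := hπs x
        obtain ⟨b, rfl⟩ := hπs y
        rw [← commutatorElement_eq_one_iff_mul_comm, ← map_commutatorElement, hπk, ← hDB]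
        exact Subgroup.mem_sup_left (Subgroup.commutator_mem_commutator a.2 b.2) }
  have hconj : ∀ g : ↥H, ∀ x : G, x ∈ B → (g : G) * x * (g : G)⁻¹ ∈ B := fun g x hx =>
    conj_mem_of_le_normalizer h.normB g.2 hx
  let c : ↥H → (↥A →* ↥A) := fun g =>
    MonoidHom.mk' (fun a => ⟨(g : G) * a * (g : G)⁻¹, conj_mem_of_le_normalizer h.normA g.2 a.2⟩)
      (fun a b => Subtype.ext (by simp [mul_assoc]))
  let q : ↥H → (V →* V) := fun g => QuotientGroup.map (B.subgroupOf A) (B.subgroupOf A) (c g)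
    (fun x hx => hconj g x hx)
  have hq : ∀ g a, q g (π a) = π (c g a) := fun g a => rfl
  have hqq : ∀ g g' v, q g (q g' v) = q (g * g') v := fun g g' v => by
    obtain ⟨a, rfl⟩ := hπs v
    rw [hq, hq, hq]
    congr 1
    exact Subtype.ext (by simp [c, mul_assoc])
  have hq1 : ∀ v, q 1 v = v := fun v => by
    obtain ⟨a, rfl⟩ := hπs v
    rw [hq]
    congr 1
    exact Subtype.ext (by simp [c])
  let φ : ↥H →* MulAut V := MonoidHom.mk'
    (fun g => MulEquiv.mk ⟨q g, q g⁻¹, fun v => by rw [hqq, inv_mul_cancel, hq1], fun v => by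
      rw [hqq, mul_inv_cancel, hq1]⟩ (map_mul (q g)))
    (fun g g' => MulEquiv.ext fun v => (hqq g g' v).symm)
  refine ⟨V, cV, inferInstance, φ, π, hVp, hπs, hπk, fun g a => rfl, fun S hS => ?_⟩
  set Z := (S.comap π).map A.subtype with hZ
  have hZn : H ≤ Subgroup.normalizer (Z : Set G) := le_normalizer_of_conj_mem fun g hg x hx => by
    obtain ⟨a, ha, rfl⟩ := hx
    refine ⟨c ⟨g, hg⟩ a, ?_, rfl⟩
    change φ ⟨g, hg⟩ (π a) ∈ S
    have h2 : Quadratic.img φ ⟨g, hg⟩ S = S := (hS.ge (Subgroup.mem_top _) : (⟨g, hg⟩ : ↥H) ∈ Quadratic.stab φ S)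
    exact h2.le (Subgroup.mem_map_of_mem _ ha)
  have hBZ : B ≤ Z := fun x hx => ⟨⟨x, h.lt.le hx⟩, by
    rw [SetLike.mem_coe, Subgroup.mem_comap, (hπk _).mpr hx]
    exact one_mem _, rfl⟩
  rcases h.max Z hZn hBZ (Subgroup.map_subtype_le _) with h1 | h1
  · left
    rw [eq_bot_iff]
    intro v hv
    obtain ⟨a, rfl⟩ := hπs v
    exact Subgroup.mem_bot.mpr ((hπk a).mpr (h1.le ⟨a, hv, rfl⟩))
  · right
    refine top_le_iff.mp fun v _ => ?_
    obtain ⟨a, rfl⟩ := hπs v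
    obtain ⟨b, hb, hba⟩ := h1.ge a.2
    rw [← show b = a from Subtype.ext hba]
    exact hb

/-- A `p'`-element of `H` trivial on every chief section of `U` centralizes `U`. -/
theorem commute_of_chief_trivial {H U : Subgroup G} (hU : IsPGroup p ↥U) (hUH : U ≤ H)
    (hUn : H ≤ Subgroup.normalizer (U : Set G)) {x : G} (hxc : (orderOf x).Coprime p)
    (h : ∀ A B : Subgroup G, ChiefPair H U A B → ∀ a ∈ A, ⁅x, a⁆ ∈ B) : ∀ a ∈ U, Commute x a := by
  suffices ∀ n, ∀ A : Subgroup G, Nat.card ↥A = n → A ≤ U → H ≤ Subgroup.normalizer (A : Set G) →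
      ∀ a ∈ A, Commute x a from this _ U rfl le_rfl hUn
  intro n
  induction n using Nat.strong_induction_on with
  | _ n ih =>
  intro A hn hAU hAn a ha
  by_cases hAbot : A = ⊥
  · subst hAbot
    rw [Subgroup.mem_bot.mp ha]
    exact Commute.one_right x
  obtain ⟨B, ⟨hBA, hBn⟩, hBmax⟩ := Set.Finite.exists_maximal
    (Set.toFinite {B : Subgroup G | B < A ∧ H ≤ Subgroup.normalizer (B : Set G)})
    ⟨⊥, bot_lt_iff_ne_bot.mpr hAbot, fun g _ => map_conj_eq_self_iff.mp (Subgroup.map_bot _)⟩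
  have hcp : ChiefPair H U A B := ⟨hAU, hBA, hAn, hBn, fun Z hZn hBZ hZA => by
    by_cases hZ : Z = A
    · exact Or.inr hZ
    · exact Or.inl (le_antisymm (hBmax ⟨lt_of_le_of_ne hZA hZ, hZn⟩ hBZ) hBZ)⟩
  have hlt : Nat.card ↥B < n := hn ▸ lt_of_le_of_ne (Subgroup.card_le_of_le hBA.le)
    fun he => hBA.ne (Subgroup.eq_of_le_of_card_ge hBA.le he.ge)
  set b := ⁅x, a⁆ with hb
  have hbB : b ∈ B := h A B hcp a ha
  have hxb : Commute x b := ih _ hlt B rfl (hBA.le.trans hAU) hBn b hbB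
  have hxa : x * a * x⁻¹ = b * a := by rw [hb, commutatorElement_def]; group
  clear_value b
  have hpow : ∀ k : ℕ, x ^ k * a * (x ^ k)⁻¹ = b ^ k * a := by
    intro k
    induction k with
    | zero => simp
    | succ k ih =>
      calc x ^ (k + 1) * a * (x ^ (k + 1))⁻¹ = x * (x ^ k * a * (x ^ k)⁻¹) * x⁻¹ := by rw [pow_succ']; group
        _ = (x * b ^ k * x⁻¹) * (x * a * x⁻¹) := by rw [ih]; group
        _ = b ^ (k + 1) * a := by rw [(hxb.pow_right k).eq, mul_inv_cancel_right, hxa, pow_succ, mul_assoc]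
  have h1 : b ^ orderOf x = 1 := by
    have := hpow (orderOf x)
    rwa [pow_orderOf_eq_one, one_mul, inv_one, mul_one, eq_comm, mul_eq_right] at this
  obtain ⟨k, hk⟩ := hU ⟨b, hAU (hBA.le hbB)⟩
  have hk' : b ^ p ^ k = 1 := congrArg Subtype.val hk
  have hb1 : b = 1 := orderOf_eq_one_iff.mp (Nat.eq_one_of_dvd_coprimes (hxc.pow_right k)
    (orderOf_dvd_of_pow_eq_one h1) (orderOf_dvd_of_pow_eq_one hk'))
  rw [hb1, one_mul] at hxa
  show x * a = a * x
  calc x * a = x * a * x⁻¹ * x := by rw [inv_mul_cancel_right]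
    _ = a * x := by rw [hxa]

/-- In a group of characteristic `p`, a `p'`-element trivial on every chief section of `O_p(H)` is trivial. -/
theorem eq_one_of_chief_trivial {H : Subgroup G}
    (hH : Subgroup.centralizer (pCore p ↥H : Set ↥H) ≤ pCore p ↥H) {x : G} (hx : x ∈ H)
    (hxc : (orderOf x).Coprime p)
    (h : ∀ A B : Subgroup G, ChiefPair H (pCoreOf p H) A B → ∀ a ∈ A, ⁅x, a⁆ ∈ B) : x = 1 :=
  eq_one_of_isPGroup_of_coprime (isPGroup_pCoreOf H) (inf_centralizer_le_of_charP hH ⟨hx,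
    Subgroup.mem_centralizer_iff.mpr fun a ha =>
      (commute_of_chief_trivial (isPGroup_pCoreOf H) (pCoreOf_le H) (le_normalizer_pCoreOf H) hxc h a ha).symm⟩) hxc

/-- The hypotheses on `(Y, O, H, L)`. -/
structure Hyp (p : ℕ) (Y O H L : Subgroup G) : Prop where
  hOp : IsPGroup p ↥O
  hYO : Y ≤ O
  hOY : O ≤ Subgroup.centralizer (Y : Set G)
  hOH : O ≤ H
  hN : ∀ R : Subgroup G, IsPGroup p ↥R → O ≤ R → Subgroup.normalizer (R : Set G) ≤ Subgroup.normalizer (Y : Set G)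
  hasym : ¬ IsSymmetricIn Y
  hHc : Subgroup.centralizer (pCore p ↥H : Set ↥H) ≤ pCore p ↥H
  hmax : ∀ P : Subgroup G, O ≤ P → P < H → Y ≤ pCoreOf p P
  hLH : L ≤ H
  hYL : Y ≤ L
  hYnL : ¬ Y ≤ pCoreOf p L
  hmin : ∀ X : Subgroup G, X ≤ L → Y ≤ X → ¬ Y ≤ pCoreOf p X → X = L

namespace Hyp

variable {Y O H L : Subgroup G} (d : Hyp p Y O H L)
include d

theorem hYp : IsPGroup p ↥Y := d.hOp.to_le d.hYO

theorem hYH : Y ≤ H := d.hYO.trans d.hOH

theorem pCoreOf_le_normalizer : pCoreOf p H ≤ Subgroup.normalizer (Y : Set G) := by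
  have hR : IsPGroup p ↥(pCoreOf p H ⊔ O) :=
    (isPGroup_pCoreOf H).to_sup_of_normal_left' d.hOp (d.hOH.trans (le_normalizer_pCoreOf H))
  exact (le_sup_left.trans Subgroup.le_normalizer).trans (d.hN _ hR le_sup_right)

theorem sup_eq : L ⊔ O = H := by
  by_contra hne
  have h1 := d.hmax (L ⊔ O) le_sup_right (lt_of_le_of_ne (sup_le d.hLH d.hOH) hne)
  have h2 : pCoreOf p (L ⊔ O) ⊓ L ≤ pCoreOf p L := le_pCoreOf inf_le_right
    ((isPGroup_pCoreOf _).to_le inf_le_left)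
    (le_normalizer_inf (le_sup_left.trans (le_normalizer_pCoreOf _)) Subgroup.le_normalizer)
  exact d.hYnL ((le_inf h1 d.hYL).trans h2)

theorem conj_sup_eq {g : G} (hg : g ∈ L) (h : Y ⊔ Y.map (MulAut.conj g).toMonoidHom = L) :
    Y.map (MulAut.conj g).toMonoidHom ⊔ O = H := by
  refine le_antisymm (sup_le ?_ d.hOH) (d.sup_eq.ge.trans (sup_le ?_ le_sup_right))
  · exact ((Subgroup.map_mono d.hYL).trans (map_conj_eq_self_iff.mpr (Subgroup.le_normalizer hg)).le).trans d.hLH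
  · rw [← h]
    exact sup_le (d.hYO.trans le_sup_right) le_sup_left

theorem conj_inv_sup {g : G} (hg : g ∈ L) (h : Y ⊔ Y.map (MulAut.conj g).toMonoidHom = L) :
    Y ⊔ Y.map (MulAut.conj g⁻¹).toMonoidHom = L := by
  have h1 := congrArg (Subgroup.map (MulAut.conj g⁻¹).toMonoidHom) h
  rwa [Subgroup.map_sup, map_conj_inv_map_conj, map_conj_eq_self_iff.mpr (Subgroup.le_normalizer (inv_mem hg)),
    sup_comm] at h1

theorem exists_generator : ∃ g ∈ L, Y ⊔ Y.map (MulAut.conj g).toMonoidHom = L := by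
  by_contra hno
  push Not at hno
  refine d.hYnL fun y hy => ?_
  obtain ⟨N, hN, hNp, hyN⟩ := CfsgLib.Involution.baerSuzuki_mem (p := p) (⟨y, d.hYL hy⟩ : ↥L) fun g => by
    set X := Y ⊔ Y.map (MulAut.conj (g : G)).toMonoidHom with hX
    have hXL : X ≤ L := sup_le d.hYL
      ((Subgroup.map_mono d.hYL).trans (map_conj_eq_self_iff.mpr (Subgroup.le_normalizer g.2)).le)
    have hY : Y ≤ pCoreOf p X := by_contra fun hh => hno g g.2 (d.hmin X hXL le_sup_left hh)
    have hXp : IsPGroup p ↥X := by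
      have h1 : X = pCoreOf p X ⊔ Y.map (MulAut.conj (g : G)).toMonoidHom :=
        le_antisymm (sup_le (hY.trans le_sup_left) le_sup_right) (sup_le (pCoreOf_le X) le_sup_right)
      rw [h1]
      exact (isPGroup_pCoreOf X).to_sup_of_normal_left' (d.hYp.map _)
        (le_sup_right.trans (le_normalizer_pCoreOf X))
    refine (hXp.comap_of_injective L.subtype L.subtype_injective).to_le ((Subgroup.closure_le _).mpr ?_)
    rintro z (rfl | rfl)
    · exact Subgroup.mem_sup_left hy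
    · exact Subgroup.mem_sup_right ⟨y, hy, rfl⟩
  exact ⟨⟨y, d.hYL hy⟩, CfsgLib.CharP.le_pCore hN hNp hyN, rfl⟩

/-- The setting on a chief section. -/
theorem setting {A B : Subgroup G} (h : ChiefPair H (pCoreOf p H) A B) {V : Type u} [CommGroup V]
    (φ : ↥H →* MulAut V) (π : ↥A →* V) (hπs : Function.Surjective π)
    (hφ : ∀ (g : ↥H) (a : ↥A),
      φ g (π a) = π ⟨(g : G) * a * (g : G)⁻¹, conj_mem_of_le_normalizer h.normA g.2 a.2⟩)
    (hirr : ∀ S : Subgroup V, Quadratic.stab φ S = ⊤ → S = ⊥ ∨ S = ⊤) (hnc : ∃ g, φ g ≠ 1) :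
    Quadratic.Setting φ (Y.subgroupOf H) (O.subgroupOf H) (((Y ⊓ A).subgroupOf A).map π) := by
  have hfix : ∀ g : ↥H, (g : G) ∈ Subgroup.centralizer (Y : Set G) →
      ∀ i ∈ ((Y ⊓ A).subgroupOf A).map π, φ g i = i := by
    rintro g hg - ⟨a, ha, rfl⟩
    rw [hφ]
    congr 1
    apply Subtype.ext
    change (g : G) * a * (g : G)⁻¹ = a
    rw [← Subgroup.mem_centralizer_iff.mp hg a ha.1, mul_inv_cancel_right]
  refine ⟨fun y hy v => ?_, fun y hy => hfix y ?_, fun o ho => hfix o (d.hOY ho), ?_, hirr, hnc⟩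
  · obtain ⟨a, rfl⟩ := hπs v
    rw [hφ, ← map_inv, ← map_mul]
    refine Subgroup.mem_map_of_mem π ⟨?_, A.mul_mem (conj_mem_of_le_normalizer h.normA y.2 a.2) (A.inv_mem a.2)⟩
    change (y : G) * a * (y : G)⁻¹ * (a : G)⁻¹ ∈ Y
    rw [mul_assoc, mul_assoc, ← mul_assoc (a : G)]
    exact Y.mul_mem hy (conj_mem_of_le_normalizer (h.le.trans d.pCoreOf_le_normalizer) a.2 (Y.inv_mem hy))
  · exact d.hOY (d.hYO hy)
  · intro y hy o ho
    exact Subtype.ext ((Subgroup.mem_centralizer_iff.mp (d.hOY ho) y hy))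

/-- The transported generation statements. -/
theorem gen_subgroupOf {g : G} (hg : g ∈ L) (h : Y ⊔ Y.map (MulAut.conj g).toMonoidHom = L) :
    (Y.subgroupOf H).map (MulAut.conj (⟨g, d.hLH hg⟩ : ↥H)).toMonoidHom ⊔ O.subgroupOf H = ⊤ ∧
    Y.subgroupOf H ⊔ (Y.subgroupOf H).map (MulAut.conj (⟨g, d.hLH hg⟩ : ↥H)).toMonoidHom = L.subgroupOf H := by
  have hmap : ((Y.subgroupOf H).map (MulAut.conj (⟨g, d.hLH hg⟩ : ↥H)).toMonoidHom).map H.subtype =
      Y.map (MulAut.conj g).toMonoidHom := by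
    rw [Subgroup.map_map]
    conv_rhs => rw [← Subgroup.map_subgroupOf_eq_of_le d.hYH, Subgroup.map_map]
    rfl
  constructor <;> apply Subgroup.map_injective H.subtype_injective <;> rw [Subgroup.map_sup, hmap]
  · rw [Subgroup.map_subgroupOf_eq_of_le d.hOH, ← MonoidHom.range_eq_map, Subgroup.range_subtype]
    exact d.conj_sup_eq hg h
  · rw [Subgroup.map_subgroupOf_eq_of_le d.hYH, Subgroup.map_subgroupOf_eq_of_le d.hLH]
    exact h

/-- The key step: a conjugate of `Y` in `L` commuting with `Y` equals `Y`. -/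
theorem mem_normalizer_of_conj_commute {m : G} (hm : m ∈ L)
    (hc : Y.map (MulAut.conj m).toMonoidHom ≤ Subgroup.centralizer (Y : Set G)) :
    m ∈ Subgroup.normalizer (Y : Set G) := by
  obtain ⟨g, hg, hgen⟩ := d.exists_generator
  obtain ⟨g1, g3⟩ := d.gen_subgroupOf hg hgen
  obtain ⟨g2, -⟩ := d.gen_subgroupOf (inv_mem hg) (d.conj_inv_sup hg hgen)
  set mH : ↥H := ⟨m, d.hLH hm⟩
  set P := Subgroup.zpowers mH ⊔ O.subgroupOf H with hP
  set N := Subgroup.normalClosure (((O.subgroupOf H).subgroupOf P : Subgroup ↥P) : Set ↥P) with hN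
  have hNp : IsPGroup p ↥N := by
    intro x
    obtain ⟨k, hk⟩ := mem_or_pow_coprime (p := p) (((x : ↥P) : ↥H) : G)
    refine ⟨k, ?_⟩
    have hmem : ((x : ↥P) : ↥H) ^ p ^ k ∈ N.map P.subtype := ⟨x.1 ^ p ^ k, N.pow_mem x.2 _, rfl⟩
    have h1 : (((x : ↥P) : ↥H) : G) ^ p ^ k = 1 := by
      refine eq_one_of_chief_trivial d.hHc (H.pow_mem (Subtype.prop _) _) hk fun A B hAB a ha => ?_
      obtain ⟨V, _, _, φ, π, hVp, hπs, hπk, hφ, hirr⟩ :=
        exists_action hAB (isPGroup_pCoreOf H) (pCoreOf_le H)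
      suffices hφ1 : φ (((x : ↥P) : ↥H) ^ p ^ k) = 1 by
        have h2 := hφ (((x : ↥P) : ↥H) ^ p ^ k) ⟨a, ha⟩
        rw [hφ1, MulAut.one_apply, eq_comm, ← mul_inv_eq_one, ← map_inv, ← map_mul, hπk] at h2
        simpa [commutatorElement_def] using h2
      by_cases hnc : ∃ g, φ g ≠ 1
      · have hk' : (orderOf (((x : ↥P) : ↥H) ^ p ^ k)).Coprime p := by
          rwa [← Subgroup.orderOf_coe, SubgroupClass.coe_pow]
        refine (d.setting hAB φ π hπs hφ hirr hnc).eq_one_of_mem_normalClosure (m := mH) g1 g2 hVp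
          (d.hOp.comap_of_injective _ H.subtype_injective) (g3.ge hm) ?_ hmem hk'
        rintro - ⟨e, he, rfl⟩ y hy
        rw [hφ]
        congr 1
        apply Subtype.ext
        change (m * (y : G) * m⁻¹) * (e : G) * (m * (y : G) * m⁻¹)⁻¹ = e
        have h3 := Subgroup.mem_centralizer_iff.mp (hc ⟨y, hy, rfl⟩) e he.1
        change (e : G) * (m * (y : G) * m⁻¹) = (m * (y : G) * m⁻¹) * (e : G) at h3
        rw [← h3]
        group
      · push Not at hnc
        exact hnc _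
    exact Subtype.ext (Subtype.ext (Subtype.ext (by simpa using h1)))
  set R := (N.map P.subtype).map H.subtype with hR
  have hOR : O ≤ R := fun o ho => ⟨⟨o, d.hOH ho⟩,
    ⟨⟨⟨o, d.hOH ho⟩, Subgroup.mem_sup_right ho⟩, Subgroup.subset_normalClosure ho, rfl⟩, rfl⟩
  have hnn : (P.map H.subtype) ≤ Subgroup.normalizer (R : Set G) :=
    (Subgroup.map_mono (map_subgroupOf_normal Subgroup.normalClosure_normal)).trans (Subgroup.le_normalizer_map _)
  exact d.hN R ((hNp.map _).map _) hOR (hnn ⟨mH, Subgroup.mem_sup_left (Subgroup.mem_zpowers mH), rfl⟩)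

/-- Every proper subgroup of `L` over `Y` normalizes `Y`. -/
theorem le_normalizer_of_lt {X : Subgroup G} (hYX : Y ≤ X) (hXL : X < L) :
    X ≤ Subgroup.normalizer (Y : Set G) := by
  have hY : Y ≤ pCoreOf p X := by_contra fun hh => hXL.ne (d.hmin X hXL.le hYX hh)
  obtain ⟨T, hT⟩ := (d.hYp.comap_of_injective X.subtype X.subtype_injective).exists_le_sylow
  set T0 := (T : Subgroup ↥X).map X.subtype with hT0
  have hTX : T0 ≤ X := Subgroup.map_subtype_le _
  have hT0p : IsPGroup p ↥T0 := T.2.map _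
  have hYT : Y ≤ T0 := fun y hy => ⟨⟨y, hYX hy⟩, hT hy, rfl⟩
  have hTN : T0 ≤ Subgroup.normalizer (Y : Set G) := by
    by_contra hne
    haveI := hT0p.isNilpotent
    set S0 := (Subgroup.normalizer (Y : Set G)).subgroupOf T0 with hS0
    have hlt : S0 < ⊤ := lt_top_iff_ne_top.mpr fun h => hne (Subgroup.subgroupOf_eq_top.mp h)
    obtain ⟨r, hr, hr0⟩ := Set.exists_of_ssubset (Group.normalizerCondition_of_isNilpotent S0 hlt)
    have hconj : ∀ z : ↥T0, z ∈ Subgroup.normalizer (S0 : Set ↥T0) →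
        Y.map (MulAut.conj (z : G)).toMonoidHom ≤ Subgroup.normalizer (Y : Set G) := by
      rintro z hz - ⟨y, hy, rfl⟩
      exact (Subgroup.mem_normalizer_iff.mp hz ⟨y, hYT hy⟩).mp (Subgroup.le_normalizer hy)
    exact hr0 (d.mem_normalizer_of_conj_commute (hXL.le (hTX r.2))
      (le_centralizer_of_not_isSymmetricIn d.hasym (hconj r hr) (hconj r⁻¹ (inv_mem hr))))
  have hcore : pCoreOf p X ≤ T0 := Subgroup.map_mono (CfsgLib.CharP.pCore_le_sylow T)
  intro x hx
  have hconj : ∀ z ∈ X, Y.map (MulAut.conj z).toMonoidHom ≤ Subgroup.normalizer (Y : Set G) := fun z hz =>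
    ((Subgroup.map_mono hY).trans (map_conj_eq_self_iff.mpr (le_normalizer_pCoreOf X hz)).le).trans
      (hcore.trans hTN)
  exact d.mem_normalizer_of_conj_commute (hXL.le hx)
    (le_centralizer_of_not_isSymmetricIn d.hasym (hconj x hx) (hconj x⁻¹ (inv_mem hx)))

theorem generator_of_not_mem {h : G} (hh : h ∈ L) (hn : h ∉ Subgroup.normalizer (Y : Set G)) :
    Y ⊔ Y.map (MulAut.conj h).toMonoidHom = L := by
  have key : ∀ z ∈ L, Y ⊔ Y.map (MulAut.conj z).toMonoidHom ≠ L →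
      Y.map (MulAut.conj z).toMonoidHom ≤ Subgroup.normalizer (Y : Set G) := fun z hz hne =>
    le_sup_right.trans (d.le_normalizer_of_lt le_sup_left (lt_of_le_of_ne (sup_le d.hYL
      ((Subgroup.map_mono d.hYL).trans (map_conj_eq_self_iff.mpr (Subgroup.le_normalizer hz)).le)) hne))
  by_contra hne
  refine hn (d.mem_normalizer_of_conj_commute hh (le_centralizer_of_not_isSymmetricIn d.hasym (key h hh hne)
    (key h⁻¹ (inv_mem hh) fun he => hne ?_)))
  simpa using d.conj_inv_sup (inv_mem hh) he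

theorem inf_normalizer_lt : L ⊓ Subgroup.normalizer (Y : Set G) < L :=
  lt_of_le_of_ne inf_le_left fun he => d.hYnL
    (le_pCoreOf d.hYL d.hYp (he.ge.trans inf_le_right))

theorem isMinimalOver : IsMinimalOver (Y.subgroupOf L) := by
  obtain ⟨g, hg, hgen⟩ := d.exists_generator
  set L0 := (Subgroup.normalizer (Y : Set G)).subgroupOf L with hL0
  have hle : ∀ K : Subgroup ↥L, Y.subgroupOf L ≤ K → K ≠ ⊤ → K ≤ L0 := by
    intro K hYK hK k hk
    refine d.le_normalizer_of_lt (X := K.map L.subtype) (fun y hy => ⟨⟨y, d.hYL hy⟩, hYK hy, rfl⟩)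
      (lt_of_le_of_ne (Subgroup.map_subtype_le _) fun he => hK (Subgroup.map_injective L.subtype_injective ?_))
      ⟨k, hk, rfl⟩
    rw [he, ← MonoidHom.range_eq_map, Subgroup.range_subtype]
  have hne : L0 ≠ ⊤ := fun he => d.inf_normalizer_lt.ne (inf_eq_left.mpr (Subgroup.subgroupOf_eq_top.mp he))
  have hYL0 : Y.subgroupOf L ≤ L0 := fun y hy => Subgroup.le_normalizer hy
  have hco : IsCoatom L0 := ⟨hne, fun K hK => by_contra fun h => hK.not_ge (hle K (hYL0.trans hK.le) h)⟩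
  refine ⟨?_, L0, ⟨hco, hYL0⟩, fun K hK => ((hK.1.le_iff_eq hne).mp (hle K hK.2 hK.1.1)).symm⟩
  set N := Subgroup.normalClosure ((Y.subgroupOf L : Subgroup ↥L) : Set ↥L) with hN
  have h1 : L ≤ N.map L.subtype := by
    conv_lhs => rw [← hgen]
    refine sup_le (fun y hy => ⟨⟨y, d.hYL hy⟩, Subgroup.subset_normalClosure hy, rfl⟩) ?_
    rintro - ⟨y, hy, rfl⟩
    exact ⟨⟨g, hg⟩ * ⟨y, d.hYL hy⟩ * ⟨g, hg⟩⁻¹,
      (Subgroup.normalClosure_normal (s := ((Y.subgroupOf L : Subgroup ↥L) : Set ↥L))).conj_mem _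
        (Subgroup.subset_normalClosure (show (⟨y, d.hYL hy⟩ : ↥L) ∈ ((Y.subgroupOf L : Subgroup ↥L) : Set ↥L) from hy)) _,
      rfl⟩
  refine top_le_iff.mp fun x _ => ?_
  obtain ⟨z, hz, hzx⟩ := h1 x.2
  rwa [← show z = x from Subtype.ext hzx]

theorem charP : Subgroup.centralizer (pCore p ↥L : Set ↥L) ≤ pCore p ↥L := by
  refine CfsgLib.CharP.le_pCore inferInstance fun x => ?_
  obtain ⟨k, hk⟩ := mem_or_pow_coprime (p := p) ((x : ↥L) : G)
  refine ⟨k, Subtype.ext (Subtype.ext ?_)⟩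
  rw [SubgroupClass.coe_pow, SubgroupClass.coe_pow, Subgroup.coe_one, Subgroup.coe_one]
  set z := ((x : ↥L) : G) ^ p ^ k with hz
  have hzL : z ∈ L := pow_mem (Subtype.prop _) _
  have hzC : (⟨z, hzL⟩ : ↥L) ∈ Subgroup.centralizer (pCore p ↥L : Set ↥L) :=
    Subgroup.pow_mem _ x.2 (p ^ k)
  have hcomm : ∀ e ∈ pCoreOf p H, e ∈ L → Commute z e := by
    intro e he heL
    have h1 : pCoreOf p H ⊓ L ≤ pCoreOf p L := le_pCoreOf inf_le_right ((isPGroup_pCoreOf H).to_le inf_le_left)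
      (le_normalizer_inf (d.hLH.trans (le_normalizer_pCoreOf H)) Subgroup.le_normalizer)
    obtain ⟨e', he', rfl⟩ := h1 ⟨he, heL⟩
    exact (congrArg Subtype.val (Subgroup.mem_centralizer_iff.mp hzC e' he')).symm
  obtain ⟨g, hg, hgen⟩ := d.exists_generator
  obtain ⟨g1, g3⟩ := d.gen_subgroupOf hg hgen
  obtain ⟨g2, -⟩ := d.gen_subgroupOf (inv_mem hg) (d.conj_inv_sup hg hgen)
  refine eq_one_of_chief_trivial d.hHc (d.hLH hzL) hk fun A B hAB a ha => ?_
  obtain ⟨V, _, _, φ, π, hVp, hπs, hπk, hφ, hirr⟩ := exists_action hAB (isPGroup_pCoreOf H) (pCoreOf_le H)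
  suffices hφ1 : φ ⟨z, d.hLH hzL⟩ = 1 by
    have h2 := hφ ⟨z, d.hLH hzL⟩ ⟨a, ha⟩
    rw [hφ1, MulAut.one_apply, eq_comm, ← mul_inv_eq_one, ← map_inv, ← map_mul, hπk] at h2
    simpa [commutatorElement_def] using h2
  by_cases hnc : ∃ g, φ g ≠ 1
  · refine (d.setting hAB φ π hπs hφ hirr hnc).eq_one_of_fixed g1 g2 (g3.ge hzL) ?_ ?_
    · rintro - ⟨e, he, rfl⟩
      rw [hφ]
      congr 1
      apply Subtype.ext
      change z * (e : G) * z⁻¹ = e
      rw [(hcomm e (hAB.le e.2) (d.hYL he.1)).eq, mul_inv_cancel_right]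
    · rintro - ⟨-, ⟨e, he, rfl⟩, rfl⟩
      change φ _ (φ _ (π e)) = φ _ (π e)
      rw [hφ, hφ]
      congr 1
      apply Subtype.ext
      change z * (g * (e : G) * g⁻¹) * z⁻¹ = g * (e : G) * g⁻¹
      rw [(hcomm _ (hAB.le (conj_mem_of_le_normalizer hAB.normA (d.hLH hg) e.2))
        (mul_mem (mul_mem hg (d.hYL he.1)) (inv_mem hg))).eq, mul_inv_cancel_right]
  · push Not at hnc
    exact hnc _

theorem chief_nontrivial {A B : Subgroup G} (hAB : ChiefPair H (pCoreOf p H) A B) (hnc : ¬ ⁅A, H⁆ ≤ B) :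
    ¬ ⁅A, (pResidual p ↥L).map L.subtype⁆ ≤ B := by
  intro hle
  obtain ⟨g, hg, hgen⟩ := d.exists_generator
  obtain ⟨g1, g3⟩ := d.gen_subgroupOf hg hgen
  obtain ⟨g2, -⟩ := d.gen_subgroupOf (inv_mem hg) (d.conj_inv_sup hg hgen)
  obtain ⟨V, _, _, φ, π, hVp, hπs, hπk, hφ, hirr⟩ := exists_action hAB (isPGroup_pCoreOf H) (pCoreOf_le H)
  have hφ1 : ∀ x : ↥H, φ x = 1 ↔ ∀ a ∈ A, ⁅(x : G), a⁆ ∈ B := by
    intro x
    constructor
    · intro hx a ha
      have h2 := hφ x ⟨a, ha⟩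
      rw [hx, MulAut.one_apply, eq_comm, ← mul_inv_eq_one, ← map_inv, ← map_mul, hπk] at h2
      simpa [commutatorElement_def] using h2
    · intro hx
      refine MulEquiv.ext fun v => ?_
      obtain ⟨a, rfl⟩ := hπs v
      rw [hφ, MulAut.one_apply, ← mul_inv_eq_one, ← map_inv, ← map_mul, hπk]
      simpa [commutatorElement_def] using hx a a.2
  have hnc' : ∃ x, φ x ≠ 1 := by
    by_contra hc
    push Not at hc
    exact hnc (Subgroup.commutator_le.mpr fun a ha x hx => by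
      rw [← commutatorElement_inv]
      exact inv_mem ((hφ1 ⟨x, hx⟩).mp (hc _) a ha))
  refine (d.setting hAB φ π hπs hφ hirr hnc').false_of_coprime_trivial g1 g2 hVp
    (d.hYp.comap_of_injective _ H.subtype_injective) (d.hOp.comap_of_injective _ H.subtype_injective)
    (g3.ge hg) fun x hx hxc => (hφ1 x).mpr fun a ha => ?_
  rw [← commutatorElement_inv]
  exact inv_mem (hle (Subgroup.commutator_mem_commutator ha
    (mem_map_pResidual (g3.le hx) (by rwa [Subgroup.orderOf_coe]))))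

theorem inf_le_pCoreOf {e : G} (heL : e ∈ pCoreOf p L) (heY : e ∈ Y) : e ∈ pCoreOf p H := by
  obtain ⟨g, hg, hgen⟩ := d.exists_generator
  obtain ⟨g1, g3⟩ := d.gen_subgroupOf hg hgen
  obtain ⟨g2, -⟩ := d.gen_subgroupOf (inv_mem hg) (d.conj_inv_sup hg hgen)
  have hOLN : pCoreOf p L ≤ Subgroup.normalizer (Y : Set G) := by
    have hX : IsPGroup p ↥(pCoreOf p L ⊔ Y) :=
      (isPGroup_pCoreOf L).to_sup_of_normal_left' d.hYp (d.hYL.trans (le_normalizer_pCoreOf L))
    refine le_sup_left.trans (d.le_normalizer_of_lt (X := pCoreOf p L ⊔ Y) le_sup_right ?_)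
    refine lt_of_le_of_ne (sup_le (pCoreOf_le L) d.hYL) fun he => d.hYnL ?_
    exact d.hYL.trans (le_pCoreOf le_rfl (he ▸ hX) Subgroup.le_normalizer)
  set K : Subgroup G :=
    { carrier := {x | x ∈ H ∧ ∀ A B : Subgroup G, ChiefPair H (pCoreOf p H) A B → ∀ a ∈ A, ⁅x, a⁆ ∈ B}
      one_mem' := ⟨one_mem H, fun A B _ a _ => by simp⟩
      mul_mem' := fun {x y} hx hy => ⟨mul_mem hx.1 hy.1, fun A B hAB a ha => by
        rw [commutatorElement_mul_left_eq_conj_mul]
        exact mul_mem (conj_mem_of_le_normalizer hAB.normB hx.1 (hy.2 A B hAB a ha)) (hx.2 A B hAB a ha)⟩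
      inv_mem' := fun {x} hx => ⟨inv_mem hx.1, fun A B hAB a ha => by
        rw [commutatorElement_inv_left, ← commutatorElement_inv x a]
        simpa using conj_mem_of_le_normalizer hAB.normB (inv_mem hx.1) (inv_mem (hx.2 A B hAB a ha))⟩ } with hK
  have hKn : H ≤ Subgroup.normalizer (K : Set G) := le_normalizer_of_conj_mem fun l hl x hx =>
    ⟨mul_mem (mul_mem hl hx.1) (inv_mem hl), fun A B hAB a ha => by
      have h1 := conj_mem_of_le_normalizer hAB.normA (inv_mem hl) ha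
      rw [inv_inv] at h1
      have h2 := conj_mem_of_le_normalizer hAB.normB hl (hx.2 A B hAB _ h1)
      rwa [conjugate_commutatorElement, show l * (l⁻¹ * a * l) * l⁻¹ = a by group] at h2⟩
  have hKp : IsPGroup p ↥K := fun x => by
    obtain ⟨k, hk⟩ := mem_or_pow_coprime (p := p) (x : G)
    exact ⟨k, Subtype.ext (eq_one_of_chief_trivial d.hHc (pow_mem x.2.1 _) hk (pow_mem x.2 _).2)⟩
  refine le_pCoreOf (fun x hx => (show x ∈ H ∧ ∀ A B : Subgroup G, ChiefPair H (pCoreOf p H) A B →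
    ∀ a ∈ A, ⁅x, a⁆ ∈ B from hx).1) hKp hKn (show e ∈ K from ⟨d.hYH heY, fun A B hAB a ha => ?_⟩)
  obtain ⟨V, _, _, φ, π, hVp, hπs, hπk, hφ, hirr⟩ := exists_action hAB (isPGroup_pCoreOf H) (pCoreOf_le H)
  suffices hφ1 : φ ⟨e, d.hYH heY⟩ = 1 by
    have h2 := hφ ⟨e, d.hYH heY⟩ ⟨a, ha⟩
    rw [hφ1, MulAut.one_apply, eq_comm, ← mul_inv_eq_one, ← map_inv, ← map_mul, hπk] at h2
    simpa [commutatorElement_def] using h2
  by_cases hnc : ∃ g, φ g ≠ 1
  · refine (d.setting hAB φ π hπs hφ hirr hnc).eq_one_of_mem_Y g1 g2 (show (⟨e, d.hYH heY⟩ : ↥H) ∈ Y.subgroupOf H from heY) ?_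
    rintro - ⟨-, ⟨j, hj, rfl⟩, rfl⟩
    change φ _ (φ _ (π j)) * (φ _ (π j))⁻¹ ∈ _
    rw [hφ, hφ, ← map_inv, ← map_mul]
    refine ⟨π ⟨g⁻¹ * (e * (g * j * g⁻¹) * e⁻¹ * (g * j * g⁻¹)⁻¹) * g, ?_⟩, ⟨_, ⟨?_, Subtype.prop _⟩, rfl⟩, ?_⟩
    · have h1 : g * (j : G) * g⁻¹ ∈ A := conj_mem_of_le_normalizer hAB.normA (d.hLH hg) j.2
      have h2 := conj_mem_of_le_normalizer hAB.normA (inv_mem (d.hLH hg))
        (A.mul_mem (conj_mem_of_le_normalizer hAB.normA (d.hYH heY) h1) (A.inv_mem h1))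
      rwa [inv_inv] at h2
    · change g⁻¹ * (e * (g * (j : G) * g⁻¹) * e⁻¹ * (g * (j : G) * g⁻¹)⁻¹) * g ∈ Y
      have h1 : g⁻¹ * e * g ∈ Subgroup.normalizer (Y : Set G) := hOLN (by
        simpa using conj_mem_of_le_normalizer (le_normalizer_pCoreOf L) (inv_mem hg) heL)
      have h2 := Y.mul_mem (conj_mem_of_le_normalizer le_rfl h1 hj.1) (Y.inv_mem hj.1)
      change g⁻¹ * e * g * (j : G) * (g⁻¹ * e * g)⁻¹ * (j : G)⁻¹ ∈ Y at h2
      convert h2 using 1
      group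
    · change φ _ (π _) = _
      rw [hφ]
      congr 1
      apply Subtype.ext
      change g * (g⁻¹ * (e * (g * (j : G) * g⁻¹) * e⁻¹ * (g * (j : G) * g⁻¹)⁻¹) * g) * g⁻¹ = _
      simp [mul_assoc]
  · push Not at hnc
    exact hnc _

end Hyp

end CfsgLib.LocalCharP.AsymL
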