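import Cfsg.Agent.GlaubermanZJ.Centers
import Cfsg.Agent.GlaubermanZJ.CenterFunctor
import Cfsg.Agent.GlaubermanZJ.PStable
import Cfsg.Agent.GlaubermanZJ.AxB
import Cfsg.Agent.GlaubermanZJ.SylowNormal
import Cfsg.Agent.GlaubermanZJ.Constrained
import Cfsg.Agent.Constrained.PSolvable
import Cfsg.Agent.Coprime.Stabilizer
import Cfsg.Agent.Coprime.Minimal
import Cfsg.Agent.Coprime44.InvariantSylow
import Cfsg.Agent.FusModel.Section
import Cfsg.Agent.LocalP.ThompsonJ
import Cfsg.Agent.PGroup.Omega
import Cfsg.Agent.S0618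
import Mathlib.GroupTheory.SchurZassenhaus

/-!
A prime dividing the order of an automizer of a `p`-subgroup also divides the order of the automizer of a
subgroup normal in a Sylow `p`-subgroup, when the automizers are `p`-solvable.
-/

set_option autoImplicit false

namespace CfsgLib.LocalCharP.AutomizerPrime

open Cfsg

universe u v

variable {G : Type*} [Group G] {p q : ℕ}

/-- Some element of `q`-power order normalizes `K` without centralizing it. -/
def Moves (q : ℕ) (K : Subgroup G) : Prop :=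
  ∃ y : G, (∃ k, orderOf y = q ^ k) ∧ y ∈ Subgroup.normalizer (K : Set G) ∧
    y ∉ Subgroup.centralizer (K : Set G)

/-- A characteristic subgroup of `P` has image moved by a `q`-element. -/
def CharMoved {P : Type*} [Group P] {Y : Type*} [Group Y] (q : ℕ) (ι : P →* Y) : Prop :=
  ∃ K : Subgroup P, K.Characteristic ∧ Moves q (K.map ι)

/-- An element whose image has `q`-power order has a power of `q`-power order with the same image. -/
theorem exists_pow_lift [Finite G] [hq : Fact q.Prime] {H : Type*} [Group H] (f : G →* H) (x : G)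
    (h : ∃ k, orderOf (f x) = q ^ k) : ∃ e : ℕ, (∃ k, orderOf (x ^ e) = q ^ k) ∧ f (x ^ e) = f x := by
  obtain ⟨k, hk⟩ := h
  obtain ⟨a, m, hm, hxo⟩ := Nat.exists_eq_pow_mul_and_not_dvd (orderOf_pos x).ne' q hq.out.ne_one
  have hcop : (q ^ k).Coprime m := ((hq.out.coprime_iff_not_dvd).2 hm).pow_left k
  obtain ⟨e, he1, he0⟩ := Nat.chineseRemainder hcop 1 0
  obtain ⟨c, rfl⟩ := Nat.modEq_zero_iff_dvd.1 he0
  refine ⟨m * c, ?_, ?_⟩
  · have hd : orderOf (x ^ (m * c)) ∣ q ^ a := by
      apply orderOf_dvd_of_pow_eq_one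
      rw [← pow_mul, show m * c * q ^ a = orderOf x * c by rw [hxo]; ring, pow_mul, pow_orderOf_eq_one,
        one_pow]
    obtain ⟨j, -, hj⟩ := (Nat.dvd_prime_pow hq.out).1 hd
    exact ⟨j, hj⟩
  · rw [map_pow]
    have h1 : m * c ≡ 1 [MOD orderOf (f x)] := by rw [hk]; exact he1
    exact (pow_eq_pow_iff_modEq.2 h1).trans (pow_one _)

theorem orderOf_map_qpow [hq : Fact q.Prime] {H : Type*} [Group H] (f : G →* H) {x : G}
    (h : ∃ k, orderOf x = q ^ k) : ∃ k, orderOf (f x) = q ^ k := by
  obtain ⟨k, hk⟩ := h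
  obtain ⟨j, -, hj⟩ := (Nat.dvd_prime_pow hq.out).1 (hk ▸ orderOf_map_dvd f x)
  exact ⟨j, hj⟩

/-- The characteristic condition passes to subgroups of the ambient group. -/
theorem CharMoved.of_subgroup {P Y : Type*} [Group P] [Group Y] {ι : P →* Y} {Y₁ : Subgroup Y}
    (h : ∀ x, ι x ∈ Y₁) (hc : CharMoved q (ι.codRestrict Y₁ h)) : CharMoved q ι := by
  obtain ⟨K, hK, y, hy, hyn, hyc⟩ := hc
  have hmap : (K.map (ι.codRestrict Y₁ h)).map Y₁.subtype = K.map ι := by
    rw [Subgroup.map_map]; congr 1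
  refine ⟨K, hK, (y : Y), ?_, ?_, fun hc => hyc (Subgroup.mem_centralizer_iff.2 fun z hz => ?_)⟩
  · obtain ⟨k, hk⟩ := hy; exact ⟨k, by rwa [Subgroup.orderOf_coe]⟩
  · rw [← hmap]
    exact Subgroup.le_normalizer_map Y₁.subtype ⟨y, hyn, rfl⟩
  · exact Subtype.ext (Subgroup.mem_centralizer_iff.1 hc _ (hmap ▸ ⟨z, hz, rfl⟩))

/-- Lifting the characteristic condition from a quotient by a characteristic subgroup of `P`. -/
theorem CharMoved.of_quotient {P Y : Type*} [Group P] [Group Y] [Finite Y] [Fact q.Prime] (ι : P →* Y)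
    (Z : Subgroup P) [hZ : Z.Characteristic] [hn : (Z.map ι).Normal]
    (h : CharMoved q (QuotientGroup.map Z (Z.map ι) ι (Subgroup.le_comap_map ι Z))) :
    CharMoved q ι := by
  obtain ⟨K, hK, y, hy, hyn, hyc⟩ := h
  set ι' := QuotientGroup.map Z (Z.map ι) ι (Subgroup.le_comap_map ι Z) with hι'
  set g := QuotientGroup.mk' (Z.map ι) with hg
  set K₀ := K.comap (QuotientGroup.mk' Z) with hK₀
  have hfg : ∀ x, g (ι x) = ι' (QuotientGroup.mk' Z x) := fun x => rfl
  have hZK : Z ≤ K₀ := fun z hz => by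
    rw [hK₀, Subgroup.mem_comap]
    convert K.one_mem
    exact (QuotientGroup.eq_one_iff z).2 hz
  have hmap : (K₀.map ι).map g = K.map ι' := by
    rw [Subgroup.map_map, show g.comp ι = ι'.comp (QuotientGroup.mk' Z) from MonoidHom.ext hfg,
      ← Subgroup.map_map, hK₀, Subgroup.map_comap_eq_self_of_surjective (QuotientGroup.mk'_surjective Z)]
  have hcomap : K₀.map ι = (K.map ι').comap g := by
    refine le_antisymm (Subgroup.map_le_iff_le_comap.1 hmap.le) ?_
    intro x hx
    obtain ⟨w, hw, hwx⟩ : g x ∈ (K₀.map ι).map g := hmap.symm ▸ hx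
    have h1 : w⁻¹ * x ∈ Z.map ι := QuotientGroup.eq.1 hwx
    simpa using mul_mem hw (Subgroup.map_mono hZK h1)
  have hchar : K₀.Characteristic := by
    refine Subgroup.characteristic_iff_comap_eq.2 fun φ => ?_
    let φ' := QuotientGroup.congr Z Z φ (Subgroup.characteristic_iff_map_eq.1 hZ φ)
    have h' := Subgroup.characteristic_iff_comap_eq.1 hK φ'
    ext x
    exact (SetLike.ext_iff.1 h' (QuotientGroup.mk' Z x))
  obtain ⟨x, rfl⟩ := QuotientGroup.mk'_surjective (Z.map ι) y
  obtain ⟨e, he, hex⟩ := exists_pow_lift g x hy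
  refine ⟨K₀, hchar, x ^ e, he, ?_, fun hc => hyc ?_⟩
  · rw [hcomap]
    refine Subgroup.le_normalizer_comap g ?_
    rw [Subgroup.mem_comap, hex]
    exact hyn
  · rw [← hg, ← hex, Subgroup.mem_centralizer_iff]
    intro z hz
    obtain ⟨w, hw, rfl⟩ : z ∈ (K₀.map ι).map g := hmap.symm ▸ hz
    rw [← map_mul, ← map_mul, Subgroup.mem_centralizer_iff.1 hc w hw]

theorem center_map_le_centralizer {P Y : Type*} [Group P] [Group Y] {Z : Subgroup P}
    (hZ : Z ≤ Subgroup.center P) (ι : P →* Y) (x : P) :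
    ι x ∈ Subgroup.centralizer ((Z.map ι : Subgroup Y) : Set Y) := by
  rw [Subgroup.mem_centralizer_iff]
  rintro _ ⟨z, hz, rfl⟩
  rw [← map_mul, ← map_mul, (Subgroup.mem_center_iff.1 (hZ hz) x)]

theorem pCore_le_range [Finite G] [Fact p.Prime] {P : Type*} [Group P] {ι : P →* G}
    (hs : ∃ S : Sylow p G, (S : Subgroup G) = ι.range) : pCore p G ≤ ι.range := by
  obtain ⟨S, hS⟩ := hs
  exact hS ▸ IsPGroup.le_sylow_of_normal CfsgLib.Constrained.isPGroup_pCore S

/-- A subgroup containing a Sylow subgroup of a group of characteristic `p` has characteristic `p`. -/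
theorem charP_of_sylow_le [Finite G] [Fact p.Prime]
    (hc : Subgroup.centralizer (pCore p G : Set G) ≤ pCore p G) (S : Sylow p G) {R : Subgroup G}
    (hSR : (S : Subgroup G) ≤ R) : Subgroup.centralizer (pCore p R : Set R) ≤ pCore p R := by
  refine CfsgLib.LocalP.centralizer_pCore_le fun x hx hcop => ?_
  refine Subtype.ext (CfsgLib.LocalP.eq_one_of_centralizes_pCore hc (by rwa [Subgroup.orderOf_coe]) ?_)
  intro y hy
  have hyR : y ∈ R := hSR (IsPGroup.le_sylow_of_normal CfsgLib.Constrained.isPGroup_pCore S hy)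
  exact (congrArg Subtype.val (Subgroup.mem_centralizer_iff.1 hx ⟨y, hyR⟩
    (CfsgLib.Constrained.pCore_subgroupOf_le R hy))).symm

/-- A quotient by a central `p`-subgroup of a group of characteristic `p` has characteristic `p`. -/
theorem charP_quotient_central [Finite G] [hp : Fact p.Prime]
    (hc : Subgroup.centralizer (pCore p G : Set G) ≤ pCore p G) (Z : Subgroup G) [Z.Normal]
    (hZp : IsPGroup p Z) (hZ : Z ≤ Subgroup.center G) :
    Subgroup.centralizer (pCore p (G ⧸ Z) : Set (G ⧸ Z)) ≤ pCore p (G ⧸ Z) := by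
  refine CfsgLib.LocalP.centralizer_pCore_le fun x hx hcop => ?_
  obtain ⟨g, rfl⟩ := QuotientGroup.mk'_surjective Z x
  obtain ⟨k, m, hm, hgo⟩ := Nat.exists_eq_pow_mul_and_not_dvd (orderOf_pos g).ne' p hp.out.ne_one
  have hmcop : m.Coprime p := ((hp.out.coprime_iff_not_dvd).2 hm).symm
  have hacop : (orderOf (g ^ p ^ k)).Coprime p := by
    refine Nat.Coprime.coprime_dvd_left (orderOf_dvd_of_pow_eq_one ?_) hmcop
    rw [← pow_mul, ← hgo, pow_orderOf_eq_one]
  have ha : g ^ p ^ k = 1 := by
    refine CfsgLib.LocalP.eq_one_of_centralizes_pCore hc hacop fun h hh => ?_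
    have hcomm : QuotientGroup.mk' Z (g ^ p ^ k) * QuotientGroup.mk' Z h
        = QuotientGroup.mk' Z h * QuotientGroup.mk' Z (g ^ p ^ k) := by
      refine (Subgroup.mem_centralizer_iff.1 ?_ _
        (CfsgLib.Constrained.map_pCore_le _ (QuotientGroup.mk'_surjective Z) ⟨h, hh, rfl⟩)).symm
      rw [map_pow]
      exact pow_mem hx _
    have hmem : g ^ p ^ k * h * (g ^ p ^ k)⁻¹ * h⁻¹ ∈ Z := by
      rw [← QuotientGroup.eq_one_iff]
      change QuotientGroup.mk' Z (g ^ p ^ k * h * (g ^ p ^ k)⁻¹ * h⁻¹) = 1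
      simp only [map_mul, map_inv]
      rw [hcomm]; group
    refine (Coprime.commute_of_commute_commutator_mem (H := Z) ?_ hmem ?_)
    · exact Subgroup.mem_center_iff.1 (hZ hmem) _
    · obtain ⟨j, hj⟩ := IsPGroup.iff_card.1 hZp
      exact hj ▸ hacop.pow_right j
  have h1 : orderOf (QuotientGroup.mk' Z g) ∣ p ^ k :=
    orderOf_dvd_of_pow_eq_one (by rw [← map_pow, ha, map_one])
  exact orderOf_eq_one_iff.1 (Nat.Coprime.eq_one_of_dvd (hcop.pow_right k) h1)

theorem card_comap [Finite G] (N : Subgroup G) [N.Normal] (R : Subgroup (G ⧸ N)) :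
    Nat.card (R.comap (QuotientGroup.mk' N)) = Nat.card R * Nat.card N := by
  have h1 := (R.comap (QuotientGroup.mk' N)).card_mul_index
  rw [Subgroup.index_comap_of_surjective _ (QuotientGroup.mk'_surjective N)] at h1
  have h2 := R.card_mul_index
  have h3 : Nat.card G = Nat.card (G ⧸ N) * Nat.card N :=
    Subgroup.card_eq_card_quotient_mul_card_subgroup _
  rw [← h1, ← h2] at h3
  exact Nat.eq_of_mul_eq_mul_right (Nat.pos_of_ne_zero Subgroup.index_ne_zero_of_finite)
    (h3.trans (by ring))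

theorem mem_of_two_primes [Finite G] [hp : Fact p.Prime] [hq : Fact q.Prime] (hpq : p ≠ q)
    (hdiv : ∀ r, r.Prime → r ∣ Nat.card G → r = p ∨ r = q) (h : ¬ q ∣ Nat.card G) : IsPGroup p G := by
  refine IsPGroup.of_card (n := (Nat.card G).primeFactorsList.length) ?_
  refine Nat.eq_prime_pow_of_unique_prime_dvd (Nat.card_pos.ne') fun {r} hr hrd => ?_
  rcases hdiv r hr hrd with h' | h'
  · exact h'
  · exact absurd (h' ▸ hrd) h

/-- The inductive core: a `p`-solvable group of characteristic `p` involving only the primes `p` and `q`. -/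
theorem charMoved_core [hp : Fact p.Prime] [hq : Fact q.Prime] (hpq : p ≠ q)
    (h23 : ¬ ((p = 2 ∧ q = 3) ∨ (p = 3 ∧ q = 2))) :
    ∀ (n : ℕ) (P : Type u) [Group P] (Y : Type v) [Group Y] [Finite Y] (ι : P →* Y),
      Nat.card Y = n → Function.Injective ι → (∃ S : Sylow p Y, (S : Subgroup Y) = ι.range) →
      IsPSolvable p Y → Subgroup.centralizer (pCore p Y : Set Y) ≤ pCore p Y → q ∣ Nat.card Y →
      (∀ r, r.Prime → r ∣ Nat.card Y → r = p ∨ r = q) → CharMoved q ι := by
  intro n
  induction n using Nat.strong_induction_on with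
  | _ n ih =>
    intro P _ Y _ _ ι hn hinj hS hsol hc hqY hdiv
    obtain ⟨S, hSι⟩ := hS
    haveI : Finite P := Finite.of_injective ι hinj
    have hP : IsPGroup p P := (hSι ▸ S.isPGroup' : IsPGroup p ι.range).of_injective
      ι.rangeRestrict (fun a b h => hinj (congrArg Subtype.val h))
    obtain ⟨y, hy⟩ := exists_prime_orderOf_dvd_card' q hqY
    haveI hPnt : Nontrivial P := by
      by_contra hnt
      rw [not_nontrivial_iff_subsingleton] at hnt
      have hcore : pCore p Y = ⊥ := le_bot_iff.1 ((pCore_le_range ⟨S, hSι⟩).trans (by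
        rintro _ ⟨x, rfl⟩; rw [Subsingleton.elim x 1, map_one]; exact one_mem _))
      have hy1 : y = 1 := Subgroup.mem_bot.1 (hcore ▸ hc (Subgroup.mem_centralizer_iff.2 fun z hz => by
        rw [hcore] at hz; rw [Subgroup.mem_bot.1 hz, one_mul, mul_one]))
      rw [hy1, orderOf_one] at hy
      exact hq.out.ne_one hy.symm
    -- passing to the centralizer of a central characteristic subgroup
    have descend : ∀ Z : Subgroup P, Z.Characteristic → Z ≤ Subgroup.center P → Z ≠ ⊥ →
        q ∣ Nat.card (Subgroup.centralizer ((Z.map ι : Subgroup Y) : Set Y)) → CharMoved q ι := by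
      intro Z hZ hZc hZ1 hqZ
      set Y₁ := Subgroup.centralizer ((Z.map ι : Subgroup Y) : Set Y) with hY₁
      have hmem : ∀ x, ι x ∈ Y₁ := center_map_le_centralizer hZc ι
      refine CharMoved.of_subgroup hmem ?_
      set κ := ι.codRestrict Y₁ hmem with hκ
      have hκi : Function.Injective κ := fun a b h => hinj (congrArg Subtype.val h)
      have hSY : (S : Subgroup Y) ≤ Y₁ := by
        rw [hSι]; rintro _ ⟨x, rfl⟩; exact hmem x
      have hκr : ((S.subtype hSY : Sylow p Y₁) : Subgroup Y₁) = κ.range := by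
        ext w
        rw [Sylow.coe_subtype, Subgroup.mem_subgroupOf, hSι]
        constructor
        · rintro ⟨x, hx⟩; exact ⟨x, Subtype.ext hx⟩
        · rintro ⟨x, rfl⟩; exact ⟨x, rfl⟩
      have hcen : Z.map κ ≤ Subgroup.center Y₁ := by
        rintro _ ⟨z, hz, rfl⟩
        exact Subgroup.mem_center_iff.2 fun w =>
          Subtype.ext (Subgroup.mem_centralizer_iff.1 w.2 (ι z) ⟨z, hz, rfl⟩).symm
      haveI hZn : (Z.map κ).Normal := ⟨fun z hz g => by
        rw [Subgroup.mem_center_iff.1 (hcen hz) g, mul_inv_cancel_right]; exact hz⟩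
      haveI := hZ
      refine CharMoved.of_quotient κ Z ?_
      set κ' := QuotientGroup.map Z (Z.map κ) κ (Subgroup.le_comap_map κ Z) with hκ'
      have hZp : IsPGroup p (Z.map κ) := (hP.to_subgroup Z).map κ
      have hZ1' : Z.map κ ≠ ⊥ := fun h => hZ1 ((Subgroup.map_eq_bot_iff_of_injective _ hκi).1 h)
      have hcard : Nat.card (Y₁ ⧸ Z.map κ) * Nat.card (Z.map κ) = Nat.card Y₁ :=
        (Subgroup.card_eq_card_quotient_mul_card_subgroup _).symm
      have hlt : Nat.card (Y₁ ⧸ Z.map κ) < n := by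
        calc Nat.card (Y₁ ⧸ Z.map κ) < Nat.card (Y₁ ⧸ Z.map κ) * Nat.card (Z.map κ) :=
              lt_mul_of_one_lt_right Nat.card_pos (Subgroup.one_lt_card_iff_ne_bot _ |>.2 hZ1')
          _ ≤ n := by
              rw [hcard, ← hn]
              exact Nat.le_of_dvd Nat.card_pos (Subgroup.card_subgroup_dvd_card _)
      refine ih _ hlt (P ⧸ Z) (Y₁ ⧸ Z.map κ) κ' rfl ?_ ?_ ?_ ?_ ?_ ?_
      · refine (injective_iff_map_eq_one _).2 fun x hx => ?_
        obtain ⟨x, rfl⟩ := QuotientGroup.mk'_surjective Z x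
        obtain ⟨z, hz, hzx⟩ := (QuotientGroup.eq_one_iff (κ x)).1 hx
        exact (QuotientGroup.eq_one_iff x).2 (hκi hzx ▸ hz)
      · refine ⟨(S.subtype hSY).mapSurjective (QuotientGroup.mk'_surjective (Z.map κ)), ?_⟩
        rw [Sylow.coe_mapSurjective, hκr, MonoidHom.map_range]
        ext w
        constructor
        · rintro ⟨x, rfl⟩; exact ⟨QuotientGroup.mk' Z x, rfl⟩
        · rintro ⟨x, rfl⟩
          obtain ⟨x, rfl⟩ := QuotientGroup.mk'_surjective Z x
          exact ⟨x, rfl⟩
      · exact CfsgLib.Constrained.IsPSolvable.quotient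
          (CfsgLib.Constrained.IsPSolvable.subgroup hsol Y₁) _
      · exact charP_quotient_central (charP_of_sylow_le hc S hSY) _ hZp hcen
      · obtain ⟨j, hj⟩ := IsPGroup.iff_card.1 hZp
        refine (Nat.Coprime.dvd_of_dvd_mul_right ?_ (hcard.symm ▸ hqZ))
        rw [hj]
        exact ((Nat.coprime_primes hq.out hp.out).2 hpq.symm).pow_right j
      · intro r hr hrd
        exact hdiv r hr ((hrd.trans (Dvd.intro _ hcard)).trans (Subgroup.card_subgroup_dvd_card _))
    have hqord : ∀ x : Y, orderOf x = q → ∃ k, orderOf x = q ^ k := fun x hx => ⟨1, by simp [hx]⟩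
    by_cases hp2 : p = 2
    · -- Thompson factorization
      subst hp2
      have hq5 : q ≠ 3 := fun h => h23 (Or.inl ⟨rfl, h⟩)
      have hO : pPrimeCore 2 Y = ⊥ := by
        refine le_bot_iff.1 fun x hx => ?_
        refine Subgroup.mem_bot.2 (CfsgLib.LocalP.eq_one_of_centralizes_pCore hc ?_
          (fun z hz => (CfsgLib.Constrained.commute_pCore_pPrimeCore hz hx).symm))
        exact CfsgLib.Constrained.pPrimeCore_coprime.coprime_dvd_left
          ((pPrimeCore 2 Y).orderOf_dvd_natCard hx)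
      have hfac : IsThompsonFactorizable 2 Y := by
        by_contra hnf
        obtain ⟨-, E, -, -, -, hnE, ⟨e⟩⟩ := Cfsg.Agent.S0618.result hsol hO hnf
        have h6 : Nat.card (Matrix.SpecialLinearGroup (Fin 2) (ZMod 2)) = 6 := by
          rw [Nat.card_eq_fintype_card]; decide
        have h3 : 3 ∣ Nat.card Y := by
          refine (show 3 ∣ 6 by norm_num).trans ?_
          rw [← h6, ← Nat.card_congr e.toEquiv]
          exact (Subgroup.card_quotient_dvd_card _).trans (Subgroup.card_subgroup_dvd_card E)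
        rcases hdiv 3 Nat.prime_three h3 with h | h
        · norm_num at h
        · exact hq5 h.symm
      set T := ι.range with hT
      set Z := omegaOne 2 (⊤ ⊓ Subgroup.center P) with hZdef
      have hrange : T = (⊤ : Subgroup P).map ι := MonoidHom.range_eq_map ι
      have hZmap : Z.map ι = omegaOne 2 (T ⊓ Subgroup.centralizer (T : Set Y)) := by
        rw [hZdef, omegaOne, omegaOne, MonoidHom.map_closure]
        congr 1
        ext w
        constructor
        · rintro ⟨z, ⟨⟨-, hz⟩, hz2⟩, rfl⟩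
          refine ⟨⟨⟨z, rfl⟩, Subgroup.mem_centralizer_iff.2 ?_⟩, by rw [← map_pow, hz2, map_one]⟩
          rintro _ ⟨x, rfl⟩
          rw [← map_mul, ← map_mul, Subgroup.mem_center_iff.1 hz x]
        · rintro ⟨⟨⟨z, rfl⟩, hz⟩, hz2⟩
          refine ⟨z, ⟨⟨trivial, Subgroup.mem_center_iff.2 fun x => hinj ?_⟩, hinj ?_⟩, rfl⟩
          · rw [map_mul, map_mul, Subgroup.mem_centralizer_iff.1 hz (ι x) ⟨x, rfl⟩]
          · rw [map_pow, hz2, map_one]
      have hZc : Z ≤ Subgroup.center P := (Subgroup.closure_le _).2 fun z hz => hz.1.2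
      have hZchar : Z.Characteristic := by
        refine Subgroup.characteristic_iff_map_le.2 fun φ => ?_
        rw [hZdef, omegaOne, MonoidHom.map_closure]
        refine (Subgroup.closure_le _).2 ?_
        rintro _ ⟨z, ⟨⟨-, hz⟩, hz2⟩, rfl⟩
        refine Subgroup.subset_closure ⟨⟨trivial, Subgroup.mem_center_iff.2 fun x => ?_⟩, ?_⟩
        · obtain ⟨x, rfl⟩ := φ.surjective x
          simp [← map_mul, Subgroup.mem_center_iff.1 hz x]
        · simp [← map_pow, hz2]
      have hZ1 : Z ≠ ⊥ := by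
        intro h
        haveI := hP.center_nontrivial
        obtain ⟨z, hz⟩ := exists_prime_orderOf_dvd_card' 2
          ((hP.to_subgroup (Subgroup.center P)).card_eq_or_dvd.resolve_left
            (Finite.one_lt_card (α := Subgroup.center P)).ne')
        have hzZ : (z : P) ∈ Z := Subgroup.subset_closure ⟨⟨trivial, z.2⟩, by
          rw [← Subgroup.coe_pow, ← hz, pow_orderOf_eq_one]; rfl⟩
        rw [h, Subgroup.mem_bot] at hzZ
        rw [show z = 1 from Subtype.ext hzZ, orderOf_one] at hz
        norm_num at hz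
      set J := thompsonSubgroup 2 P with hJ
      have hJchar : J.Characteristic := CfsgLib.LocalP.thompsonSubgroup_characteristic
      have hJmap : J.map ι = thompsonSubgroupOf 2 T := CfsgLib.LocalP.thompsonSubgroup_map ι hinj
      have hTC : T ≤ Subgroup.centralizer ((Z.map ι : Subgroup Y) : Set Y) := by
        rintro _ ⟨x, rfl⟩; exact center_map_le_centralizer hZc ι x
      have hTN : T ≤ Subgroup.normalizer ((J.map ι : Subgroup Y) : Set Y) := by
        rw [hJmap]; exact Subgroup.le_normalizer.trans (CfsgLib.LocalP.le_normalizer_thompsonSubgroupOf T)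
      by_cases hqC : q ∣ Nat.card (Subgroup.centralizer ((Z.map ι : Subgroup Y) : Set Y))
      · exact descend Z hZchar hZc hZ1 hqC
      · have hCT : Subgroup.centralizer ((Z.map ι : Subgroup Y) : Set Y) = T := by
          have hCp : IsPGroup 2 (Subgroup.centralizer ((Z.map ι : Subgroup Y) : Set Y)) :=
            mem_of_two_primes hpq
              (fun r hr hrd => hdiv r hr (hrd.trans (Subgroup.card_subgroup_dvd_card _))) hqC
          rw [← hSι] at hTC ⊢
          exact S.is_maximal' hCp hTC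
        have hN : (⊤ : Subgroup Y) ≤ Subgroup.normalizer ((J.map ι : Subgroup Y) : Set Y) := by
          intro g _
          obtain ⟨x, hx, c, hc', m, hm, rfl⟩ := hfac S g
          rw [hO, Subgroup.mem_bot] at hx
          rw [hSι, ← hZmap] at hc'
          rw [hSι, ← hJmap] at hm
          exact mul_mem (by rw [hx, one_mul]; exact hTN (hCT ▸ hc')) hm
        refine ⟨J, hJchar, y, hqord y hy, hN (Subgroup.mem_top y), fun hyc => ?_⟩
        have hyC : y ∈ Subgroup.centralizer ((Z.map ι : Subgroup Y) : Set Y) := by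
          refine Subgroup.mem_centralizer_iff.2 ?_
          rintro _ ⟨z, hz, rfl⟩
          refine Subgroup.mem_centralizer_iff.1 hyc (ι z) ⟨z, ?_, rfl⟩
          revert z
          show Z ≤ J
          refine (Subgroup.closure_le _).2 fun z hz => ?_
          exact CfsgLib.LocalP.mem_thompsonSubgroup_of_centralizes
            (Subgroup.center_le_centralizer _ hz.1.2) hz.2
        exact hqC (hy ▸ Subgroup.orderOf_dvd_natCard _ hyC)
    · -- Glauberman's ZJ theorem
      have hst : ∀ (U : Subgroup Y) [U.Normal], IsPGroup p U → IsPStableOn p U := by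
        intro U _ hU
        by_cases hp3 : p = 3
        · refine GlaubermanZJ.isPStableOn_of_isPSolvable_abelian_two hp2 hsol (fun T => ?_) U hU
          obtain ⟨k, hk⟩ := IsPGroup.iff_card.1 T.isPGroup'
          rcases Nat.eq_zero_or_pos k with rfl | hk0
          · haveI : Subsingleton (T : Subgroup Y) :=
              (Nat.card_eq_one_iff_unique.1 (by simpa using hk)).1
            exact ⟨⟨fun a b => Subsingleton.elim _ _⟩⟩
          · rcases hdiv 2 Nat.prime_two ((dvd_pow_self 2 hk0.ne').trans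
              (hk ▸ Subgroup.card_subgroup_dvd_card _)) with h | h
            · exact absurd h.symm hp2
            · exact absurd (Or.inr ⟨hp3, h.symm⟩) h23
        · refine GlaubermanZJ.isPStableOn_of_isPSolvable_five_le ?_ hsol U hU
          have := hp.out.two_le
          rcases Nat.lt_or_ge p 5 with h | h
          · interval_cases p <;> first | omega | exact absurd hp.out (by decide)
          · exact h
      have hZJ := GlaubermanZJ.glauberman_zj hp2 hc hst S
      rw [hSι] at hZJ
      set K := (centerThompsonAOf ι.range).comap ι with hKdef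
      have hKmap : K.map ι = centerThompsonAOf ι.range := Subgroup.map_comap_eq_self
        ((GlaubermanZJ.abelianCenter p).obj_le Y ι.range)
      have hK' : K = centerThompsonAOf (⊤ : Subgroup P) := by
        apply Subgroup.map_injective hinj
        rw [hKmap]
        rw [GlaubermanZJ.centerThompsonAOf_eq_sInf, GlaubermanZJ.centerThompsonAOf_eq_sInf]
        exact (GlaubermanZJ.map_sInf_maxIn (E := fun A : Subgroup P => IsMulCommutative A)
          (E' := fun A : Subgroup Y => IsMulCommutative A) ⟨⟨fun a b => Subsingleton.elim _ _⟩⟩ ι hinj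
          (fun A => GlaubermanZJ.isMulCommutative_map_iff ι hinj A)).symm
      have hKchar : K.Characteristic := by
        rw [hK', Subgroup.characteristic_iff_map_eq]
        intro φ
        have h := (GlaubermanZJ.abelianCenter p).obj_map P P φ.toMonoidHom ⊤
          (φ.injective.comp (Subgroup.subtype_injective _))
        rwa [Subgroup.map_top_of_surjective _ φ.surjective] at h
      by_cases hyc : y ∈ Subgroup.centralizer ((K.map ι : Subgroup Y) : Set Y)
      · refine descend (Subgroup.center P) inferInstance le_rfl ?_ ?_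
        · haveI := hP.center_nontrivial
          exact (Subgroup.nontrivial_iff_ne_bot _).1 inferInstance
        · refine hy ▸ Subgroup.orderOf_dvd_natCard _ ?_
          refine Subgroup.centralizer_le ?_ hyc
          refine Subgroup.map_mono (fun z hz => ?_)
          rw [hK', GlaubermanZJ.centerThompsonAOf_eq_sInf, Subgroup.mem_sInf]
          exact fun A hA => GlaubermanZJ.mem_of_centralizes_abelian hA trivial
            fun a _ => Subgroup.mem_center_iff.1 hz a
      · refine ⟨K, hKchar, y, hqord y hy, ?_, hyc⟩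
        rw [hKmap]
        haveI := hZJ
        exact Subgroup.le_normalizer_of_normal (Subgroup.mem_top y)

/-- A `p`-solvable group has a `{p, q}`-subgroup above a Sylow `p`-subgroup of order divisible by `q`. -/
theorem exists_two_prime_subgroup [hp : Fact p.Prime] [hq : Fact q.Prime] (hpq : p ≠ q) :
    ∀ (n : ℕ) (Y : Type v) [Group Y] [Finite Y] (S : Sylow p Y), Nat.card Y = n → IsPSolvable p Y →
      q ∣ Nat.card Y → ∃ R : Subgroup Y, (S : Subgroup Y) ≤ R ∧ q ∣ Nat.card R ∧
        ∀ r, r.Prime → r ∣ Nat.card R → r = p ∨ r = q := by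
  intro n
  induction n using Nat.strong_induction_on with
  | _ n ih =>
    intro Y _ _ S hn hsol hqY
    haveI : Nontrivial Y := Finite.one_lt_card_iff_nontrivial.1
      (hq.out.one_lt.trans_le (Nat.le_of_dvd Nat.card_pos hqY))
    obtain ⟨N, hNn, hN1, hNp⟩ : ∃ N : Subgroup Y, N.Normal ∧ N ≠ ⊥ ∧
        (IsPGroup p N ∨ ¬ p ∣ Nat.card N) := by
      rcases CfsgLib.Constrained.IsPSolvable.core_ne_bot hsol with h | h
      · exact ⟨_, inferInstance, h, Or.inl CfsgLib.Constrained.isPGroup_pCore⟩
      · exact ⟨_, inferInstance, h, Or.inr CfsgLib.Constrained.pPrimeCore_not_dvd⟩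
    by_cases hqN : q ∣ Nat.card N
    · have hNp' : ¬ p ∣ Nat.card N := hNp.resolve_left fun h => by
        obtain ⟨k, hk⟩ := IsPGroup.iff_card.1 h
        exact hpq ((Nat.prime_dvd_prime_iff_eq hq.out hp.out).1 (hq.out.dvd_of_dvd_pow (hk ▸ hqN))).symm
      obtain ⟨Q₀, hQ⟩ := Coprime44.exists_invariant_sylow S.isPGroup' hNp'
        (Subgroup.le_normalizer_of_normal (H := N) |>.trans' le_top) q
      set Q := (Q₀ : Subgroup N).map N.subtype with hQdef
      have hQq : IsPGroup q Q := Q₀.isPGroup'.map _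
      refine ⟨(S : Subgroup Y) ⊔ Q, le_sup_left, ?_, fun r hr hrd => ?_⟩
      · refine dvd_trans ?_ (Subgroup.card_dvd_of_le (le_sup_right : Q ≤ (S : Subgroup Y) ⊔ Q))
        rw [hQdef, Subgroup.card_map_of_injective N.subtype_injective]
        exact Q₀.dvd_card_of_dvd_card hqN
      · haveI := Fact.mk hr
        obtain ⟨x, hx⟩ := exists_prime_orderOf_dvd_card' r hrd
        have hxm : (x : Y) ∈ ((((S : Subgroup Y) ⊔ Q : Subgroup Y)) : Set Y) := x.2
        rw [Subgroup.coe_mul_of_left_le_normalizer_right (S : Subgroup Y) Q hQ] at hxm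
        obtain ⟨s, hs, t, ht, hst⟩ := hxm
        have hkey : ∀ j : ℕ, (s * t) ^ j * (s ^ j)⁻¹ ∈ Q := by
          intro j
          induction j with
          | zero => simp
          | succ j ihj =>
            have h1 := (Subgroup.mem_normalizer_iff.1 (hQ (pow_mem hs (j + 1))) t).1 ht
            have h2 : (s * t) ^ (j + 1) * (s ^ (j + 1))⁻¹
                = ((s * t) ^ j * (s ^ j)⁻¹) * (s ^ (j + 1) * t * (s ^ (j + 1))⁻¹) := by
              rw [pow_succ (s * t) j, pow_succ s j]; group
            rw [h2]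
            exact mul_mem ihj h1
        have h := hkey (Nat.card (S : Subgroup Y))
        have hs1 : s ^ Nat.card (S : Subgroup Y) = 1 :=
          congrArg Subtype.val (pow_card_eq_one' (x := (⟨s, hs⟩ : (S : Subgroup Y))))
        change s * t = (x : Y) at hst
        rw [hs1, inv_one, mul_one, hst] at h
        have h2 : orderOf (x : Y) ∣ Nat.card (S : Subgroup Y) * Nat.card Q := by
          apply orderOf_dvd_of_pow_eq_one
          rw [pow_mul]
          exact congrArg Subtype.val (pow_card_eq_one' (x := (⟨_, h⟩ : Q)))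
        rw [Subgroup.orderOf_coe, hx] at h2
        obtain ⟨a, ha⟩ := IsPGroup.iff_card.1 S.isPGroup'
        obtain ⟨b, hb⟩ := IsPGroup.iff_card.1 hQq
        rw [ha, hb] at h2
        rcases hr.dvd_mul.1 h2 with h3 | h3
        · exact Or.inl ((Nat.prime_dvd_prime_iff_eq hr hp.out).1 (hr.dvd_of_dvd_pow h3))
        · exact Or.inr ((Nat.prime_dvd_prime_iff_eq hr hq.out).1 (hr.dvd_of_dvd_pow h3))
    · have hcard : Nat.card Y = Nat.card (Y ⧸ N) * Nat.card N :=
        Subgroup.card_eq_card_quotient_mul_card_subgroup _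
      have hqQ : q ∣ Nat.card (Y ⧸ N) :=
        (hq.out.dvd_mul.1 (hcard ▸ hqY)).resolve_right hqN
      have hlt : Nat.card (Y ⧸ N) < n := by
        rw [← hn, hcard]
        exact lt_mul_of_one_lt_right Nat.card_pos (Subgroup.one_lt_card_iff_ne_bot _ |>.2 hN1)
      obtain ⟨R, hSR, hqR, hRdiv⟩ := ih _ hlt (Y ⧸ N)
        (S.mapSurjective (QuotientGroup.mk'_surjective N)) rfl
        (CfsgLib.Constrained.IsPSolvable.quotient hsol N) hqQ
      set R₁ := R.comap (QuotientGroup.mk' N) with hR₁
      have hSR₁ : (S : Subgroup Y) ≤ R₁ := Subgroup.map_le_iff_le_comap.1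
        (by rwa [Sylow.coe_mapSurjective] at hSR)
      have hNR : N ≤ R₁ := by
        intro x hx
        rw [hR₁, Subgroup.mem_comap]
        convert R.one_mem
        exact (QuotientGroup.eq_one_iff x).2 hx
      have hR₁card : Nat.card R₁ = Nat.card R * Nat.card N :=
        card_comap N R
      rcases hNp with hNp | hNp
      · refine ⟨R₁, hSR₁, hR₁card ▸ dvd_mul_of_dvd_left hqR _, fun r hr hrd => ?_⟩
        rcases hr.dvd_mul.1 (hR₁card ▸ hrd) with h | h
        · exact hRdiv r hr h
        · obtain ⟨a, ha⟩ := IsPGroup.iff_card.1 hNp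
          exact Or.inl ((Nat.prime_dvd_prime_iff_eq hr hp.out).1 (hr.dvd_of_dvd_pow (ha ▸ h)))
      · by_cases htop : R₁ = ⊤
        · have hcop : Nat.Coprime (Nat.card N) N.index := by
            refine Nat.coprime_of_dvd fun r hr hrN hrI => ?_
            have hindex : N.index = Nat.card R := by
              have h := N.card_mul_index
              rw [← Subgroup.card_top (G := Y), ← htop, hR₁card, mul_comm (Nat.card R)] at h
              exact Nat.eq_of_mul_eq_mul_left Nat.card_pos h
            rcases hRdiv r hr (hindex ▸ hrI) with rfl | rfl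
            · exact hNp hrN
            · exact hqN hrN
          obtain ⟨L, hL⟩ := Subgroup.exists_right_complement'_of_coprime hcop
          have hLcard : Nat.card L = Nat.card R := by
            have h := hL.card_mul
            rw [← Subgroup.card_top (G := Y), ← htop, hR₁card, mul_comm (Nat.card R)] at h
            exact Nat.eq_of_mul_eq_mul_left Nat.card_pos h
          obtain ⟨SL⟩ : Nonempty (Sylow p L) := inferInstance
          obtain ⟨S', hS'⟩ := (SL.isPGroup'.map L.subtype).exists_le_sylow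
          have hfac : (Nat.card Y).factorization p = (Nat.card L).factorization p := by
            rw [← hL.card_mul, Nat.factorization_mul Nat.card_pos.ne' Nat.card_pos.ne',
              Finsupp.add_apply, Nat.factorization_eq_zero_of_not_dvd hNp, zero_add]
          have hS'eq : (SL : Subgroup L).map L.subtype = S' := by
            refine Subgroup.eq_of_le_of_card_ge hS' ?_
            rw [Subgroup.card_map_of_injective L.subtype_injective, Sylow.card_eq_multiplicity,
              Sylow.card_eq_multiplicity, hfac]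
          obtain ⟨g, hg⟩ := MulAction.exists_smul_eq Y S' S
          refine ⟨L.map (MulAut.conj g).toMonoidHom, ?_, ?_, ?_⟩
          · rw [← hg, Sylow.coe_subgroup_smul, ← hS'eq]
            rintro _ ⟨w, hw, rfl⟩
            exact ⟨w, Subgroup.map_subtype_le _ hw, rfl⟩
          · rw [Subgroup.card_map_of_injective (MulAut.conj g).injective, hLcard]; exact hqR
          · intro r hr hrd
            rw [Subgroup.card_map_of_injective (MulAut.conj g).injective, hLcard] at hrd
            exact hRdiv r hr hrd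
        · have hlt' : Nat.card R₁ < n := by
            rw [← hn]
            refine lt_of_le_of_ne (Nat.le_of_dvd Nat.card_pos (Subgroup.card_subgroup_dvd_card _))
              fun h => htop (R₁.eq_top_of_card_eq h)
          obtain ⟨R', hSR', hqR', hR'div⟩ := ih _ hlt' R₁ (S.subtype hSR₁) rfl
            (CfsgLib.Constrained.IsPSolvable.subgroup hsol R₁) (hR₁card ▸ dvd_mul_of_dvd_left hqR _)
          refine ⟨R'.map R₁.subtype, fun x hx => ⟨⟨x, hSR₁ hx⟩, hSR' hx, rfl⟩, ?_, ?_⟩
          · rwa [Subgroup.card_map_of_injective R₁.subtype_injective]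
          · intro r hr hrd
            rw [Subgroup.card_map_of_injective R₁.subtype_injective] at hrd
            exact hR'div r hr hrd

/-- A `p`-solvable group of characteristic `p` of order divisible by `q`. -/
theorem charMoved_of_charP [hp : Fact p.Prime] [hq : Fact q.Prime] (hpq : p ≠ q)
    (h23 : ¬ ((p = 2 ∧ q = 3) ∨ (p = 3 ∧ q = 2))) {P Y : Type*} [Group P] [Group Y] [Finite Y]
    (ι : P →* Y) (hinj : Function.Injective ι) (hS : ∃ S : Sylow p Y, (S : Subgroup Y) = ι.range)
    (hsol : IsPSolvable p Y) (hc : Subgroup.centralizer (pCore p Y : Set Y) ≤ pCore p Y)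
    (hqY : q ∣ Nat.card Y) : CharMoved q ι := by
  obtain ⟨S, hSι⟩ := hS
  obtain ⟨R, hSR, hqR, hRdiv⟩ := exists_two_prime_subgroup hpq _ Y S rfl hsol hqY
  have hmem : ∀ x, ι x ∈ R := fun x => hSR (hSι ▸ ⟨x, rfl⟩)
  refine CharMoved.of_subgroup hmem (charMoved_core hpq h23 _ P R (ι.codRestrict R hmem) rfl
    (fun a b h => hinj (congrArg Subtype.val h)) ⟨S.subtype hSR, ?_⟩
    (CfsgLib.Constrained.IsPSolvable.subgroup hsol R) (charP_of_sylow_le hc S hSR) hqR hRdiv)
  ext w
  rw [Sylow.coe_subtype, Subgroup.mem_subgroupOf, hSι]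
  constructor
  · rintro ⟨x, hx⟩; exact ⟨x, Subtype.ext hx⟩
  · rintro ⟨x, rfl⟩; exact ⟨x, rfl⟩

/-- The local form: `H` is normal and contains the `p`-part of its centralizer. -/
theorem charMoved_of_normal [Finite G] [hp : Fact p.Prime] [hq : Fact q.Prime] (hpq : p ≠ q)
    (h23 : ¬ ((p = 2 ∧ q = 3) ∨ (p = 3 ∧ q = 2))) (H : Subgroup G) [hHn : H.Normal]
    (hH : IsPGroup p H) (T : Sylow p G)
    (hTC : (T : Subgroup G) ⊓ Subgroup.centralizer (H : Set G) ≤ H)
    (hsol : IsPSolvable p (G ⧸ Subgroup.centralizer (H : Set G))) (hx : Moves q H) :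
    CharMoved q (T : Subgroup G).subtype := by
  obtain ⟨x, hxq, -, hxC⟩ := hx
  set C := Subgroup.centralizer (H : Set G) with hC
  obtain ⟨Pc, hPc⟩ := GlaubermanZJ.exists_sylow_map_eq_inf T C
  have hcent : ∀ y ∈ (Pc : Subgroup C), ∀ g : C, g * y = y * g := fun y hy g =>
    Subtype.ext (Subgroup.mem_centralizer_iff.1 g.2 _ (hTC (hPc.le ⟨y, hy, rfl⟩))).symm
  obtain ⟨f, hf, hdec⟩ := FusModel.exists_complement_of_central Pc hcent
  set N := (pPrimeCore p C).map C.subtype with hN
  haveI hCn : C.Normal := Subgroup.normal_centralizer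
  haveI hNn : N.Normal := inferInstance
  have hkerN : ∀ k ∈ f.ker, (k : G) ∈ N := fun k hk =>
    ⟨k, CfsgLib.Constrained.le_pPrimeCore_of_not_dvd inferInstance hf hk, rfl⟩
  have hNC : N ≤ C := Subgroup.map_subtype_le _
  have hNcop : (Nat.card N).Coprime p := by
    rw [hN, Subgroup.card_map_of_injective C.subtype_injective]
    exact CfsgLib.Constrained.pPrimeCore_coprime
  have hNP : ∀ (U : Subgroup G), IsPGroup p U → ∀ u ∈ U, u ∈ N → u = 1 := fun U hU u hu huN =>
    CfsgLib.LocalP.eq_one_of_mem_of_coprime hU hu (hNcop.coprime_dvd_left (N.orderOf_dvd_natCard huN))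
  set π := QuotientGroup.mk' N with hπ
  set ι := π.comp (T : Subgroup G).subtype with hι
  have hinj : Function.Injective ι := by
    refine (injective_iff_map_eq_one _).2 fun t ht => Subtype.ext ?_
    exact hNP _ T.isPGroup' _ t.2 ((QuotientGroup.eq_one_iff _).1 ht)
  set S' := T.mapSurjective (QuotientGroup.mk'_surjective N) with hS'
  have hrange : (S' : Subgroup (G ⧸ N)) = ι.range := by
    rw [hS', Sylow.coe_mapSurjective, hι, MonoidHom.range_comp, Subgroup.range_subtype]
  haveI hCbn : (C.map π).Normal := hCn.map _ (QuotientGroup.mk'_surjective N)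
  have hCb : C.map π ≤ ((Pc : Subgroup C).map C.subtype).map π := by
    rintro _ ⟨c, hc, rfl⟩
    obtain ⟨k, hk, y, hy, hcy⟩ := hdec ⟨c, hc⟩
    refine ⟨y, ⟨y, hy, rfl⟩, ?_⟩
    rw [show c = (k : G) * y from congrArg Subtype.val hcy, map_mul,
      show π k = 1 from (QuotientGroup.eq_one_iff _).2 (hkerN k hk), one_mul]
  have hCbp : IsPGroup p (C.map π) := ((Pc.isPGroup'.map _).map π).to_le hCb
  have hsolY : IsPSolvable p (G ⧸ N) :=
    CfsgLib.Constrained.isPSolvable_of_quotient (C.map π) (Or.inl hCbp)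
      (CfsgLib.Constrained.IsPSolvable.of_mulEquiv hsol
        (QuotientGroup.quotientQuotientEquivQuotient N C hNC).symm)
  have hHcore : H.map π ≤ pCore p (G ⧸ N) :=
    CfsgLib.LocalP.le_pCore (hHn.map _ (QuotientGroup.mk'_surjective N)) (hH.map π)
  have hchar : Subgroup.centralizer (pCore p (G ⧸ N) : Set (G ⧸ N)) ≤ pCore p (G ⧸ N) := by
    refine CfsgLib.LocalP.centralizer_pCore_le fun y hy hcop => ?_
    obtain ⟨g, rfl⟩ := QuotientGroup.mk'_surjective N y
    have hgC : g ∈ C := Subgroup.mem_centralizer_iff.2 fun h hh => by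
      have hmem : g * h * g⁻¹ * h⁻¹ ∈ N := by
        rw [← QuotientGroup.eq_one_iff]
        change π (g * h * g⁻¹ * h⁻¹) = 1
        simp only [map_mul, map_inv]
        rw [show π g * π h = π h * π g from (Subgroup.mem_centralizer_iff.1 hy (π h) (hHcore ⟨h, hh, rfl⟩)).symm]; group
      have h1 := hNP H hH _ (mul_mem (hHn.conj_mem h hh g) (inv_mem hh)) hmem
      calc h * g = (g * h * g⁻¹ * h⁻¹) * h * g := by rw [h1, one_mul]
        _ = g * h := by group
    exact CfsgLib.LocalP.eq_one_of_mem_of_coprime hCbp ⟨g, hgC, rfl⟩ hcop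
  have hqY : q ∣ Nat.card (G ⧸ N) := by
    obtain ⟨k, hk⟩ := orderOf_map_qpow π hxq
    rcases Nat.eq_zero_or_pos k with rfl | hk0
    · exact absurd (hNC ((QuotientGroup.eq_one_iff x).1 (orderOf_eq_one_iff.1 (hk.trans (pow_zero q))))) hxC
    · exact (dvd_pow_self q hk0.ne').trans (hk ▸ orderOf_dvd_natCard _)
  obtain ⟨K, hK, y, hy, hyn, hyc⟩ :=
    charMoved_of_charP hpq h23 ι hinj ⟨S', hrange⟩ hsolY hchar hqY
  set K' := K.map (T : Subgroup G).subtype with hK'
  have hKmap : K.map ι = K'.map π := by rw [hι, hK', Subgroup.map_map]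
  rw [hKmap] at hyn hyc
  obtain ⟨g, rfl⟩ := QuotientGroup.mk'_surjective N y
  -- a representative normalizing `K'`
  set L := (K'.map π).comap π with hL
  have hgL : g ∈ Subgroup.normalizer (L : Set G) := Subgroup.le_normalizer_comap π hyn
  have hK'p : IsPGroup p K' := T.isPGroup'.to_le (Subgroup.map_subtype_le _)
  have hKL : K' ≤ L := Subgroup.le_comap_map π K'
  haveI hNLn : (N.subgroupOf L).Normal := hNn.subgroupOf L
  have hNL : N ≤ L := fun z hz => by
    rw [hL, Subgroup.mem_comap]
    convert (K'.map π).one_mem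
    exact (QuotientGroup.eq_one_iff z).2 hz
  have hLcard : Nat.card L = Nat.card K' * Nat.card N := by
    rw [hL, card_comap]
    congr 1
    rw [← hKmap, Subgroup.card_map_of_injective hinj, hK',
      Subgroup.card_map_of_injective (T : Subgroup G).subtype_injective]
  have hKcard : ∀ U : Subgroup G, U ≤ L → IsPGroup p U → Nat.card U ∣ Nat.card K' := by
    intro U hU hUp
    obtain ⟨j, hj⟩ := IsPGroup.iff_card.1 hUp
    refine Nat.Coprime.dvd_of_dvd_mul_right ?_ (hLcard ▸ Subgroup.card_dvd_of_le hU)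
    exact hj ▸ hNcop.symm.pow_left j
  let SK : Sylow p L := (hK'p.comap_of_injective L.subtype L.subtype_injective).toSylow (by
    intro hdvd
    have h1 : Nat.card (K'.subgroupOf L) = Nat.card K' :=
      Nat.card_congr (Subgroup.subgroupOfEquivOfLe hKL).toEquiv
    have h2 := (K'.subgroupOf L).card_mul_index
    rw [h1, hLcard] at h2
    have h3 := Nat.eq_of_mul_eq_mul_left Nat.card_pos h2
    exact hp.out.coprime_iff_not_dvd.1 hNcop.symm (h3 ▸ hdvd))
  obtain ⟨n, hnN, hn⟩ : ∃ n ∈ N, K'.map (MulAut.conj g).toMonoidHom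
      = K'.map (MulAut.conj n).toMonoidHom := by
    set U := K'.map (MulAut.conj g).toMonoidHom with hU
    have hUL : U ≤ L := by
      rintro _ ⟨w, hw, rfl⟩
      exact (Subgroup.mem_normalizer_iff.1 hgL w).1 (hKL hw)
    obtain ⟨Q, hQ⟩ := ((hK'p.map (MulAut.conj g).toMonoidHom).comap_of_injective
      L.subtype L.subtype_injective).exists_le_sylow
    obtain ⟨l, hl⟩ := MulAction.exists_smul_eq L SK Q
    obtain ⟨w, hw₀, hwg⟩ : π (l : G) ∈ K'.map π := l.2
    refine ⟨(l : G) * w⁻¹, ?_, ?_⟩
    · rw [← QuotientGroup.eq_one_iff]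
      change π ((l : G) * w⁻¹) = 1
      rw [map_mul, map_inv, hwg, mul_inv_cancel]
    · refine Subgroup.eq_of_le_of_card_ge (fun u hu => ?_) ?_
      · have hu' : (⟨u, hUL hu⟩ : L) ∈ (Q : Subgroup L) := hQ hu
        rw [← hl, Sylow.coe_subgroup_smul] at hu'
        obtain ⟨v, hv, hve⟩ := hu'
        refine ⟨w * v * w⁻¹, mul_mem (mul_mem hw₀ hv) (inv_mem hw₀), ?_⟩
        have := congrArg Subtype.val hve
        simp at this ⊢
        rw [← this]; group
      · exact le_of_eq ((Subgroup.card_map_of_injective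
          (f := (MulAut.conj ((l : G) * w⁻¹)).toMonoidHom) (MulAut.conj _).injective).trans
          (Subgroup.card_map_of_injective (f := (MulAut.conj g).toMonoidHom) (MulAut.conj g).injective).symm)
  have hm : n⁻¹ * g ∈ Subgroup.normalizer (K' : Set G) := by
    rw [Subgroup.mem_normalizer_iff_map_conj_eq]
    have h := congrArg (Subgroup.map (MulAut.conj n⁻¹).toMonoidHom) hn
    rw [Subgroup.map_map K', Subgroup.map_map K'] at h
    have e1 : (MulAut.conj n⁻¹).toMonoidHom.comp (MulAut.conj g).toMonoidHom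
        = (MulAut.conj (n⁻¹ * g)).toMonoidHom := MonoidHom.ext fun z => by simp [mul_assoc]
    have e2 : (MulAut.conj n⁻¹).toMonoidHom.comp (MulAut.conj n).toMonoidHom
        = MonoidHom.id G := MonoidHom.ext fun z => by simp [mul_assoc]
    rw [e1, e2, Subgroup.map_id] at h
    exact h
  have hmy : π (n⁻¹ * g) = π g := by
    rw [map_mul, map_inv, show π n = 1 from (QuotientGroup.eq_one_iff n).2 hnN, inv_one, one_mul]
  obtain ⟨e, he, hex⟩ := exists_pow_lift π (n⁻¹ * g) (by rw [hmy]; exact hy)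
  refine ⟨K, hK, (n⁻¹ * g) ^ e, he, pow_mem hm e, fun hc => hyc ?_⟩
  rw [← hmy, ← hex, Subgroup.mem_centralizer_iff]
  rintro _ ⟨z, hz, rfl⟩
  rw [← map_mul, ← map_mul, Subgroup.mem_centralizer_iff.1 hc z hz]

/-- `q` divides the order of the automizer iff a `q`-element acts nontrivially. -/
theorem moves_iff [Finite G] [hq : Fact q.Prime] (H : Subgroup G) :
    Moves q H ↔ q ∣ ((Subgroup.centralizer (H : Set G)).subgroupOf
      (Subgroup.normalizer (H : Set G))).index := by
  constructor
  · rintro ⟨y, hy, hyn, hyc⟩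
    obtain ⟨k, hk⟩ := orderOf_map_qpow (QuotientGroup.mk' ((Subgroup.centralizer (H : Set G)).subgroupOf
      (Subgroup.normalizer (H : Set G)))) (x := ⟨y, hyn⟩) (by simpa [Subgroup.orderOf_mk] using hy)
    rcases Nat.eq_zero_or_pos k with rfl | hk0
    · exact absurd ((QuotientGroup.eq_one_iff (⟨y, hyn⟩ : ↥(Subgroup.normalizer (H : Set G)))).1
        (orderOf_eq_one_iff.1 (hk.trans (pow_zero q)))) hyc
    · exact (dvd_pow_self q hk0.ne').trans (hk ▸ orderOf_dvd_natCard _)
  · intro h
    obtain ⟨z, hz⟩ := exists_prime_orderOf_dvd_card' (G := ↥(Subgroup.normalizer (H : Set G)) ⧸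
      (Subgroup.centralizer (H : Set G)).subgroupOf (Subgroup.normalizer (H : Set G))) q h
    obtain ⟨g, rfl⟩ := QuotientGroup.mk'_surjective _ z
    obtain ⟨e, ⟨k, hk⟩, hge⟩ := exists_pow_lift _ g ⟨1, by rw [hz, pow_one]⟩
    refine ⟨_, ⟨k, by rw [Subgroup.orderOf_coe]; exact hk⟩, (g ^ e).2, fun hc => ?_⟩
    rw [← hge, show QuotientGroup.mk' _ (g ^ e) = 1 from (QuotientGroup.eq_one_iff _).2 hc,
      orderOf_one] at hz
    exact hq.out.ne_one hz.symm

/-- Some `p`-subgroup normal in a given Sylow `p`-subgroup is moved by a `q`-element. -/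
theorem exists_normal_in_sylow [Finite G] [hp : Fact p.Prime] [hq : Fact q.Prime] (hpq : p ≠ q)
    (h23 : ¬ ((p = 2 ∧ q = 3) ∨ (p = 3 ∧ q = 2)))
    (hsol : ∀ H : Subgroup G, IsPGroup p H →
      IsPSolvable p (↥(Subgroup.normalizer (H : Set G)) ⧸
        (Subgroup.centralizer (H : Set G)).subgroupOf (Subgroup.normalizer (H : Set G))))
    (H₀ : Subgroup G) (hH₀ : IsPGroup p H₀) (hm₀ : Moves q H₀) (Gp : Sylow p G) :
    ∃ K : Subgroup G, K ≤ (Gp : Subgroup G) ∧ (Gp : Subgroup G) ≤ Subgroup.normalizer (K : Set G) ∧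
      Moves q K := by
  set f : Subgroup G → ℕ := fun H => (Nat.card (Subgroup.normalizer (H : Set G))).factorization p
  haveI := Fintype.ofFinite (Subgroup G)
  classical
  obtain ⟨H, hHmem, hmax⟩ := Finset.exists_max_image
    ({H : Subgroup G | IsPGroup p H ∧ Moves q H} : Finset (Subgroup G)) f ⟨H₀, by simp [hH₀, hm₀]⟩
  simp only [Finset.mem_filter, Finset.mem_univ, true_and] at hHmem hmax
  obtain ⟨hH, x, hxq, hxn, hxc⟩ := hHmem
  set N := Subgroup.normalizer (H : Set G) with hNdef
  obtain ⟨T₀⟩ : Nonempty (Sylow p N) := inferInstance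
  set T := (T₀ : Subgroup N).map N.subtype with hTdef
  have hTp : IsPGroup p T := T₀.isPGroup'.map _
  have hTcard : Nat.card T = p ^ f H := by
    rw [hTdef, Subgroup.card_map_of_injective N.subtype_injective, Sylow.card_eq_multiplicity]
  have hTN : T ≤ N := Subgroup.map_subtype_le _
  haveI : (H.subgroupOf N).Normal := Subgroup.normal_in_normalizer
  have hHT : H ≤ T := by
    intro h hh
    exact ⟨⟨h, Subgroup.le_normalizer hh⟩, (IsPGroup.le_sylow_of_normal
      (show IsPGroup p (H.subgroupOf N) from hH.comap_of_injective N.subtype N.subtype_injective) T₀) hh, rfl⟩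
  -- enlarge `H` by the centralizing part of `T`
  set C := (Subgroup.centralizer (H : Set G)).subgroupOf N with hCdef
  set D := T ⊓ Subgroup.centralizer (H : Set G) with hD
  set H₁ := H ⊔ D with hH₁
  have hH₁T : H₁ ≤ T := sup_le hHT inf_le_left
  have hDmap : (((T₀ : Subgroup N) ⊓ C : Subgroup N)).map N.subtype = D := by
    ext z
    constructor
    · rintro ⟨w, ⟨hw1, hw2⟩, rfl⟩
      exact ⟨⟨w, hw1, rfl⟩, hw2⟩
    · rintro ⟨⟨w, hw1, rfl⟩, hw2⟩
      exact ⟨w, ⟨hw1, hw2⟩, rfl⟩
  have hTN₁ : T ≤ Subgroup.normalizer (H₁ : Set G) := by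
    intro t ht
    rw [Subgroup.mem_normalizer_iff_map_conj_eq, hH₁, Subgroup.map_sup,
      Subgroup.mem_normalizer_iff_map_conj_eq.1 (hTN ht)]
    congr 1
    refine Subgroup.mem_normalizer_iff_map_conj_eq.1 ?_
    have ht0 : (⟨t, hTN ht⟩ : N) ∈ (T₀ : Subgroup N) := by
      obtain ⟨w, hw, hwt⟩ := id ht
      rwa [show (⟨t, hTN ht⟩ : N) = w from Subtype.ext hwt.symm]
    rw [← hDmap]
    refine Subgroup.le_normalizer_map N.subtype ⟨⟨t, hTN ht⟩, ?_, rfl⟩
    have hCn : C.Normal := inferInstance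
    refine Subgroup.mem_normalizer_iff.2 fun z => ⟨fun hz => ⟨mul_mem (mul_mem ht0 hz.1) ((T₀ : Subgroup N).inv_mem ht0),
      hCn.conj_mem z hz.2 _⟩, fun hz => ⟨?_, ?_⟩⟩
    · have h := mul_mem (mul_mem ((T₀ : Subgroup N).inv_mem ht0) hz.1) ht0
      show z ∈ (T₀ : Subgroup N)
      simpa [mul_assoc] using h
    · have h := hCn.conj_mem _ hz.2 (⟨t, hTN ht⟩ : N)⁻¹
      simpa [mul_assoc] using h
  have hm₁ : Moves q H₁ := by
    obtain ⟨n, hn, c, hc, hxnc⟩ := GlaubermanZJ.exists_frattini T₀ C ⟨x, hxn⟩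
    set π := QuotientGroup.mk' C
    have himg : π n = π ⟨x, hxn⟩ := by
      rw [hxnc, map_mul, show π c = 1 from (QuotientGroup.eq_one_iff c).2 hc, mul_one]
    obtain ⟨e, he, hne⟩ := exists_pow_lift π n
      (himg ▸ orderOf_map_qpow π (x := ⟨x, hxn⟩) (by simpa [Subgroup.orderOf_mk] using hxq))
    refine ⟨((n ^ e : N) : G), ?_, ?_, ?_⟩
    · obtain ⟨k, hk⟩ := he
      exact ⟨k, by rw [Subgroup.orderOf_coe]; exact hk⟩
    · rw [Subgroup.mem_normalizer_iff_map_conj_eq, hH₁, Subgroup.map_sup,
        Subgroup.mem_normalizer_iff_map_conj_eq.1 (n ^ e).2, ← hDmap]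
      congr 1
      exact Subgroup.mem_normalizer_iff_map_conj_eq.1
        (Subgroup.le_normalizer_map N.subtype ⟨_, pow_mem hn e, rfl⟩)
    · intro hc'
      have h1 : π (n ^ e) = 1 := (QuotientGroup.eq_one_iff _).2
        (Subgroup.centralizer_le (SetLike.coe_subset_coe.2 le_sup_left) hc')
      rw [hne, himg] at h1
      exact hxc ((QuotientGroup.eq_one_iff (⟨x, hxn⟩ : N)).1 h1)
  set M := Subgroup.normalizer (H₁ : Set G) with hMdef
  obtain ⟨T₁, hT₁⟩ := (hTp.comap_of_injective M.subtype M.subtype_injective).exists_le_sylow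
  have hle₁ : f H₁ ≤ f H := hmax H₁ ⟨hTp.to_le hH₁T, hm₁⟩
  have hT₁eq : (T₁ : Subgroup M).map M.subtype = T := by
    refine (Subgroup.eq_of_le_of_card_ge (fun t ht => Subgroup.mem_map.2
      ⟨⟨t, hTN₁ ht⟩, hT₁ ht, rfl⟩) ?_).symm
    rw [Subgroup.card_map_of_injective M.subtype_injective, Sylow.card_eq_multiplicity, hTcard]
    exact Nat.pow_le_pow_right hp.out.one_lt.le hle₁
  haveI : (H₁.subgroupOf M).Normal := Subgroup.normal_in_normalizer
  have hCsub : Subgroup.centralizer ((H₁.subgroupOf M : Subgroup M) : Set M)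
      = (Subgroup.centralizer (H₁ : Set G)).subgroupOf M := by
    ext w
    simp only [Subgroup.mem_centralizer_iff, Subgroup.mem_subgroupOf]
    constructor
    · intro h z hz
      exact congrArg Subtype.val (h ⟨z, Subgroup.le_normalizer hz⟩ hz)
    · exact fun h z hz => Subtype.ext (h z hz)
  obtain ⟨x₁, hx₁q, hx₁n, hx₁c⟩ := hm₁
  obtain ⟨K, hK, y, hy, hyn, hyc⟩ := charMoved_of_normal hpq h23 (H₁.subgroupOf M)
    ((hTp.to_le hH₁T).comap_of_injective M.subtype M.subtype_injective) T₁ (by
      rintro w ⟨hw1, hw2⟩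
      rw [hCsub] at hw2
      exact Subgroup.mem_sup_right ⟨hT₁eq ▸ ⟨w, hw1, rfl⟩,
        Subgroup.centralizer_le (SetLike.coe_subset_coe.2 le_sup_left) hw2⟩)
    (CfsgLib.Constrained.IsPSolvable.of_mulEquiv (hsol H₁ (hTp.to_le hH₁T))
      (QuotientGroup.quotientMulEquivOfEq hCsub.symm))
    ⟨⟨x₁, hx₁n⟩, by simpa [Subgroup.orderOf_mk] using hx₁q,
      Subgroup.le_normalizer_of_normal (Subgroup.mem_top _), fun h => hx₁c (by
        rw [hCsub] at h; exact h)⟩
  set KG := (K.map (T₁ : Subgroup M).subtype).map M.subtype with hKG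
  have hKmove : Moves q KG := by
    refine ⟨(y : G), ?_, Subgroup.le_normalizer_map M.subtype ⟨y, hyn, rfl⟩,
      fun hc => hyc (Subgroup.mem_centralizer_iff.2 fun z hz => Subtype.ext ?_)⟩
    · obtain ⟨k, hk⟩ := hy; exact ⟨k, by rwa [Subgroup.orderOf_coe]⟩
    · exact Subgroup.mem_centralizer_iff.1 hc _ ⟨z, hz, rfl⟩
  have hKT : KG ≤ T := hT₁eq ▸ Subgroup.map_mono (Subgroup.map_subtype_le _)
  -- `K` is invariant under the normalizer of `T`
  have hnorm : Subgroup.normalizer (T : Set G) ≤ Subgroup.normalizer (KG : Set G) := by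
    let e : ↥(T₁ : Subgroup M) ≃* ↥T :=
      ((T₁ : Subgroup M).equivMapOfInjective M.subtype M.subtype_injective).trans
        (MulEquiv.subgroupCongr hT₁eq)
    haveI := hK
    haveI hKe : (K.map e.toMonoidHom).Characteristic := by
      refine Subgroup.characteristic_iff_map_eq.2 fun φ => ?_
      have h := Subgroup.characteristic_iff_map_eq.1 hK ((e.trans φ).trans e.symm)
      conv_rhs => rw [← h]
      rw [Subgroup.map_map, Subgroup.map_map]
      congr 1
      ext z
      simp
    have h : KG = (K.map e.toMonoidHom).map T.subtype := by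
      rw [hKG, Subgroup.map_map, Subgroup.map_map]
      rfl
    rw [h]
    exact CfsgLib.Coprime.le_normalizer_map_characteristic le_rfl _
  by_cases hTS : Nat.card T = Nat.card (Gp : Subgroup G)
  · obtain ⟨S, hS⟩ := hTp.exists_le_sylow
    have hSeq : T = S := Subgroup.eq_of_le_of_card_ge hS (by
      rw [hTS, Sylow.card_eq_multiplicity, Sylow.card_eq_multiplicity])
    obtain ⟨g, hg⟩ := MulAction.exists_smul_eq G S Gp
    obtain ⟨y, hy, hyn, hyc⟩ := hKmove
    refine ⟨KG.map (MulAut.conj g).toMonoidHom, ?_, ?_, g * y * g⁻¹, ?_, ?_, ?_⟩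
    · rw [← hg, Sylow.coe_subgroup_smul, ← hSeq]
      exact Subgroup.map_mono hKT
    · rw [← hg, Sylow.coe_subgroup_smul, ← hSeq]
      exact (Subgroup.map_mono (Subgroup.le_normalizer.trans hnorm)).trans
        (Subgroup.le_normalizer_map _)
    · obtain ⟨k, hk⟩ := hy
      exact ⟨k, (orderOf_injective (MulAut.conj g).toMonoidHom (MulAut.conj g).injective y).trans hk⟩
    · exact Subgroup.le_normalizer_map (MulAut.conj g).toMonoidHom ⟨y, hyn, rfl⟩
    · intro hc
      refine hyc (Subgroup.mem_centralizer_iff.2 fun z hz => (MulAut.conj g).injective ?_)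
      rw [map_mul, map_mul]
      exact Subgroup.mem_centralizer_iff.1 hc _ ⟨z, hz, rfl⟩
  · exfalso
    obtain ⟨S, hS⟩ := hTp.exists_le_sylow
    have hlt : T < S := lt_of_le_of_ne hS fun h => hTS (by
      rw [h, Sylow.card_eq_multiplicity, Sylow.card_eq_multiplicity])
    haveI : Group.IsNilpotent (S : Subgroup G) := S.isPGroup'.isNilpotent
    obtain ⟨W, hTW, hWS, hWn⟩ := GlaubermanZJ.exists_gt_normalizing hlt
    have hle : f KG ≤ f H := hmax KG ⟨hTp.to_le hKT, hKmove⟩
    obtain ⟨j, hj⟩ := IsPGroup.iff_card.1 (S.isPGroup'.to_le hWS)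
    have hjle : j ≤ f KG := (hp.out.pow_dvd_iff_le_factorization Nat.card_pos.ne').1
      (hj ▸ Subgroup.card_dvd_of_le (hWn.trans hnorm))
    have hlt' : Nat.card T < Nat.card W :=
      lt_of_le_of_ne (Subgroup.card_le_of_le hTW.le) fun h =>
        hTW.ne (Subgroup.eq_of_le_of_card_ge hTW.le h.ge)
    rw [hTcard, hj] at hlt'
    exact absurd ((Nat.pow_lt_pow_iff_right hp.out.one_lt).1 hlt') (by omega)

end CfsgLib.LocalCharP.AutomizerPrime
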