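import Cfsg.Agent.LocalCharP.PReduced
import Cfsg.Agent.LocalCharP.WeaklyClosed
import Cfsg.Agent.LocalCharP.CharPLocal
import Cfsg.Agent.Coprime.Stabilizer

/-!
The largest `p`-reduced normal subgroup and subnormal subgroups.
-/

set_option autoImplicit false

namespace CfsgLib.LocalCharP

open Cfsg

variable {p : ℕ} {G : Type*} [Group G] [Finite G] [Fact p.Prime]

/-- An automorphism-invariance of `Y_L`. -/
theorem normalizer_le_normalizer_largestPReducedOf (K : Subgroup G) :
    Subgroup.normalizer (K : Set G) ≤ Subgroup.normalizer (largestPReducedOf p K : Set G) := by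
  refine le_normalizer_of_conj_mem fun g hg x hx => ?_
  set Y := largestPReducedOf p K
  obtain ⟨hn, he, hD⟩ := isPRed_largestPReducedOf (p := p) K
  have hgK : K.map (MulAut.conj g).toMonoidHom = K := map_conj_eq_self_iff.mpr hg
  have hgK' : K.map (MulAut.conj g⁻¹).toMonoidHom = K := map_conj_eq_self_iff.mpr (inv_mem hg)
  have hred : IsPRed p K (Y.map (MulAut.conj g).toMonoidHom) := by
    refine ⟨?_, isElementaryAbelian_map _ he, fun D hDK hKD hp => ?_⟩
    · rw [← map_conj_normalizer]
      exact hgK.ge.trans (Subgroup.map_mono hn)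
    have h1 : D.map (MulAut.conj g⁻¹).toMonoidHom ≤ Subgroup.centralizer (Y : Set G) := by
      refine hD _ ((Subgroup.map_mono hDK).trans hgK'.le) ?_ ?_
      · rw [← map_conj_normalizer]
        exact hgK'.ge.trans (Subgroup.map_mono hKD)
      · rintro _ ⟨d, hd, rfl⟩
        obtain ⟨k, hk⟩ := hp d hd
        refine ⟨k, ?_⟩
        rw [← map_conj_centralizer, mem_map_conj] at hk
        rw [← map_pow]
        simpa using hk
    intro d hd
    have := h1 ⟨d, hd, rfl⟩
    rw [← map_conj_centralizer, mem_map_conj]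
    simpa using this
  exact hred.le_largestPReducedOf ((Subgroup.map_mono (largestPReducedOf_le K)).trans hgK.le) ⟨x, hx, rfl⟩

/-- A `p`-reduced subgroup of `G` is `p`-reduced for every subnormal subgroup. -/
theorem isPRed_of_isSubnormal {V K : Subgroup G} (hV : IsPReducedNormal p V) (hK : K.IsSubnormal) :
    IsPRed p K V := by
  haveI := hV.1
  refine ⟨Subgroup.le_normalizer_of_normal, hV.2.1, fun D hDK hKD hp => ?_⟩
  obtain ⟨hC, hcore⟩ := hV.2.2
  haveI := hC
  have hDs : D.IsSubnormal :=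
    Subgroup.IsSubnormal.step D K hDK hK (Subgroup.normal_subgroupOf_of_le_normalizer hKD)
  set f := QuotientGroup.mk' (Subgroup.centralizer (V : Set G))
  have hpD : IsPGroup p ↥(D.map f) := by
    rintro ⟨_, d, hd, rfl⟩
    obtain ⟨k, hk⟩ := hp d hd
    exact ⟨k, Subtype.ext (by
      rw [SubgroupClass.coe_pow, OneMemClass.coe_one, ← map_pow]
      exact (QuotientGroup.eq_one_iff _).2 hk)⟩
  have hle := le_pCore_of_isSubnormal (hDs.map (QuotientGroup.mk'_surjective _)) hpD
  rw [hcore] at hle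
  intro d hd
  exact (QuotientGroup.eq_one_iff d).1 (Subgroup.mem_bot.1 (hle ⟨d, hd, rfl⟩))

/-- An element of order prime to `p` of a subnormal `L` fixing `V ∩ L` centralizes the normal abelian
`p`-subgroup `V`. -/
theorem mem_centralizer_of_subnormal {V L : Subgroup G} [V.Normal] (hV : IsPGroup p ↥V)
    (hVc : V ≤ Subgroup.centralizer (V : Set G)) {x : G} (hxL : x ∈ L) (hcop : (orderOf x).Coprime p)
    (hfix : ∀ v ∈ V ⊓ L, x * v = v * x) (hL : L.IsSubnormal) : x ∈ Subgroup.centralizer (V : Set G) := by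
  induction hL with
  | top => exact Subgroup.mem_centralizer_iff.mpr fun v hv => (hfix v ⟨hv, trivial⟩).symm
  | step K1 K2 hle _ hn ih =>
    refine ih (hle hxL) fun v hv => ?_
    have h1 : x * v * x⁻¹ * v⁻¹ ∈ V := mul_mem ((inferInstance : V.Normal).conj_mem v hv.1 x) (inv_mem hv.1)
    have h2 : x * v * x⁻¹ * v⁻¹ ∈ K1 := by
      have h3 := hn.conj_mem ⟨x⁻¹, hle (inv_mem hxL)⟩ (inv_mem hxL) ⟨v, hv.2⟩
      have h4 := mul_mem hxL (Subgroup.mem_subgroupOf.mp h3)
      simpa [mul_assoc] using h4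
    refine CfsgLib.Coprime.commute_of_commute_commutator_mem (H := V) (hfix _ ⟨h1, h2⟩) h1 ?_
    obtain ⟨k, hk⟩ := IsPGroup.iff_card.mp hV
    rw [hk]
    exact hcop.pow_right k

theorem inf_centralizer_inf_eq {V L : Subgroup G} (hV : IsPReducedNormal p V) (hL : L.IsSubnormal) :
    L ⊓ Subgroup.centralizer ((V ⊓ L : Subgroup G) : Set G) = L ⊓ Subgroup.centralizer (V : Set G) := by
  haveI := hV.1
  refine le_antisymm (le_inf inf_le_left ?_) (inf_le_inf_left L (Subgroup.centralizer_le inf_le_left))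
  refine (isPRed_of_isSubnormal hV hL).2.2 _ inf_le_left ?_ fun d hd => ?_
  · exact le_normalizer_inf_centralizer Subgroup.le_normalizer
      (le_normalizer_inf Subgroup.le_normalizer_of_normal Subgroup.le_normalizer)
  · obtain ⟨k, hk⟩ := mem_or_pow_coprime (p := p) d
    exact ⟨k, mem_centralizer_of_subnormal (CfsgLib.CharP.isPGroup_of_exponent hV.2.1)
      (le_centralizer_self hV.2.1) (pow_mem hd.1 _) hk
      (fun v hv => (Subgroup.mem_centralizer_iff.mp (pow_mem hd.2 _) v hv).symm) hL⟩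

/-- For `K1` normal in `K2`: `C_{K1}(Y_{K2}) ≤ C(Y_{K1})`. -/
theorem inf_centralizer_le_of_normal {K1 K2 : Subgroup G} (hle : K1 ≤ K2)
    (hn : K2 ≤ Subgroup.normalizer (K1 : Set G)) :
    K1 ⊓ Subgroup.centralizer (largestPReducedOf p K2 : Set G) ≤
      Subgroup.centralizer (largestPReducedOf p K1 : Set G) := by
  set W := largestPReducedOf p K1 with hW
  have hWred : IsPRed p K1 W := isPRed_largestPReducedOf K1
  obtain ⟨W', hW'⟩ := Set.Finite.exists_minimal (Set.toFinite {W' : Subgroup G | W' ≤ W ∧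
      K2 ≤ Subgroup.normalizer (W' : Set G) ∧
      K1 ⊓ Subgroup.centralizer (W' : Set G) ≤ Subgroup.centralizer (W : Set G)})
    ⟨W, le_rfl, hn.trans (normalizer_le_normalizer_largestPReducedOf K1), inf_le_right⟩
  obtain ⟨⟨hW'W, hW'n, hW'c⟩, hmin⟩ := hW'
  have hW'el : IsElementaryAbelian p W' := isElementaryAbelian_of_le hWred.2.1 hW'W
  have hred : IsPRed p K2 W' := by
    refine ⟨hW'n, hW'el, fun D hDK hKD hp => ?_⟩
    set W'' := W' ⊓ Subgroup.centralizer (D : Set G) with hW''
    have hDK1 : D ⊓ K1 ≤ Subgroup.centralizer (W : Set G) := by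
      refine hWred.2.2 _ inf_le_right (le_normalizer_inf (hle.trans hKD) Subgroup.le_normalizer) fun d hd => ?_
      obtain ⟨k, hk⟩ := hp d hd.1
      exact ⟨k, hW'c ⟨pow_mem hd.2 _, hk⟩⟩
    have hW''c : K1 ⊓ Subgroup.centralizer (W'' : Set G) ≤ Subgroup.centralizer (W : Set G) := by
      refine hWred.2.2 _ inf_le_left (le_normalizer_inf_centralizer Subgroup.le_normalizer
        (hle.trans (le_normalizer_inf_centralizer hW'n hKD))) fun e he => ?_
      obtain ⟨k, hcop⟩ := mem_or_pow_coprime (p := p) e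
      refine ⟨k, hW'c ⟨pow_mem he.1 _, ?_⟩⟩
      set x := e ^ p ^ k
      have hxK1 : x ∈ K1 := pow_mem he.1 _
      have hxn : x ∈ Subgroup.normalizer (W' : Set G) := hW'n (hle hxK1)
      let f : ↥W' →* ↥W' :=
        { toFun := fun w => ⟨x * w * x⁻¹ * (w : G)⁻¹,
            mul_mem ((Subgroup.mem_normalizer_iff.mp hxn _).mp w.2) (inv_mem w.2)⟩
          map_one' := Subtype.ext (by simp)
          map_mul' := fun a b => Subtype.ext (by
            have hm : x * b * x⁻¹ * (b : G)⁻¹ ∈ W' :=
              mul_mem ((Subgroup.mem_normalizer_iff.mp hxn _).mp b.2) (inv_mem b.2)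
            have hc : (x * b * x⁻¹ * (b : G)⁻¹) * (a : G)⁻¹ = (a : G)⁻¹ * (x * b * x⁻¹ * (b : G)⁻¹) :=
              (Subgroup.mem_centralizer_iff.mp (le_centralizer_self hW'el (inv_mem a.2)) _ hm)
            show x * (a * b : G) * x⁻¹ * (a * b : G)⁻¹ =
              (x * a * x⁻¹ * (a : G)⁻¹) * (x * b * x⁻¹ * (b : G)⁻¹)
            calc x * (a * b : G) * x⁻¹ * (a * b : G)⁻¹
                = x * a * x⁻¹ * ((x * b * x⁻¹ * (b : G)⁻¹) * (a : G)⁻¹) := by group
              _ = _ := by rw [hc]; group) }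
      set I := (f.range).map W'.subtype with hI
      have hIW : I ≤ W' := Subgroup.map_subtype_le _
      have hIn : D ≤ Subgroup.normalizer (I : Set G) := by
        refine le_normalizer_of_conj_mem ?_
        rintro d hd _ ⟨_, ⟨w, rfl⟩, rfl⟩
        have hdw : d * (w : G) * d⁻¹ ∈ W' := conj_mem_of_le_normalizer hW'n (hDK hd) w.2
        refine ⟨f ⟨_, hdw⟩, ⟨_, rfl⟩, ?_⟩
        show x * (d * w * d⁻¹) * x⁻¹ * (d * w * d⁻¹)⁻¹ = d * (x * w * x⁻¹ * (w : G)⁻¹) * d⁻¹
        have hc : x * d * x⁻¹ * d⁻¹ ∈ D ⊓ K1 := by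
          refine ⟨show x * d * x⁻¹ * d⁻¹ ∈ D from mul_mem (conj_mem_of_le_normalizer hKD (hle hxK1) hd) (inv_mem hd), ?_⟩
          have h3 := conj_mem_of_le_normalizer hn (hDK hd) (inv_mem hxK1)
          show x * d * x⁻¹ * d⁻¹ ∈ K1
          simpa [mul_assoc] using mul_mem hxK1 h3
        have hcom := Subgroup.mem_centralizer_iff.mp (hDK1 hc) _
          (hW'W (conj_mem_of_le_normalizer hW'n (hDK hd)
            ((Subgroup.mem_normalizer_iff.mp hxn _).mp w.2) : d * (x * w * x⁻¹) * d⁻¹ ∈ W'))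
        calc x * (d * w * d⁻¹) * x⁻¹ * (d * w * d⁻¹)⁻¹
            = ((x * d * x⁻¹ * d⁻¹) * (d * (x * w * x⁻¹) * d⁻¹)) * (x * d * x⁻¹ * d⁻¹)⁻¹ *
                d * (w : G)⁻¹ * d⁻¹ := by group
          _ = d * (x * w * x⁻¹ * (w : G)⁻¹) * d⁻¹ := by rw [← hcom]; group
      have hIbot : I = ⊥ := by
        by_contra hne
        obtain ⟨P⟩ : Nonempty (Sylow p ↥D) := inferInstance
        obtain ⟨i, ⟨hi, hiP⟩, hi1⟩ := (Subgroup.bot_or_exists_ne_one _).resolve_left
          (inf_centralizer_ne_bot ((CfsgLib.CharP.isPGroup_of_exponent hW'el).to_le hIW) hne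
            (P.2.map D.subtype) ((Subgroup.map_subtype_le _).trans hIn))
        have hDi : i ∈ Subgroup.centralizer (D : Set G) := by
          refine Subgroup.mem_centralizer_iff.mpr fun d hd => ?_
          have hCn : ((Subgroup.centralizer (W' : Set G)).subgroupOf D).Normal :=
            Subgroup.normal_subgroupOf_iff_le_normalizer_inf.mpr fun y hy => by
              refine Subgroup.mem_normalizer_iff.mpr fun z => ?_
              have h2 := Subgroup.mem_normalizer_iff.mp (le_normalizer_centralizer hW'n (hDK hy)) z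
              have h3 : z ∈ D ↔ y * z * y⁻¹ ∈ D := by
                rw [Subgroup.mul_mem_cancel_right _ (inv_mem hy), Subgroup.mul_mem_cancel_left _ hy]
              exact and_congr h2 h3
          obtain ⟨c, hc, t, ht, hdt⟩ := CfsgLib.CharP.exists_mul_of_pGroup_mod P hCn
            (inferInstance : (⊤ : Subgroup ↥D).Normal) le_top
            (fun y _ => by
              obtain ⟨m, hm⟩ := hp y y.2
              exact ⟨m, by simpa [Subgroup.mem_subgroupOf] using hm⟩) ⟨d, hd⟩ trivial
          have e : d = (c : G) * (t : G) := congrArg Subtype.val hdt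
          have h1 : (c : G) * i = i * c := (Subgroup.mem_centralizer_iff.mp hc i (hIW hi)).symm
          have h2 : (t : G) * i = i * t := Subgroup.mem_centralizer_iff.mp hiP t ⟨t, ht.1, rfl⟩
          rw [e, mul_assoc, h2, ← mul_assoc, h1, mul_assoc]
        obtain ⟨_, ⟨w, rfl⟩, rfl⟩ := hi
        refine hi1 ?_
        have hfix := Subgroup.mem_centralizer_iff.mp he.2 _ ⟨(f w).2, hDi⟩
        have hxw : x * ((f w : ↥W') : G) = ((f w : ↥W') : G) * x :=
          ((Commute.pow_left (hfix.symm : Commute e _) _).eq)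
        have hcopW : (orderOf x).Coprime (Nat.card ↥W') := by
          obtain ⟨m, hm⟩ := IsPGroup.iff_card.mp (CfsgLib.CharP.isPGroup_of_exponent hW'el)
          rw [hm]
          exact hcop.pow_right m
        have hxw2 := CfsgLib.Coprime.commute_of_commute_commutator_mem (H := W') hxw (f w).2 hcopW
        show x * w * x⁻¹ * (w : G)⁻¹ = 1
        rw [hxw2]
        group
      refine Subgroup.mem_centralizer_iff.mpr fun w hw => ?_
      have hmem : x * w * x⁻¹ * w⁻¹ ∈ I := ⟨f ⟨w, hw⟩, ⟨_, rfl⟩, rfl⟩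
      rw [hIbot, Subgroup.mem_bot] at hmem
      calc w * x = (x * w * x⁻¹ * w⁻¹)⁻¹ * (x * w) := by group
        _ = x * w := by rw [hmem]; group
    have h := hmin ⟨inf_le_left.trans hW'W, le_normalizer_inf_centralizer hW'n hKD, hW''c⟩ inf_le_left
    exact Subgroup.le_centralizer_iff.mp (h.trans inf_le_right)
  exact le_trans (inf_le_inf_left K1 (Subgroup.centralizer_le
    (hred.le_largestPReducedOf ((hW'W.trans (largestPReducedOf_le K1)).trans hle)))) hW'c

theorem inf_centralizer_le_centralizer_largestPReducedOf {L : Subgroup G} (hL : L.IsSubnormal) :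
    L ⊓ Subgroup.centralizer (largestPReduced p G : Set G) ≤
      Subgroup.centralizer (largestPReducedOf p L : Set G) := by
  induction hL with
  | top => rw [largestPReducedOf_top]; exact inf_le_right
  | step K1 K2 hle _ hn ih =>
    exact le_trans (le_inf inf_le_left (le_trans (inf_le_inf_right _ hle) ih))
      (inf_centralizer_le_of_normal hle ((Subgroup.normal_subgroupOf_iff_le_normalizer hle).mp hn))

end CfsgLib.LocalCharP
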