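import Cfsg.Agent.LocalCharP.SylowCenter
import Cfsg.Agent.LocalCharP.CharPLocal
import Cfsg.Agent.LocalCharP.PReducedSubnormal
import Cfsg.Agent.CharP.PReduced
import Cfsg.Agent.S2824
import Mathlib.Tactic.Group

/-!
Monotonicity of `Y_L` on parabolic subgroups and existence of subgroups with the basic property.
-/

set_option autoImplicit false

namespace CfsgLib.LocalCharP

open Cfsg

variable {p : ℕ} {G : Type*} [Group G]

theorem subgroupOf_le_normalizer {A V M : Subgroup G} (h : A ≤ Subgroup.normalizer (V : Set G)) :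
    A.subgroupOf M ≤ Subgroup.normalizer (V.subgroupOf M : Set ↥M) :=
  le_normalizer_of_conj_mem fun _ hl _ hd => conj_mem_of_le_normalizer h hl hd

theorem isPRed_subgroupOf {X V M : Subgroup G} (hXM : X ≤ M) (hVM : V ≤ M) (h : IsPRed p X V) :
    IsPRed p (X.subgroupOf M) (V.subgroupOf M) := by
  refine ⟨subgroupOf_le_normalizer h.1, isElementaryAbelian_subgroupOf h.2.1, fun D hDX hn hp => ?_⟩
  have hDX' : D.map M.subtype ≤ X := Subgroup.map_le_iff_le_comap.mpr hDX
  have h1 := h.2.2 (D.map M.subtype) hDX' (le_normalizer_of_conj_mem ?_) ?_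
  · exact fun d hd => (mem_centralizer_subgroupOf hVM).mpr (h1 ⟨d, hd, rfl⟩)
  · rintro x hx _ ⟨d, hd, rfl⟩
    exact ⟨_, conj_mem_of_le_normalizer hn (l := ⟨x, hXM hx⟩) hx hd, rfl⟩
  · rintro _ ⟨d, hd, rfl⟩
    obtain ⟨k, hk⟩ := hp d hd
    exact ⟨k, by simpa using (mem_centralizer_subgroupOf hVM).mp hk⟩

/-- `Y_X ≤ Y_M` for subgroups `X ≤ M` containing a Sylow `p`-subgroup, `M` of characteristic `p`. -/
theorem largestPReducedOf_le_of_le [Finite G] [Fact p.Prime] (T : Sylow p G) {X M : Subgroup G}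
    (hTX : (T : Subgroup G) ≤ X) (hXM : X ≤ M)
    (hM : Subgroup.centralizer (pCore p ↥M : Set ↥M) ≤ pCore p ↥M) :
    largestPReducedOf p X ≤ largestPReducedOf p M := by
  have hYX := largestPReducedOf_le (p := p) X
  have hYM := hYX.trans hXM
  have hR : (largestPReducedOf p X).subgroupOf M ≤ X.subgroupOf M := fun x hx => hYX hx
  have h1 := (isPRed_iff hR).mp (isPRed_subgroupOf hXM hYM (isPRed_largestPReducedOf X))
  have h2 := CfsgLib.CharP.isPReducedNormal_normalClosure hM (T.subtype (hTX.trans hXM))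
    (R := X.subgroupOf M) (fun x hx => hTX hx) h1
  rw [Subgroup.map_subgroupOf_eq_of_le hR] at h2
  intro y hy
  exact ⟨⟨y, hYM hy⟩, largestPReduced_spec.2 _ h2 (Subgroup.le_normalClosure hy), rfl⟩

variable [Finite G] [Fact p.Prime]

theorem sylow_ne_bot_of_mem {L : Subgroup G} (T : Sylow p G) (hTL : (T : Subgroup G) ≤ L)
    (hL : L ∈ charPSubgroups p G) : (T : Subgroup G) ≠ ⊥ := fun h =>
  (mem_charPSubgroups_iff.mp hL).1 (le_bot_iff.mp ((pCoreOf_le_of_le hTL).trans h.le))

theorem omegaZ_ne_bot (T : Sylow p G) (hT : (T : Subgroup G) ≠ ⊥) :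
    omegaOne p ((T : Subgroup G) ⊓ Subgroup.centralizer ((T : Subgroup G) : Set G)) ≠ ⊥ := by
  intro h
  set Z := (T : Subgroup G) ⊓ Subgroup.centralizer ((T : Subgroup G) : Set G) with hZ
  have hZp : IsPGroup p ↥Z := T.2.to_le inf_le_left
  obtain ⟨n, hn⟩ := hZp.exists_card_eq
  have hn0 : n ≠ 0 := fun h0 => center_ne_bot T.2 hT (Subgroup.card_eq_one.mp (by rw [hn, h0, pow_zero]))
  obtain ⟨z, hz⟩ := exists_prime_orderOf_dvd_card' (G := ↥Z) p (hn ▸ dvd_pow_self p hn0)
  have hzp : (z : G) ^ p = 1 := by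
    rw [← Subgroup.orderOf_coe] at hz
    exact hz ▸ pow_orderOf_eq_one (z : G)
  have : (z : G) ∈ (⊥ : Subgroup G) := h ▸ mem_omegaOne_inf_centralizer.mpr ⟨z.2.1, z.2.2, hzp⟩
  rw [Subgroup.mem_bot] at this
  have hz1 : z = 1 := Subtype.ext this
  rw [hz1, orderOf_one] at hz
  exact (Fact.out : p.Prime).one_lt.ne hz

theorem largestPReducedOf_ne_bot (T : Sylow p G) {L : Subgroup G} (hTL : (T : Subgroup G) ≤ L)
    (hL : L ∈ charPSubgroups p G) : largestPReducedOf p L ≠ ⊥ := fun h =>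
  omegaZ_ne_bot T (sylow_ne_bot_of_mem T hTL hL)
    (le_bot_iff.mp ((omegaZ_le_largestPReducedOf T hTL (charP_of_mem_charPSubgroups hL)).trans h.le))

theorem largestPReducedOf_le_sylow (T : Sylow p G) {L : Subgroup G} (hTL : (T : Subgroup G) ≤ L) :
    largestPReducedOf p L ≤ (T : Subgroup G) :=
  (largestPReducedOf_le_pCoreOf L).trans (pCoreOf_le_of_le hTL)

/-- In parabolic characteristic `p`, every `L ∈ 𝓛` containing `T` is represented inside a subgroup
with the basic property. -/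
theorem exists_isInFrakM (hH : IsOfParabolicCharacteristic p G) (T : Sylow p G) (L : Subgroup G)
    (hTL : (T : Subgroup G) ≤ L) (hL : L ∈ charPSubgroups p G) :
    ∃ M Ls : Subgroup G, (T : Subgroup G) ≤ M ∧ IsInFrakM p M ∧ (T : Subgroup G) ≤ Ls ∧ Ls ≤ M ∧
      Ls ∈ charPSubgroups p G ∧ largestPReducedOf p L = largestPReducedOf p Ls ∧
      largestPReducedOf p L ≤ largestPReducedOf p M ∧
      L ⊔ Subgroup.centralizer (largestPReducedOf p L : Set G) =
        Ls ⊔ Subgroup.centralizer (largestPReducedOf p L : Set G) := by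
  classical
  set Y := largestPReducedOf p L with hY
  set C := Subgroup.centralizer (Y : Set G) with hC
  have hY1 : Y ≠ ⊥ := largestPReducedOf_ne_bot T hTL hL
  set F : Set (Subgroup G) := {X | (T : Subgroup G) ≤ X ∧ X ∈ charPSubgroups p G ∧
      Y ≤ largestPReducedOf p X ∧ ∃ Ls : Subgroup G, (T : Subgroup G) ≤ Ls ∧ Ls ≤ X ∧
        Ls ∈ charPSubgroups p G ∧ Y = largestPReducedOf p Ls ∧ L ⊔ C = Ls ⊔ C} with hF
  have hLF : L ∈ F := ⟨hTL, hL, le_rfl, L, hTL, le_rfl, hL, rfl, rfl⟩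
  have hup : ∀ X ∈ F, ∀ X' ∈ charPSubgroups p G, X ≤ X' → X' ∈ F := by
    rintro X ⟨hTX, -, hYX, Ls, hTLs, hLsX, h⟩ X' hX' hle
    exact ⟨hTX.trans hle, hX', hYX.trans
      (largestPReducedOf_le_of_le T hTX hle (charP_of_mem_charPSubgroups hX')), Ls, hTLs,
      hLsX.trans hle, h⟩
  have hext : ∀ X ∈ charPSubgroups p G, ∃ X' ∈ maxCharPSubgroups p G, X ≤ X' := by
    intro X hX
    obtain ⟨X', hX'⟩ := Set.Finite.exists_maximal
      (Set.toFinite {K : Subgroup G | K ∈ charPSubgroups p G ∧ X ≤ K}) ⟨X, hX, le_rfl⟩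
    refine ⟨X', ⟨hX'.prop.1, fun K hK hle => ?_⟩, hX'.prop.2⟩
    exact le_antisymm (hX'.le_of_ge ⟨hK, hX'.prop.2.trans hle⟩ hle) hle
  obtain ⟨M1, ⟨hM1F, hM1max⟩, hbig⟩ :=
    Set.exists_max_image {X | X ∈ F ∧ X ∈ maxCharPSubgroups p G}
      (fun X => Nat.card ↥(largestPReducedOf p X)) (Set.toFinite _) (by
        obtain ⟨X', hX', hle⟩ := hext L hL
        exact ⟨X', hup L hLF X' hX'.1 hle, hX'⟩)
  obtain ⟨hTM1, hM1, hYM1, Ls, hTLs, hLsM1, hLsL, hLsY, hLsC⟩ := hM1F
  set Y1 := largestPReducedOf p M1 with hY1def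
  set C1 := Subgroup.centralizer (Y1 : Set G) with hC1
  have hY1T : Y1 ≤ (T : Subgroup G) := largestPReducedOf_le_sylow T hTM1
  have hY1ne : Y1 ≠ ⊥ := fun h => hY1 (le_bot_iff.mp (hYM1.trans h.le))
  have hC1n : M1 ≤ Subgroup.normalizer (Y1 : Set G) := le_normalizer_largestPReducedOf M1
  have hC1M1 : C1 ≤ M1 := by
    have h := hM1max.2 (M1 ⊔ C1) (mem_charPSubgroups_of_normalizes hH T (hTM1.trans le_sup_left) hY1T
      hY1ne (sup_le hC1n (Subgroup.centralizer_le_normalizer _))) le_sup_left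
    exact le_sup_right.trans h.le
  obtain ⟨M, hM⟩ := Set.Finite.exists_minimal
    (Set.toFinite {K : Subgroup G | (T : Subgroup G) ≤ K ∧ K ≤ M1 ∧ K ⊔ C1 = M1})
    ⟨M1, hTM1, le_rfl, sup_eq_left.mpr hC1M1⟩
  obtain ⟨hTM, hMM1, hMC⟩ := hM.prop
  have hmin : ∀ K : Subgroup G, (T : Subgroup G) ≤ K → K ≤ M → K ⊔ C1 = M1 → K = M := fun K h1 h2 h3 =>
    le_antisymm h2 (hM.le_of_le ⟨h1, h2.trans hMM1, h3⟩ h2)
  have hMn : M ≤ Subgroup.normalizer (Y1 : Set G) := hMM1.trans hC1n
  have hML : M ∈ charPSubgroups p G :=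
    mem_charPSubgroups_of_normalizes hH T hTM hY1T hY1ne hMn
  have hY1M : Y1 = largestPReducedOf p M := by
    refine le_antisymm ?_ (largestPReducedOf_le_of_le T hTM hMM1 (charP_of_mem_charPSubgroups hM1))
    refine ((isPRed_largestPReducedOf M1).of_sup_eq ?_).le_largestPReducedOf (hY1T.trans hTM)
    rw [← hY1def, ← hC1, hMC, sup_eq_left.mpr hC1M1]
  -- a representative of `L` inside `M`
  have hCC : C1 ≤ C := Subgroup.centralizer_le hYM1
  have hrep : ∃ K : Subgroup G, (T : Subgroup G) ≤ K ∧ K ≤ M ∧ K ∈ charPSubgroups p G ∧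
      Y = largestPReducedOf p K ∧ L ⊔ C = K ⊔ C := by
    set N := M ⊓ (Ls ⊔ C1) with hN
    have hTN : (T : Subgroup G) ≤ N := le_inf hTM (hTLs.trans le_sup_left)
    have hYT : Y ≤ (T : Subgroup G) := largestPReducedOf_le_sylow T hTL
    have hYLs : Ls ≤ Subgroup.normalizer (Y : Set G) := hLsY ▸ le_normalizer_largestPReducedOf Ls
    have hNn : N ≤ Subgroup.normalizer (Y : Set G) :=
      inf_le_right.trans (sup_le hYLs (hCC.trans (Subgroup.centralizer_le_normalizer _)))
    have hNL : N ∈ charPSubgroups p G := mem_charPSubgroups_of_normalizes hH T hTN hYT hY1 hNn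
    have hfac : N ⊔ C = L ⊔ C := by
      refine le_antisymm (sup_le ?_ le_sup_right) (sup_le ?_ le_sup_right)
      · exact inf_le_right.trans (hLsC ▸ sup_le le_sup_left (hCC.trans le_sup_right))
      · refine le_sup_left.trans (hLsC.trans_le (sup_le ?_ le_sup_right))
        intro x hx
        have hx1 : x ∈ ((M ⊔ C1 : Subgroup G) : Set G) := hMC ▸ hLsM1 hx
        rw [Subgroup.coe_mul_of_left_le_normalizer_right (H := M) (N := C1)
          (hC1 ▸ le_normalizer_centralizer hMn)] at hx1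
        obtain ⟨m, hm, c, hc, rfl⟩ := hx1
        refine mul_mem (Subgroup.mem_sup_left ⟨hm, ?_⟩) (Subgroup.mem_sup_right (hCC hc))
        have : m * c * c⁻¹ ∈ Ls ⊔ C1 :=
          mul_mem (Subgroup.mem_sup_left hx) (Subgroup.mem_sup_right (inv_mem hc))
        rwa [mul_inv_cancel_right] at this
    obtain ⟨h1, h2⟩ := Cfsg.Agent.S2824.result T L N hTL hTN (charP_of_mem_charPSubgroups hL)
      (charP_of_mem_charPSubgroups hNL) _ rfl hfac _ rfl
    have hTT0 : (T : Subgroup G) ≤ Subgroup.normalizer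
        (((T : Subgroup G) ⊓ C : Subgroup G) : Set G) :=
      le_normalizer_inf_centralizer Subgroup.le_normalizer
        (hTL.trans (le_normalizer_largestPReducedOf L))
    exact ⟨_, le_inf hTN hTT0, inf_le_left.trans inf_le_left,
      mem_charPSubgroups_of_normalizes hH T (le_inf hTN hTT0) hYT hY1 (inf_le_left.trans hNn),
      h1.symm, h2⟩
  obtain ⟨Ks, hTK, hKM, hKL, hKY, hKC⟩ := hrep
  refine ⟨M, Ks, hTM, ?_, hTK, hKM, hKL, hKY, hYM1.trans hY1M.le, hKC⟩
  -- the basic property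
  refine ⟨hML, by rw [← hY1M, ← hC1, hMC]; exact hM1max, fun X hX hMX => ?_,
    by rw [← hY1M, ← hC1, hMC], ?_⟩
  · rw [← hY1M, ← hC1, hMC]
    have hTX := hTM.trans hMX
    have hYMX := largestPReducedOf_le_of_le T hTM hMX (charP_of_mem_charPSubgroups hX.1)
    have hXF : X ∈ F := ⟨hTX, hX.1, (hYM1.trans hY1M.le).trans hYMX, Ks, hTK, hKM.trans hMX, hKL, hKY, hKC⟩
    have hcard := hbig X ⟨hXF, hX⟩
    rw [← hY1M] at hYMX
    have heq : Y1 = largestPReducedOf p X := Subgroup.eq_of_le_of_card_ge hYMX hcard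
    have hC1X : C1 ≤ X := by
      have h := hX.2 (X ⊔ C1) (mem_charPSubgroups_of_normalizes hH T (hTX.trans le_sup_left) hY1T
        hY1ne (sup_le (heq ▸ le_normalizer_largestPReducedOf X)
          (Subgroup.centralizer_le_normalizer _))) le_sup_left
      exact le_sup_right.trans h.le
    exact hM1max.2 X hX.1 (hMC ▸ sup_le hMX hC1X)
  rw [← hY1M, ← hC1]
  set D := M ⊓ C1 with hD
  have hDn : M ≤ Subgroup.normalizer (D : Set G) :=
    le_normalizer_inf_centralizer Subgroup.le_normalizer hMn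
  haveI hDn' : (D.subgroupOf M).Normal := Subgroup.normal_subgroupOf_of_le_normalizer hDn
  set P := T.subtype hTM with hP
  obtain ⟨R, hR⟩ := exists_sylow_inf P hDn'
  set D0 := (P : Subgroup ↥M) ⊓ D.subgroupOf M with hD0
  have hDC : D.subgroupOf M ≤ C1.subgroupOf M := fun x hx => hx.2
  -- a supplement containing a Sylow `p`-subgroup is everything
  have hsupp : ∀ K : Subgroup ↥M, (P : Subgroup ↥M) ≤ K → K ⊔ D.subgroupOf M = ⊤ → K = ⊤ := by
    intro K hPK hKD
    have h1 : K.map M.subtype = M := by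
      refine hmin _ ?_ (Subgroup.map_subtype_le _) (le_antisymm ?_ ?_)
      · exact fun x hx => ⟨⟨x, hTM hx⟩, hPK hx, rfl⟩
      · exact sup_le ((Subgroup.map_subtype_le _).trans hMM1) hC1M1
      · refine hMC.ge.trans (sup_le ?_ le_sup_right)
        have h2 := congrArg (Subgroup.map M.subtype) hKD
        rw [Subgroup.map_sup, ← MonoidHom.range_eq_map, Subgroup.range_subtype,
          Subgroup.map_subgroupOf_eq_of_le inf_le_left] at h2
        exact h2.ge.trans (sup_le_sup_left inf_le_right _)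
    refine Subgroup.map_injective M.subtype_injective (h1.trans ?_)
    rw [← MonoidHom.range_eq_map, Subgroup.range_subtype]
  have hfra := Sylow.normalizer_sup_eq_top R
  rw [hR] at hfra
  have hD0n : D0.Normal := Subgroup.normalizer_eq_top_iff.mp
    (hsupp _ (le_normalizer_inf Subgroup.le_normalizer Subgroup.le_normalizer_of_normal) hfra)
  have hclD : IsPClosed p ↥(D.subgroupOf M) := isPClosed_of_normal_sylow_inf P hDn' hD0n
  refine ⟨?_, ?_⟩
  · have e := Subgroup.subgroupOfEquivOfLe (inf_le_left : D ≤ M)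
    intro S
    have hinj : Function.Injective e.toMonoidHom := e.injective
    have hrange : (S : Subgroup ↥D) ≤ e.toMonoidHom.range := fun x _ => e.surjective x
    have h1 := hclD (S.comapOfInjective e.toMonoidHom hinj hrange)
    rw [Sylow.coe_comapOfInjective] at h1
    have h2 := h1.map e.toMonoidHom e.surjective
    rwa [Subgroup.map_comap_eq_self_of_surjective e.surjective] at h2
  have hD0O : D0 ≤ pCore p ↥M := CfsgLib.CharP.le_pCore hD0n (P.2.to_le inf_le_left)
  set f := QuotientGroup.mk' (pCore p ↥M) with hf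
  have hs : Function.Surjective f := QuotientGroup.mk'_surjective _
  have hker : f.ker = pCore p ↥M := QuotientGroup.ker_mk' _
  rw [frattini, Order.radical]
  refine le_iInf₂ fun X hX => ?_
  set Z := X.comap f with hZ
  have hOZ : pCore p ↥M ≤ Z := hker ▸ Subgroup.ker_le_comap f X
  rw [Subgroup.map_le_iff_le_comap, ← hZ]
  by_contra hDZ
  have hXe : Z.map f = X := Subgroup.map_comap_eq_self_of_surjective hs X
  have hsup : Z ⊔ D.subgroupOf M = ⊤ := by
    have h1 : X < (Z ⊔ D.subgroupOf M).map f := by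
      refine lt_of_le_not_ge (hXe.symm.le.trans (Subgroup.map_mono le_sup_left)) fun h => hDZ ?_
      exact le_sup_right.trans ((Subgroup.le_comap_map f _).trans (Subgroup.comap_mono h))
    rw [← Subgroup.comap_map_eq_self ((hker.le.trans hOZ).trans le_sup_left), hX.2 _ h1,
      Subgroup.comap_top]
  have hidx : ¬ p ∣ Z.index := by
    have hrel : Z.index = Z.relIndex (D.subgroupOf M) := by
      have hDi : (D.subgroupOf M).relIndex Z = (D.subgroupOf M).index := by
        rw [← Subgroup.relIndex_top_right, ← hsup, Subgroup.relIndex_sup_right]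
      have h1 := Subgroup.relIndex_mul_index (inf_le_left : Z ⊓ D.subgroupOf M ≤ Z)
      have h2 := Subgroup.relIndex_mul_index (inf_le_right : Z ⊓ D.subgroupOf M ≤ D.subgroupOf M)
      rw [Subgroup.inf_relIndex_left, hDi] at h1
      rw [Subgroup.inf_relIndex_right] at h2
      refine Nat.eq_of_mul_eq_mul_left (Nat.pos_of_ne_zero Subgroup.index_ne_zero_of_finite) (h1.trans ?_)
      rw [mul_comm, h2]
    intro hdvd
    refine R.not_dvd_index (hdvd.trans ?_)
    rw [hrel]
    exact Subgroup.index_dvd_of_le fun x hx => hOZ (hD0O (hR ▸ ⟨x, hx, rfl⟩))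
  obtain ⟨SZ⟩ : Nonempty (Sylow p ↥Z) := inferInstance
  have hSZ : ¬ p ∣ ((SZ : Subgroup ↥Z).map Z.subtype).index := by
    rw [Subgroup.index_map_subtype]
    exact Nat.Prime.not_dvd_mul Fact.out SZ.not_dvd_index hidx
  obtain ⟨y, hy⟩ := MulAction.exists_smul_eq ↥M ((SZ.2.map Z.subtype).toSylow hSZ) P
  have hPZ : (P : Subgroup ↥M) ≤ Z.map (MulAut.conj y).toMonoidHom := by
    intro z hz
    rw [← hy, Sylow.coe_subgroup_smul, Subgroup.mem_pointwise_smul_iff_inv_smul_mem] at hz
    exact ⟨_, Subgroup.map_subtype_le _ hz, by simp [mul_assoc]⟩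
  have hsupy : Z.map (MulAut.conj y).toMonoidHom ⊔ D.subgroupOf M = ⊤ := by
    have h1 := congrArg (Subgroup.map (MulAut.conj y).toMonoidHom) hsup
    rwa [Subgroup.map_sup, Subgroup.map_top_of_surjective _ (MulAut.conj y).surjective,
      map_conj_eq_self_iff.mpr (Subgroup.le_normalizer_of_normal (H := D.subgroupOf M) (K := ⊤)
        (Subgroup.mem_top y))] at h1
  have hZy := hsupp _ hPZ hsupy
  refine hX.1 ?_
  rw [← hXe, ← map_conj_inv_map_conj Z y, hZy,
    Subgroup.map_top_of_surjective _ (MulAut.conj y⁻¹).surjective, Subgroup.map_top_of_surjective f hs]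

end CfsgLib.LocalCharP
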