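import Cfsg.Agent.LocalCharP.BasicProperty

/-!
The group `M† = M C(Y_M)` of a subgroup `M` with the basic property, in parabolic characteristic `p`.
-/

set_option autoImplicit false

namespace CfsgLib.LocalCharP

open Cfsg

variable {p : ℕ} {G : Type*} [Group G] [Finite G] [Fact p.Prime]

/-- An overgroup of `M` normalizing a nontrivial subgroup of the Sylow subgroup lies in `M†`. -/
theorem le_dagger_of_normalizes (hH : IsOfParabolicCharacteristic p G) (T : Sylow p G) {M : Subgroup G}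
    (hTM : (T : Subgroup G) ≤ M) (hM : IsInFrakM p M) {X V : Subgroup G} (hMX : M ≤ X)
    (hVT : V ≤ (T : Subgroup G)) (hV1 : V ≠ ⊥) (hn : X ≤ Subgroup.normalizer (V : Set G)) :
    X ≤ M ⊔ Subgroup.centralizer (largestPReducedOf p M : Set G) := by
  have hX := mem_charPSubgroups_of_normalizes hH T (hTM.trans hMX) hVT hV1 hn
  obtain ⟨X', hX'⟩ := Set.Finite.exists_maximal
    (Set.toFinite {K : Subgroup G | K ∈ charPSubgroups p G ∧ X ≤ K}) ⟨X, hX, le_rfl⟩
  have hmax : X' ∈ maxCharPSubgroups p G :=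
    ⟨hX'.prop.1, fun K hK hle => le_antisymm (hX'.le_of_ge ⟨hK, hX'.prop.2.trans hle⟩ hle) hle⟩
  exact hX'.prop.2.trans (hM.2.2.1 X' hmax (hMX.trans hX'.prop.2)).le

/-- The normalizer of a nontrivial normal `p`-subgroup of `M` lies in `M†`. -/
theorem normalizer_le_dagger (hH : IsOfParabolicCharacteristic p G) (T : Sylow p G) {M : Subgroup G}
    (hTM : (T : Subgroup G) ≤ M) (hM : IsInFrakM p M) {I : Subgroup G} (hIM : I ≤ M)
    (hIp : IsPGroup p ↥I) (hI1 : I ≠ ⊥) (hn : M ≤ Subgroup.normalizer (I : Set G)) :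
    Subgroup.normalizer (I : Set G) ≤ M ⊔ Subgroup.centralizer (largestPReducedOf p M : Set G) :=
  le_dagger_of_normalizes hH T hTM hM hn
    ((le_pCoreOf hIM hIp hn).trans (pCoreOf_le_of_le hTM)) hI1 le_rfl

theorem pCoreOf_ne_bot_of_isInFrakM {M : Subgroup G} (hM : IsInFrakM p M) : pCoreOf p M ≠ ⊥ :=
  (mem_charPSubgroups_iff.mp hM.1).1

/-- `N(O_p(M)) ≤ M†`. -/
theorem normalizer_pCoreOf_le_dagger (hH : IsOfParabolicCharacteristic p G) (T : Sylow p G)
    {M : Subgroup G} (hTM : (T : Subgroup G) ≤ M) (hM : IsInFrakM p M) :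
    Subgroup.normalizer (pCoreOf p M : Set G) ≤ M ⊔ Subgroup.centralizer (largestPReducedOf p M : Set G) :=
  normalizer_le_dagger hH T hTM hM (pCoreOf_le M) (isPGroup_pCoreOf M) (pCoreOf_ne_bot_of_isInFrakM hM)
    (le_normalizer_pCoreOf M)

/-- `N(Y_M) = M†`. -/
theorem normalizer_largestPReducedOf_eq_dagger (hH : IsOfParabolicCharacteristic p G) (T : Sylow p G)
    {M : Subgroup G} (hTM : (T : Subgroup G) ≤ M) (hM : IsInFrakM p M) :
    Subgroup.normalizer (largestPReducedOf p M : Set G) =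
      M ⊔ Subgroup.centralizer (largestPReducedOf p M : Set G) :=
  le_antisymm
    (normalizer_le_dagger hH T hTM hM (largestPReducedOf_le M) (isPGroup_largestPReducedOf M)
      (largestPReducedOf_ne_bot T hTM hM.1) (le_normalizer_largestPReducedOf M))
    (sup_le (le_normalizer_largestPReducedOf M) (Subgroup.centralizer_le_normalizer _))

end CfsgLib.LocalCharP
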