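import Cfsg.Prelude.Def_LocalStructure
import Cfsg.Agent.LocalCharP.Residual
import Cfsg.Agent.LocalCharP.WeaklyClosed
import Cfsg.Agent.CharP.SylowInNormal

/-!
A transitive family of subgroups, each normal in the join, of a group with trivial `p`-core.
-/

set_option autoImplicit false

namespace CfsgLib.LocalCharP.Family

open Cfsg
open scoped commutatorElement

variable {G : Type*} [Group G]

section Maps

variable {A B : Type*} [Group A] [Group B] {p : ℕ}

theorem isMinimalOver_map {f : A →* B} (hf : Function.Surjective f) {Y : Subgroup A} (hY : f.ker ≤ Y)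
    (h : IsMinimalOver Y) : IsMinimalOver (Y.map f) := by
  obtain ⟨hn, M, ⟨hM, hYM⟩, huniq⟩ := h
  refine ⟨?_, M.map f, ⟨?_, Subgroup.map_mono hYM⟩, fun X hX => ?_⟩
  · rw [Subgroup.coe_map, ← Subgroup.map_normalClosure _ f hf, hn, Subgroup.map_top_of_surjective f hf]
  · have hc : (M.map f).comap f = M := by
      rw [Subgroup.comap_map_eq, sup_eq_left.2 (hY.trans hYM)]
    refine ⟨fun he => hM.1 (by rw [← hc, he, Subgroup.comap_top]), fun X hX => ?_⟩
    have hlt : M < X.comap f := by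
      rw [← hc]
      exact (Subgroup.comap_lt_comap_of_surjective hf).2 hX
    rw [← Subgroup.map_comap_eq_self_of_surjective hf X, hM.2 _ hlt, Subgroup.map_top_of_surjective f hf]
  · rw [← huniq (X.comap f) ⟨?_, Subgroup.map_le_iff_le_comap.mp hX.2⟩, Subgroup.map_comap_eq_self_of_surjective hf]
    refine ⟨fun he => hX.1.1 (by rw [← Subgroup.map_comap_eq_self_of_surjective hf X, he,
      Subgroup.map_top_of_surjective f hf]), fun Z hZ => ?_⟩
    have hker : f.ker ≤ Z := (MonoidHom.ker_le_comap f X).trans hZ.le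
    have hcz : (Z.map f).comap f = Z := by rw [Subgroup.comap_map_eq, sup_eq_left.2 hker]
    have hlt : X < Z.map f := by
      rw [← Subgroup.comap_lt_comap_of_surjective hf, hcz]
      exact hZ
    rw [← hcz, hX.1.2 _ hlt, Subgroup.comap_top]

theorem isMinimalOver_of_map {f : A →* B} (hf : Function.Surjective f) {Y : Subgroup A} (hY : f.ker ≤ Y)
    (h : IsMinimalOver (Y.map f)) : IsMinimalOver Y := by
  obtain ⟨hn, M, ⟨hM, hYM⟩, huniq⟩ := h
  refine ⟨?_, M.comap f, ⟨?_, Subgroup.map_le_iff_le_comap.mp hYM⟩, fun X hX => ?_⟩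
  · have h1 : f.ker ≤ Subgroup.normalClosure (Y : Set A) := hY.trans Subgroup.le_normalClosure
    rw [← sup_eq_left.2 h1, ← Subgroup.comap_map_eq, Subgroup.map_normalClosure _ f hf, ← Subgroup.coe_map,
      hn, Subgroup.comap_top]
  · refine ⟨fun he => hM.1 (by rw [← Subgroup.map_comap_eq_self_of_surjective hf M, he,
      Subgroup.map_top_of_surjective f hf]), fun Z hZ => ?_⟩
    have hker : f.ker ≤ Z := (MonoidHom.ker_le_comap f M).trans hZ.le
    have hcz : (Z.map f).comap f = Z := by rw [Subgroup.comap_map_eq, sup_eq_left.2 hker]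
    have hlt : M < Z.map f := by
      rw [← Subgroup.comap_lt_comap_of_surjective hf, hcz]
      exact hZ
    rw [← hcz, hM.2 _ hlt, Subgroup.comap_top]
  · have hker : f.ker ≤ X := hY.trans hX.2
    have hc : (X.map f).comap f = X := by rw [Subgroup.comap_map_eq, sup_eq_left.2 hker]
    rw [← hc, huniq (X.map f) ⟨⟨fun he => hX.1.1 (by rw [← hc, he, Subgroup.comap_top]), fun Z hZ => ?_⟩,
      Subgroup.map_mono hX.2⟩]
    have hlt : X < Z.comap f := by
      rw [← hc]
      exact (Subgroup.comap_lt_comap_of_surjective hf).2 hZ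
    rw [← Subgroup.map_comap_eq_self_of_surjective hf Z, hX.1.2 _ hlt, Subgroup.map_top_of_surjective f hf]

theorem isStronglyPIrreducible_map [Finite A] [Finite B] [Fact p.Prime] {f : A →* B}
    (hf : Function.Surjective f) (hk : IsPGroup p ↥f.ker) (h : IsStronglyPIrreducible p A) :
    IsStronglyPIrreducible p B := by
  haveI := pCore_normal p A
  haveI := pCore_normal p B
  refine ⟨fun hc => h.1 ?_, fun N hN hcomm => ?_⟩
  · obtain ⟨P⟩ : Nonempty (Sylow p A) := inferInstance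
    have hkP : f.ker ≤ (P : Subgroup A) :=
      (CfsgLib.CharP.le_pCore (MonoidHom.normal_ker f) hk).trans (CfsgLib.CharP.pCore_le_sylow P)
    refine isPClosed_of_sylow_normal P ?_
    have h1 := hc (P.mapSurjective hf)
    rw [Sylow.coe_mapSurjective] at h1
    have h2 : (((P : Subgroup A).map f).comap f).Normal := h1.comap f
    rwa [Subgroup.comap_map_eq, sup_eq_left.2 hkP] at h2
  · haveI := hN
    rw [← map_pResidual hf]
    refine Subgroup.map_le_iff_le_comap.mpr (h.2 _ (hN.comap f) fun hle => hcomm ?_)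
    have h1 := Subgroup.map_mono (f := f) hle
    rw [Subgroup.map_commutator, Subgroup.map_comap_eq_self_of_surjective hf,
      Subgroup.map_top_of_surjective f hf] at h1
    exact h1.trans (CfsgLib.CharP.le_pCore ((pCore_normal p A).map f hf)
      (CfsgLib.CharP.isPGroup_pCore.map f))

end Maps

/-- If all `⁅x, e⁆` lie in a subgroup which is centralized by `E` and has no nontrivial `p`-element,
then `x` centralizes the `p`-elements of `E`. -/
theorem commute_of_commutator_mem {p : ℕ} {W : Subgroup G}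
    (hW : ∀ w ∈ W, (∃ k : ℕ, w ^ p ^ k = 1) → w = 1) {x e : G} (hc : ⁅x, e⁆ ∈ W)
    (hcomm : Commute ⁅x, e⁆ e) (hek : ∃ k : ℕ, e ^ p ^ k = 1) : Commute x e := by
  obtain ⟨k, hk⟩ := hek
  refine commutatorElement_eq_one_iff_commute.mp (hW _ hc ⟨k, ?_⟩)
  have h1 : MulAut.conj x e = ⁅x, e⁆ * e := by
    rw [MulAut.conj_apply, commutatorElement_def, inv_mul_cancel_right]
  have h2 : MulAut.conj x (e ^ p ^ k) = ⁅x, e⁆ ^ p ^ k * e ^ p ^ k := by
    rw [map_pow, h1, hcomm.mul_pow]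
  rwa [hk, map_one, mul_one, eq_comm] at h2

variable [Finite G] {p : ℕ} [Fact p.Prime]

theorem exists_sylow_eq_inf (T : Sylow p G) {L : Subgroup G} (hL : L.IsSubnormal) :
    ∃ S : Sylow p ↥L, (S : Subgroup ↥L).map L.subtype = (T : Subgroup G) ⊓ L := by
  obtain ⟨S, hS⟩ := (((T.2.to_le inf_le_left : IsPGroup p ↥((T : Subgroup G) ⊓ L))).comap_of_injective
    L.subtype L.subtype_injective).exists_le_sylow
  refine ⟨S, CfsgLib.CharP.inf_subnormal_maximal T hL _ (Subgroup.map_subtype_le _) (S.2.map _) ?_⟩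
  intro x hx
  exact ⟨⟨x, hx.2⟩, hS hx, rfl⟩

theorem pCore_eq_bot_of_isSubnormal (hO : pCore p G = ⊥) {L : Subgroup G} (hL : L.IsSubnormal) :
    pCore p ↥L = ⊥ := by
  have h1 := map_pCore_le_pCore_of_isSubnormal (p := p) hL
  rwa [hO, le_bot_iff, Subgroup.map_eq_bot_iff_of_injective _ L.subtype_injective] at h1

theorem eq_one_of_central (hO : pCore p G = ⊥) {L : Subgroup G} (hL : L.IsSubnormal) {w : G} (hw : w ∈ L)
    (hc : ∀ l ∈ L, Commute w l) (hk : ∃ k : ℕ, w ^ p ^ k = 1) : w = 1 := by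
  obtain ⟨k, hk⟩ := hk
  set Z : Subgroup ↥L := Subgroup.zpowers (⟨w, hw⟩ : ↥L)
  have hZc : Z ≤ Subgroup.center ↥L := Subgroup.zpowers_le.mpr
    (Subgroup.mem_center_iff.mpr fun l => Subtype.ext (hc l l.2).eq.symm)
  have hZn : Z.Normal := ⟨fun z hz g => by
    rwa [Subgroup.mem_center_iff.mp (hZc hz) g, mul_inv_cancel_right]⟩
  have hZp : IsPGroup p ↥Z := by
    intro z
    obtain ⟨n, hn⟩ := Subgroup.mem_zpowers_iff.mp z.2
    refine ⟨k, Subtype.ext ?_⟩
    have hwk : (⟨w, hw⟩ : ↥L) ^ (p ^ k) = 1 := Subtype.ext (by simpa using hk)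
    rw [SubgroupClass.coe_pow, ← hn, ← zpow_natCast, ← zpow_mul, mul_comm, zpow_mul, zpow_natCast, hwk,
      one_zpow, Subgroup.coe_one]
  have h1 : Z ≤ ⊥ := pCore_eq_bot_of_isSubnormal hO hL ▸ CfsgLib.CharP.le_pCore hZn hZp
  exact congrArg Subtype.val (Subgroup.mem_bot.mp (h1 (Subgroup.mem_zpowers _)))

/-- A strongly `p`-irreducible group is generated by its `p`-elements. -/
theorem le_of_pElements_mem {L : Subgroup G} (h : IsStronglyPIrreducible p ↥L) {C : Subgroup G}
    (hC : ∀ e ∈ L, (∃ k : ℕ, e ^ p ^ k = 1) → e ∈ C) : L ≤ C := by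
  obtain ⟨S⟩ : Nonempty (Sylow p ↥L) := inferInstance
  haveI := pCore_normal p ↥L
  have hK : Subgroup.normalClosure ((S : Subgroup ↥L) : Set ↥L) = ⊤ := by
    set K := Subgroup.normalClosure ((S : Subgroup ↥L) : Set ↥L) with hKdef
    have hSK : (S : Subgroup ↥L) ≤ K := Subgroup.le_normalClosure
    have hres : pResidual p ↥L ≤ K := by
      refine h.2 K Subgroup.normalClosure_normal fun hle => h.1 (isPClosed_of_sylow_normal S ?_)
      refine ⟨fun s hs g => ?_⟩
      have h1 : ⁅s, g⁆ ∈ (S : Subgroup ↥L) := CfsgLib.CharP.pCore_le_sylow S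
        (hle (Subgroup.commutator_mem_commutator (hSK hs) (Subgroup.mem_top g)))
      have h2 : g * s * g⁻¹ = ⁅s, g⁆⁻¹ * s := by rw [commutatorElement_def]; group
      rw [h2]
      exact mul_mem (inv_mem h1) hs
    exact top_le_iff.mp ((pResidual_sup_sylow S).ge.trans (sup_le hres hSK))
  have h1 : Subgroup.normalClosure ((S : Subgroup ↥L) : Set ↥L) ≤ C.subgroupOf L := by
    refine Subgroup.closure_le _ |>.mpr fun y hy => ?_
    obtain ⟨s, hs, hsy⟩ := Group.mem_conjugatesOfSet_iff.mp hy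
    obtain ⟨g, rfl⟩ := isConj_iff.mp hsy
    obtain ⟨k, hk⟩ := S.2 ⟨s, hs⟩
    refine hC _ (g * s * g⁻¹).2 ⟨k, ?_⟩
    have : (g * s * g⁻¹) ^ p ^ k = 1 := by
      rw [conj_pow, show s ^ p ^ k = 1 from congrArg Subtype.val hk, mul_one, mul_inv_cancel]
    simpa using congrArg Subtype.val this
  exact Subgroup.subgroupOf_eq_top.mp (top_le_iff.mp (hK.ge.trans h1))

variable {𝒦 : Set (Subgroup G)}

theorem normal_sSup (hinv : ∀ h : G, ∀ E ∈ 𝒦, E.map (MulAut.conj h).toMonoidHom ∈ 𝒦) :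
    (sSup 𝒦).Normal := by
  refine ⟨fun x hx g => ?_⟩
  have h1 : sSup 𝒦 ≤ (sSup 𝒦).comap (MulAut.conj g).toMonoidHom :=
    sSup_le fun E hE => Subgroup.map_le_iff_le_comap.mp (le_sSup (hinv g E hE))
  exact h1 hx

theorem isSubnormal_of_mem (hinv : ∀ h : G, ∀ E ∈ 𝒦, E.map (MulAut.conj h).toMonoidHom ∈ 𝒦)
    (hnorm : ∀ E ∈ 𝒦, sSup 𝒦 ≤ Subgroup.normalizer (E : Set G)) {E : Subgroup G} (hE : E ∈ 𝒦) :
    E.IsSubnormal :=
  Subgroup.IsSubnormal.step E _ (le_sSup hE) (normal_sSup hinv).isSubnormal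
    ((Subgroup.normal_subgroupOf_iff_le_normalizer (le_sSup hE)).mpr (hnorm E hE))

theorem sylow_sup (hres : pResidual p G ≤ sSup 𝒦) (T : Sylow p G) : (T : Subgroup G) ⊔ sSup 𝒦 = ⊤ :=
  top_le_iff.mp ((pResidual_sup_sylow T).ge.trans (sup_le (hres.trans le_sup_right) le_sup_left))

theorem isMinimalOver (hne : 𝒦.Nonempty) (hinv : ∀ h : G, ∀ E ∈ 𝒦, E.map (MulAut.conj h).toMonoidHom ∈ 𝒦)
    (htr : ∀ E ∈ 𝒦, ∀ K ∈ 𝒦, ∃ h : G, K = E.map (MulAut.conj h).toMonoidHom)
    (hres : pResidual p G ≤ sSup 𝒦)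
    (hnorm : ∀ E ∈ 𝒦, sSup 𝒦 ≤ Subgroup.normalizer (E : Set G))
    (hmin : ∀ E ∈ 𝒦, ∀ S : Sylow p ↥E, IsMinimalOver (S : Subgroup ↥E)) (T : Sylow p G) :
    IsMinimalOver (T : Subgroup G) := by
  set R := sSup 𝒦 with hR
  haveI hRn : R.Normal := normal_sSup hinv
  have hsup := sylow_sup hres T
  have hncl : ∀ E ∈ 𝒦, ∀ N : Subgroup G, (T : Subgroup G) ⊓ E ≤ N → E ≤ Subgroup.normalizer (N : Set G) →
      E ≤ N := by
    intro E hE N hle hn
    obtain ⟨S, hS⟩ := exists_sylow_eq_inf T (isSubnormal_of_mem hinv hnorm hE)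
    haveI : (N.subgroupOf E).Normal := ⟨fun x hx g => by
      simpa [Subgroup.mem_subgroupOf] using (Subgroup.mem_normalizer_iff.mp (hn g.2) _).mp hx⟩
    have h1 : Subgroup.normalClosure ((S : Subgroup ↥E) : Set ↥E) ≤ N.subgroupOf E :=
      Subgroup.normalClosure_le_normal fun s hs => hle (hS ▸ Subgroup.mem_map_of_mem _ hs)
    rw [(hmin E hE S).1] at h1
    exact Subgroup.subgroupOf_eq_top.mp (top_le_iff.mp h1)
  have hMx : ∀ E ∈ 𝒦, ∃ M : Subgroup G, M ≤ E ∧ ¬ E ≤ M ∧ (T : Subgroup G) ⊓ E ≤ M ∧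
      ∀ Y : Subgroup G, (T : Subgroup G) ⊓ E ≤ Y → Y ≤ E → ¬ E ≤ Y → Y ≤ M := by
    intro E hE
    obtain ⟨S, hS⟩ := exists_sylow_eq_inf T (isSubnormal_of_mem hinv hnorm hE)
    obtain ⟨-, M, ⟨hM, hSM⟩, huniq⟩ := hmin E hE S
    refine ⟨M.map E.subtype, Subgroup.map_subtype_le _, fun h => hM.1 ?_, hS ▸ Subgroup.map_mono hSM,
      fun Y hY hYE hne => ?_⟩
    · exact top_le_iff.mp fun x _ => by
        obtain ⟨y, hy, hxy⟩ := h x.2
        rwa [← show y = x from Subtype.ext hxy]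
    · obtain h | ⟨Z, hZ, hle⟩ := eq_top_or_exists_le_coatom (Y.subgroupOf E)
      · exact absurd (Subgroup.subgroupOf_eq_top.mp h) hne
      · have hZM : Z = M := huniq Z ⟨hZ, fun s hs => hle (hY (hS ▸ Subgroup.mem_map_of_mem _ hs))⟩
        intro y hy
        exact ⟨⟨y, hYE hy⟩, hZM ▸ hle hy, rfl⟩
  choose! Mx hMx1 hMx2 hMx3 hMx4 using hMx
  set D := R ⊓ ⨅ E ∈ 𝒦, Subgroup.normalizer (Mx E : Set G) with hD
  have hTE : ∀ t ∈ (T : Subgroup G), ∀ E ∈ 𝒦,
      (Mx E).map (MulAut.conj t).toMonoidHom ≤ Mx (E.map (MulAut.conj t).toMonoidHom) := by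
    intro t ht E hE
    refine hMx4 _ (hinv t E hE) _ ?_ (Subgroup.map_mono (hMx1 E hE)) fun h => hMx2 E hE ?_
    · intro x hx
      rw [mem_map_conj]
      refine hMx3 E hE ⟨?_, mem_map_conj.mp hx.2⟩
      exact (T : Subgroup G).mul_mem ((T : Subgroup G).mul_mem ((T : Subgroup G).inv_mem ht) hx.1) ht
    · exact (Subgroup.map_le_map_iff_of_injective (MulAut.conj t).injective).mp h
  have hTD : (T : Subgroup G) ≤ Subgroup.normalizer (D : Set G) := by
    have key : ∀ t ∈ (T : Subgroup G), ∀ x ∈ D, t * x * t⁻¹ ∈ D := by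
      intro t ht x hx
      refine ⟨hRn.conj_mem x hx.1 t, Subgroup.mem_iInf.mpr fun E => Subgroup.mem_iInf.mpr fun hE => ?_⟩
      set E0 := E.map (MulAut.conj t⁻¹).toMonoidHom with hE0
      have hE0m : E0 ∈ 𝒦 := hinv t⁻¹ E hE
      have hEE : E0.map (MulAut.conj t).toMonoidHom = E := by
        rw [hE0, map_conj_map_conj, mul_inv_cancel, map_conj_one]
      have h1 : (Mx E0).map (MulAut.conj t).toMonoidHom = Mx E := by
        refine le_antisymm (hEE ▸ hTE t ht E0 hE0m) ?_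
        rw [← map_conj_one (Mx E), ← mul_inv_cancel t, ← map_conj_map_conj]
        exact Subgroup.map_mono (hTE t⁻¹ (inv_mem ht) E hE)
      rw [← h1, ← map_conj_normalizer]
      exact Subgroup.mem_map_of_mem _ (Subgroup.mem_iInf.mp (Subgroup.mem_iInf.mp hx.2 E0) hE0m)
    intro t ht
    refine Subgroup.mem_normalizer_iff.mpr fun x => ⟨key t ht x, fun h => ?_⟩
    simpa [mul_assoc] using key t⁻¹ (inv_mem ht) _ h
  have hXD : ∀ X : Subgroup G, (T : Subgroup G) ≤ X → X ≠ ⊤ → X ⊓ R ≤ D := by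
    intro X hTX hX x hx
    refine ⟨hx.2, Subgroup.mem_iInf.mpr fun E => Subgroup.mem_iInf.mpr fun hE => ?_⟩
    have hnEX : ¬ E ≤ X := by
      obtain ⟨E0, hE0, hE0X⟩ : ∃ E0 ∈ 𝒦, ¬ E0 ≤ X := by
        by_contra! hc
        exact hX (top_le_iff.mp (hsup.ge.trans (sup_le hTX (sSup_le hc))))
      intro hEX
      obtain ⟨h, hh⟩ := htr E hE E0 hE0
      obtain ⟨t, ht, r, hr, rfl⟩ := Subgroup.mem_sup_of_normal_right.mp (hsup.ge (Subgroup.mem_top h))
      refine hE0X ?_
      rw [hh, ← map_conj_map_conj, map_conj_eq_self_iff.mpr (hnorm E hE hr)]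
      exact (Subgroup.map_mono hEX).trans
        (map_conj_eq_self_iff.mpr (Subgroup.le_normalizer (hTX ht))).le
    set S0 := (T : Subgroup G) ⊓ E with hS0
    set Kx := X ⊓ E with hKx
    have hS0K : S0 ≤ Kx := inf_le_inf_right E hTX
    have hS0p : IsPGroup p ↥S0 := T.2.to_le inf_le_left
    have hEsn := isSubnormal_of_mem hinv hnorm hE
    have hxE : E.map (MulAut.conj x).toMonoidHom = E := map_conj_eq_self_iff.mpr (hnorm E hE hx.2)
    have hmax : ∀ P : Subgroup G, P ≤ E → IsPGroup p ↥P → S0 ≤ P → P = S0 :=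
      CfsgLib.CharP.inf_subnormal_maximal T hEsn
    obtain ⟨Sy, hSy⟩ := (hS0p.comap_of_injective Kx.subtype Kx.subtype_injective).exists_le_sylow
    have hSyeq : (Sy : Subgroup ↥Kx).map Kx.subtype = S0 :=
      hmax _ ((Subgroup.map_subtype_le _).trans inf_le_right) (Sy.2.map _)
        (fun s hs => ⟨⟨s, hS0K hs⟩, hSy hs, rfl⟩)
    have hS0x : S0.map (MulAut.conj x).toMonoidHom ≤ Kx := by
      refine (Subgroup.map_mono hS0K).trans (le_inf ?_ ?_)
      · exact (Subgroup.map_mono inf_le_left).trans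
          (map_conj_eq_self_iff.mpr (Subgroup.le_normalizer hx.1)).le
      · exact (Subgroup.map_mono inf_le_right).trans hxE.le
    obtain ⟨y, hy, hSxy⟩ : ∃ y ∈ Kx, S0.map (MulAut.conj x).toMonoidHom = S0.map (MulAut.conj y).toMonoidHom := by
      obtain ⟨Q, hQ⟩ := ((hS0p.map (MulAut.conj x).toMonoidHom).comap_of_injective Kx.subtype
        Kx.subtype_injective).exists_le_sylow
      obtain ⟨y, rfl⟩ := MulAction.exists_smul_eq ↥Kx Sy Q
      refine ⟨y, y.2, Subgroup.eq_of_le_of_card_ge ?_ ?_⟩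
      · intro z hz
        obtain ⟨w, hw, hwz⟩ : (⟨z, hS0x hz⟩ : ↥Kx) ∈ (Sy : Subgroup ↥Kx).map (MulAut.conj y).toMonoidHom :=
          hQ hz
        refine ⟨w, hSyeq ▸ Subgroup.mem_map_of_mem _ hw, ?_⟩
        simpa using congrArg Subtype.val hwz
      · rw [Subgroup.card_map_of_injective (MulAut.conj (y : G)).injective,
          Subgroup.card_map_of_injective (MulAut.conj x).injective]
    have hyM : y ∈ Mx E := hMx4 E hE Kx hS0K inf_le_right (fun h => hnEX (h.trans inf_le_left)) hy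
    have hzM : (Mx E).map (MulAut.conj (y⁻¹ * x)).toMonoidHom = Mx E := by
      have hzS : S0.map (MulAut.conj (y⁻¹ * x)).toMonoidHom = S0 := by
        rw [← map_conj_map_conj, hSxy, map_conj_inv_map_conj]
      have hzE : E.map (MulAut.conj (y⁻¹ * x)).toMonoidHom = E := by
        rw [← map_conj_map_conj, hxE]
        exact map_conj_eq_self_iff.mpr (inv_mem (Subgroup.le_normalizer hy.2))
      refine Subgroup.eq_of_le_of_card_ge (hMx4 E hE _ ?_ ?_ ?_) ?_
      · exact hzS.ge.trans (Subgroup.map_mono (hMx3 E hE))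
      · exact (Subgroup.map_mono (hMx1 E hE)).trans hzE.le
      · exact fun h => hMx2 E hE
          ((Subgroup.map_le_map_iff_of_injective (MulAut.conj (y⁻¹ * x)).injective).mp (hzE.le.trans h))
      · rw [Subgroup.card_map_of_injective (MulAut.conj (y⁻¹ * x)).injective]
    have := mul_mem (Subgroup.le_normalizer hyM) (map_conj_eq_self_iff.mp hzM)
    rwa [mul_inv_cancel_left] at this
  obtain ⟨E0, hE0⟩ := hne
  have hTne : (T : Subgroup G) ≠ ⊤ := fun h =>
    hMx2 E0 hE0 (le_of_eq_of_le (by rw [h, top_inf_eq]) (hMx3 E0 hE0))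
  have hM : (T : Subgroup G) ⊔ D ≠ ⊤ := by
    intro h
    have hRD : R ≤ D := by
      intro r hr
      have hr' : r ∈ (↑((T : Subgroup G) ⊔ D) : Set G) := h.ge (Subgroup.mem_top r)
      rw [Subgroup.coe_mul_of_left_le_normalizer_right _ D hTD] at hr'
      obtain ⟨t, ht, d, hd, rfl⟩ := hr'
      exact mul_mem (hXD (T : Subgroup G) le_rfl hTne ⟨ht, by
        simpa using mul_mem hr (inv_mem hd.1)⟩) hd
    exact hMx2 E0 hE0 (hncl E0 hE0 (Mx E0) (hMx3 E0 hE0)
      (((le_sSup hE0).trans hRD).trans (inf_le_right.trans (iInf₂_le E0 hE0))))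
  have hle : ∀ X : Subgroup G, (T : Subgroup G) ≤ X → X ≠ ⊤ → X ≤ (T : Subgroup G) ⊔ D := by
    intro X hTX hX x hx
    obtain ⟨t, ht, r, hr, rfl⟩ := Subgroup.mem_sup_of_normal_right.mp (hsup.ge (Subgroup.mem_top x))
    exact mul_mem (le_sup_left (b := D) ht) (le_sup_right (a := (T : Subgroup G))
      (hXD X hTX hX ⟨by simpa using mul_mem (inv_mem (hTX ht)) hx, hr⟩))
  have hcoatom : IsCoatom ((T : Subgroup G) ⊔ D) :=
    ⟨hM, fun X hX => by_contra fun h => hX.not_ge (hle X (le_sup_left.trans hX.le) h)⟩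
  refine ⟨?_, _, ⟨hcoatom, le_sup_left⟩, fun X hX => (hX.1.le_iff_eq hM).mp (hle X hX.2 hX.1.1) |>.symm⟩
  refine top_le_iff.mp (hsup.ge.trans (sup_le Subgroup.le_normalClosure (sSup_le fun E hE => ?_)))
  exact hncl E hE _ (inf_le_left.trans Subgroup.le_normalClosure)
    ((le_top).trans (Subgroup.normalizer_eq_top (H := Subgroup.normalClosure ((T : Subgroup G) : Set G))).ge)

section Irreducible

variable (hO : pCore p G = ⊥) (hinv : ∀ h : G, ∀ E ∈ 𝒦, E.map (MulAut.conj h).toMonoidHom ∈ 𝒦)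
  (hnorm : ∀ E ∈ 𝒦, sSup 𝒦 ≤ Subgroup.normalizer (E : Set G))
  (hirr : ∀ E ∈ 𝒦, IsStronglyPIrreducible p ↥E)

include hO hinv hnorm hirr in
/-- A normalized subgroup either contains the elements of order prime to `p` of a member, or all
elements whose commutators with the member lie in it centralize that member. -/
theorem coprime_mem_or_commute {E N : Subgroup G} (hE : E ∈ 𝒦) (hN : E ≤ Subgroup.normalizer (N : Set G)) :
    (∀ x ∈ E, (orderOf x).Coprime p → x ∈ N) ∨
      ∀ x : G, (∀ e ∈ E, ⁅x, e⁆ ∈ N ⊓ E) → ∀ e ∈ E, Commute x e := by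
  haveI : (N.subgroupOf E).Normal := ⟨fun x hx g => by
    simpa [Subgroup.mem_subgroupOf] using (Subgroup.mem_normalizer_iff.mp (hN g.2) _).mp hx⟩
  by_cases h : ⁅N.subgroupOf E, (⊤ : Subgroup ↥E)⁆ ≤ pCore p ↥E
  · right
    intro x hx
    have hsn := isSubnormal_of_mem hinv hnorm hE
    rw [pCore_eq_bot_of_isSubnormal hO hsn, le_bot_iff] at h
    have hc : ∀ w ∈ N ⊓ E, ∀ l ∈ E, Commute w l := fun w hw l hl => by
      have h1 : ⁅(⟨w, hw.2⟩ : ↥E), ⟨l, hl⟩⁆ ∈ (⊥ : Subgroup ↥E) :=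
        h ▸ Subgroup.commutator_mem_commutator hw.1 (Subgroup.mem_top _)
      exact (congrArg Subtype.val (commutatorElement_eq_one_iff_commute.mp (Subgroup.mem_bot.mp h1)).eq :)
    intro e he
    have h2 : E ≤ Subgroup.centralizer {x} := le_of_pElements_mem (hirr E hE) fun e he hk =>
      Subgroup.mem_centralizer_singleton_iff.mpr (commute_of_commutator_mem
        (W := N ⊓ E) (fun w hw hk => eq_one_of_central hO hsn hw.2 (hc w hw) hk) (hx e he) (hc _ (hx e he) e he) hk).symm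
    exact (Subgroup.mem_centralizer_singleton_iff.mp (h2 he)).symm
  · left
    intro x hx hxc
    exact (hirr E hE).2 _ inferInstance h (mem_pResidual (x := (⟨x, hx⟩ : ↥E))
      (by rwa [← Subgroup.orderOf_coe]))

include hO hinv hnorm hirr in
theorem coprime_mem_or_commutator_eq_bot {E K : Subgroup G} (hE : E ∈ 𝒦) (hK : K ∈ 𝒦) :
    (∀ x ∈ E, (orderOf x).Coprime p → x ∈ K) ∨ ⁅E, K⁆ = ⊥ := by
  obtain h | h := coprime_mem_or_commute hO hinv hnorm hirr hE ((le_sSup hE).trans (hnorm K hK))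
  · exact Or.inl h
  · refine Or.inr (Subgroup.commutator_eq_bot_iff_le_centralizer.mpr fun e he => ?_)
    refine Subgroup.mem_centralizer_iff.mpr fun k hk => (h k (fun e he => ⟨?_, ?_⟩) e he).eq
    · have h1 := (Subgroup.mem_normalizer_iff.mp (hnorm K hK (le_sSup hE he)) k⁻¹).mp (inv_mem hk)
      simpa [commutatorElement_def, mul_assoc] using mul_mem hk h1
    · have h1 := (Subgroup.mem_normalizer_iff.mp (hnorm E hE (le_sSup hK hk)) e).mp he
      simpa [commutatorElement_def, mul_assoc] using mul_mem h1 (inv_mem he)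

include hO hinv hnorm hirr in
theorem pResidual_le_of_normal (htr : ∀ E ∈ 𝒦, ∀ K ∈ 𝒦, ∃ h : G, K = E.map (MulAut.conj h).toMonoidHom)
    (hres : pResidual p G ≤ sSup 𝒦) {N : Subgroup G} (hN : N.Normal) {P : Subgroup G} (hPN : P ≤ N)
    (hP : IsPGroup p ↥P) (hP1 : P ≠ ⊥) : pResidual p G ≤ N := by
  haveI := hN
  set R := sSup 𝒦 with hR
  haveI hRn : R.Normal := normal_sSup hinv
  by_cases hex : ∃ E ∈ 𝒦, ∀ x ∈ E, (orderOf x).Coprime p → x ∈ N
  · obtain ⟨E0, hE0, hE0N⟩ := hex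
    have hall : ∀ E ∈ 𝒦, ∀ x ∈ E, (orderOf x).Coprime p → x ∈ N := by
      intro E hE x hx hxc
      obtain ⟨h, rfl⟩ := htr E0 hE0 E hE
      obtain ⟨y, hy, rfl⟩ := hx
      exact hN.conj_mem y (hE0N y hy (by rwa [MulEquiv.toMonoidHom_eq_coe, MonoidHom.coe_coe, MulEquiv.orderOf_eq] at hxc)) h
    set f := QuotientGroup.mk' N
    have hle : R.map f ≤ pCoreOf p (R.map f) := by
      rw [Subgroup.map_le_iff_le_comap]
      refine sSup_le fun E hE => Subgroup.map_le_iff_le_comap.mp ?_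
      have h1 : E.map f ≤ R.map f := Subgroup.map_mono (le_sSup hE)
      have h2 : R.map f ≤ Subgroup.normalizer ((E.map f : Subgroup _) : Set (G ⧸ N)) :=
        (Subgroup.map_mono (hnorm E hE)).trans (Subgroup.le_normalizer_map f)
      have h3 : IsPGroup p ↥(E.map f) := by
        rintro ⟨-, x, hx, rfl⟩
        obtain ⟨k, hk⟩ := mem_or_pow_coprime (p := p) x
        exact ⟨k, Subtype.ext (by
          rw [SubgroupClass.coe_pow, ← map_pow, Subgroup.coe_one, QuotientGroup.mk'_apply, QuotientGroup.eq_one_iff]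
          exact hall E hE _ (pow_mem hx _) hk)⟩
      intro y hy
      exact ⟨⟨y, h1 hy⟩, CfsgLib.CharP.le_pCore ((Subgroup.normal_subgroupOf_iff_le_normalizer h1).mpr h2)
        (h3.comap_of_injective _ (R.map f).subtype_injective) hy, rfl⟩
    have hRp : IsPGroup p ↥(R.map f) := (CfsgLib.CharP.isPGroup_pCore.map _).to_le hle
    refine pResidual_le fun x hx => ?_
    rw [← QuotientGroup.eq_one_iff (N := N)]
    exact eq_one_of_isPGroup_of_coprime hRp (Subgroup.mem_map_of_mem f (hres (mem_pResidual hx)))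
      (hx.coprime_dvd_left (orderOf_map_dvd f x))
  · push Not at hex
    exfalso
    have hcase : ∀ E ∈ 𝒦, ∀ x : G, (∀ e ∈ E, ⁅x, e⁆ ∈ N ⊓ E) → ∀ e ∈ E, Commute x e := by
      intro E hE
      refine (coprime_mem_or_commute hO hinv hnorm hirr hE
        (le_top.trans (Subgroup.normalizer_eq_top (H := N)).ge)).resolve_left fun h => ?_
      obtain ⟨x, hx, hxc, hxN⟩ := hex E hE
      exact hxN (h x hx hxc)
    have hNR : ∀ x ∈ N ⊓ R, ∀ r ∈ R, Commute x r := by
      intro x hx r hr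
      have h1 : R ≤ Subgroup.centralizer {x} := sSup_le fun E hE e he =>
        Subgroup.mem_centralizer_singleton_iff.mpr (hcase E hE x (fun e he => ⟨?_, ?_⟩) e he).symm
      · exact (Subgroup.mem_centralizer_singleton_iff.mp (h1 hr)).symm
      · simpa [commutatorElement_def, mul_assoc] using mul_mem hx.1 (hN.conj_mem _ (inv_mem hx.1) e)
      · have h1 := (Subgroup.mem_normalizer_iff.mp (hnorm E hE hx.2) e).mp he
        simpa [commutatorElement_def, mul_assoc] using mul_mem h1 (inv_mem he)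
    have hNC : ∀ x ∈ N, R ≤ Subgroup.centralizer {x} := by
      intro x hx
      refine sSup_le fun E hE => le_of_pElements_mem (hirr E hE) fun e he hk =>
        Subgroup.mem_centralizer_singleton_iff.mpr ?_
      have heR : e ∈ R := le_sSup hE he
      have hmem : ⁅x, e⁆ ∈ N ⊓ R := by
        constructor
        · simpa [commutatorElement_def, mul_assoc] using mul_mem hx (hN.conj_mem _ (inv_mem hx) e)
        · simpa [commutatorElement_def, mul_assoc] using mul_mem (hRn.conj_mem _ heR x) (inv_mem heR)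
      exact (commute_of_commutator_mem (W := N ⊓ R) (fun w hw hk => eq_one_of_central hO hRn.isSubnormal hw.2
        (hNR w hw) hk) hmem (hNR _ hmem e heR) hk).symm
    obtain ⟨T, hT⟩ := hP.exists_le_sylow
    set P0 := (T : Subgroup G) ⊓ N with hP0
    have h1 : (T : Subgroup G) ≤ Subgroup.normalizer (P0 : Set G) := fun t ht => by
      rw [← map_conj_eq_self_iff, hP0, Subgroup.map_inf _ _ _ (MulAut.conj t).injective,
        map_conj_eq_self_iff.mpr (Subgroup.le_normalizer ht),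
        map_conj_eq_self_iff.mpr ((Subgroup.normalizer_eq_top (H := N)).ge (Subgroup.mem_top t))]
    have h2 : R ≤ Subgroup.normalizer (P0 : Set G) := fun r hr => Subgroup.centralizer_le_normalizer _
      (Subgroup.mem_centralizer_iff.mpr fun x hx =>
        (Subgroup.mem_centralizer_singleton_iff.mp (hNC x hx.2 hr)).symm)
    have hn : P0.Normal := Subgroup.normalizer_eq_top_iff.mp
      (top_le_iff.mp ((sylow_sup hres T).ge.trans (sup_le h1 h2)))
    have h3 : P0 ≤ ⊥ := hO ▸ CfsgLib.CharP.le_pCore hn (T.2.to_le inf_le_left)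
    exact hP1 (le_bot_iff.mp ((le_inf hT hPN).trans h3))

end Irreducible

end CfsgLib.LocalCharP.Family
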