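import Cfsg.Agent.LocalCharP.WeaklyClosed
import Cfsg.Agent.LocalCharP.PReduced
import Cfsg.Agent.Amalgam.SThreeOne
import Mathlib.Tactic.Group

/-!
The L-lemma for a group generated by the conjugates of a Sylow subgroup lying in a unique maximal subgroup.
-/

set_option autoImplicit false

namespace CfsgLib.LocalCharP.LLemma

open Cfsg
open scoped Pointwise

variable {H : Type*} [Group H]

/-- The conjugate `g K g⁻¹`, kept opaque. -/
@[irreducible] def cj (K : Subgroup H) (g : H) : Subgroup H := K.map (MulAut.conj g).toMonoidHom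

theorem cj_def (K : Subgroup H) (g : H) : cj K g = K.map (MulAut.conj g).toMonoidHom := by
  unfold cj; rfl

theorem mem_cj {K : Subgroup H} {g x : H} : x ∈ cj K g ↔ g⁻¹ * x * g ∈ K := by
  rw [cj_def]; exact mem_map_conj

theorem exists_of_mem_cj {K : Subgroup H} {g x : H} (h : x ∈ cj K g) : ∃ y ∈ K, g * y * g⁻¹ = x :=
  ⟨_, mem_cj.mp h, by group⟩

theorem conj_mem_cj {K : Subgroup H} {x : H} (h : x ∈ K) (g : H) : g * x * g⁻¹ ∈ cj K g :=
  mem_cj.mpr (by simpa [mul_assoc] using h)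

theorem cj_cj (K : Subgroup H) (a b : H) : cj (cj K a) b = cj K (b * a) := by
  rw [cj_def, cj_def, cj_def]; exact map_conj_map_conj K a b

theorem cj_one (K : Subgroup H) : cj K 1 = K := by rw [cj_def]; exact map_conj_one K

theorem cj_mono {K K' : Subgroup H} (h : K ≤ K') (g : H) : cj K g ≤ cj K' g := by
  rw [cj_def, cj_def]; exact Subgroup.map_mono h

theorem cj_eq_self {K : Subgroup H} {g : H} (h : g ∈ Subgroup.normalizer (K : Set H)) : cj K g = K := by
  rw [cj_def]; exact map_conj_eq_self_iff.mpr h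

theorem cj_top (g : H) : cj (⊤ : Subgroup H) g = ⊤ := by
  rw [cj_def]; exact Subgroup.map_top_of_surjective _ (MulAut.conj g).surjective

theorem cj_sup (K K' : Subgroup H) (g : H) : cj (K ⊔ K') g = cj K g ⊔ cj K' g := by
  rw [cj_def, cj_def, cj_def]; exact Subgroup.map_sup _ _ _

theorem cj_inf (K K' : Subgroup H) (g : H) : cj (K ⊓ K') g = cj K g ⊓ cj K' g := by
  rw [cj_def, cj_def, cj_def]; exact Subgroup.map_inf _ _ _ (MulAut.conj g).injective

theorem cj_iSup {ι : Sort*} (K : ι → Subgroup H) (g : H) : cj (⨆ i, K i) g = ⨆ i, cj (K i) g := by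
  rw [cj_def, Subgroup.map_iSup]; simp only [cj_def]

theorem card_cj (K : Subgroup H) (g : H) : Nat.card ↥(cj K g) = Nat.card ↥K := by
  rw [cj_def]; exact Subgroup.card_map_of_injective (MulAut.conj g).injective

theorem cj_injective {K K' : Subgroup H} {g : H} (h : cj K g = cj K' g) : K = K' := by
  rw [cj_def, cj_def] at h; exact Subgroup.map_injective (MulAut.conj g).injective h

theorem cj_isPGroup {p : ℕ} {K : Subgroup H} (h : IsPGroup p ↥K) (g : H) : IsPGroup p ↥(cj K g) := by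
  rw [cj_def]; exact h.map _

theorem mem_normalizer_of_cj_le [Finite H] {K : Subgroup H} {g : H} (h : cj K g ≤ K) :
    g ∈ Subgroup.normalizer (K : Set H) := by
  rw [cj_def] at h
  exact map_conj_eq_self_iff.mp (Subgroup.eq_of_le_of_card_ge h
    (Subgroup.card_map_of_injective (MulAut.conj g).injective).ge)

theorem mem_normalizer_of_cj_eq {K : Subgroup H} {a b : H} (h : cj K a = cj K b) :
    b⁻¹ * a ∈ Subgroup.normalizer (K : Set H) := by
  rw [cj_def, cj_def] at h; exact map_conj_eq_map_conj_iff.mp h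

theorem gen_sup {O R A : Subgroup H} (b : H)
    (h : R ≤ O ⊔ ⨆ g : {g : H // cj A g ≤ R}, cj A g.1) :
    R ⊔ cj A b ≤ O ⊔ ⨆ g : {g : H // cj A g ≤ R ⊔ cj A b}, cj A g.1 := by
  refine sup_le (h.trans (sup_le_sup_left (iSup_le fun a => ?_) O)) ?_
  · exact le_iSup (fun g : {g : H // cj A g ≤ R ⊔ cj A b} => cj A g.1) ⟨a.1, a.2.trans le_sup_left⟩
  · exact (le_iSup (fun g : {g : H // cj A g ≤ R ⊔ cj A b} => cj A g.1) ⟨b, le_sup_right⟩).trans le_sup_right

end CfsgLib.LocalCharP.LLemma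

namespace CfsgLib.LocalCharP

open Cfsg LLemma
open scoped Pointwise

theorem exists_l_lemma {H : Type*} [Group H] [Finite H] {p : ℕ} [Fact p.Prime] (T : Sylow p H) (hmin : Cfsg.IsMinimalOver (T : Subgroup H)) (M : Subgroup H) (hM : IsCoatom M ∧ (T : Subgroup H) ≤ M) (A : Subgroup H) (hAT : A ≤ (T : Subgroup H)) (hA : ¬ A ≤ Cfsg.pCore p H) : ∃ L : Subgroup H, A ⊔ Cfsg.pCore p H ≤ L ∧ ∃ L₀ : Subgroup H, A ⊔ (Cfsg.pCoreOf p L) ≤ L₀ ∧ L₀ < L ∧ (∀ X : Subgroup H, A ⊔ (Cfsg.pCoreOf p L) ≤ X → X < L → X ≤ L₀) ∧ (∃ g : H, L₀ = L ⊓ ((M : Subgroup H).map (MulAut.conj (g : H)).toMonoidHom)) ∧ ∀ x ∈ L, x ∉ L₀ → (A ⊔ ((A : Subgroup H).map (MulAut.conj (x : H)).toMonoidHom)) ⊔ (Cfsg.pCoreOf p L) = L := by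
  classical
  obtain ⟨hnc, hex⟩ := hmin
  set O := Cfsg.pCore p H with hOdef
  haveI hOn : O.Normal := Cfsg.pCore_normal p H
  have hOp : IsPGroup p ↥O := CfsgLib.CharP.isPGroup_pCore
  have hcm : ∀ (K : Subgroup H) (a b : H), cj (cj K a) b = cj K (b * a) := cj_cj
  have hc1 : ∀ K : Subgroup H, cj K 1 = K := cj_one
  have hcmono : ∀ {K K' : Subgroup H} (g : H), K ≤ K' → cj K g ≤ cj K' g := fun g h => cj_mono h g
  have hcO : ∀ g : H, cj O g = O := fun g => cj_eq_self (Subgroup.le_normalizer_of_normal (H := O) (K := ⊤) (Subgroup.mem_top g))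
  have hctop : ∀ g : H, cj ⊤ g = ⊤ := cj_top
  have hcne : ∀ {K : Subgroup H} (g : H), K ≠ ⊤ → cj K g ≠ ⊤ := fun {K} g hK h => hK (by
    have := congrArg (cj · g⁻¹) h
    rwa [hctop, hcm, inv_mul_cancel, hc1] at this)
  -- every proper overgroup of `T` lies in `M`
  have huT : ∀ K : Subgroup H, K ≠ ⊤ → (T : Subgroup H) ≤ K → K ≤ M := fun K hK hTK => by
    obtain ⟨K', hK', hKK'⟩ := (eq_top_or_exists_le_coatom K).resolve_left hK
    exact (hex.unique hM ⟨hK', hTK.trans hKK'⟩) ▸ hKK'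
  have hNM : Subgroup.normalizer (M : Set H) = M := by
    by_contra hne
    have hlt : M < Subgroup.normalizer (M : Set H) := lt_of_le_of_ne Subgroup.le_normalizer (Ne.symm hne)
    have hn : M.Normal := Subgroup.normalizer_eq_top_iff.mp (hM.1.2 _ hlt)
    exact hM.1.1 (top_le_iff.mp (hnc.ge.trans (Subgroup.normalClosure_le_normal hM.2)))
  have hstab : ∀ a b : H, cj M a = cj M b → b⁻¹ * a ∈ M := fun a b h => by
    rw [← hNM]
    exact mem_normalizer_of_cj_eq h
  -- a conjugate of `M` containing the Sylow subgroup `T'` is the only maximal subgroup over `T'`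
  have hover : ∀ (g : H) (T' : Sylow p H), (T' : Subgroup H) ≤ cj M g →
      ∀ K : Subgroup H, K ≠ ⊤ → (T' : Subgroup H) ≤ K → K ≤ cj M g := by
    intro g T' hT' K hK hTK
    obtain ⟨u, hu⟩ := MulAction.exists_smul_eq H T' T
    have hT'c : cj (T' : Subgroup H) u = (T : Subgroup H) := by
      rw [← hu, cj_def]
      rfl
    have h1 : cj K u ≤ M := huT _ (hcne u hK) (hT'c ▸ hcmono u hTK)
    have h2 : cj (cj M g) u ≤ M := huT _ (hcne u (hcne g hM.1.1)) (hT'c ▸ hcmono u hT')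
    have h3 : cj (cj M g) u = M := Subgroup.eq_of_le_of_card_ge h2 (by
      rw [hcm, card_cj])
    have h4 := hcmono u⁻¹ (h1.trans h3.ge)
    rwa [hcm K, hcm _ u u⁻¹, inv_mul_cancel, hc1, hc1] at h4
  -- every `p`-subgroup lies in a conjugate of `M`
  have hpM : ∀ P : Subgroup H, IsPGroup p ↥P → ∃ g : H, P ≤ cj M g := by
    intro P hP
    obtain ⟨k, hk⟩ := CfsgLib.LocalCharP.exists_conj_le_sylow hP T
    refine ⟨k⁻¹, ?_⟩
    have := hcmono k⁻¹ (hk.trans hM.2)
    rwa [← cj_def, hcm, inv_mul_cancel, hc1] at this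
  have hOM : ∀ g : H, O ≤ cj M g := fun g => by
    rw [← hcO g]
    exact hcmono g ((CfsgLib.CharP.pCore_le_sylow T).trans hM.2)
  have hAp : IsPGroup p ↥A := T.2.to_le hAT
  have hAconj : ∀ g : H, ¬ cj A g ≤ O := fun g h => hA (by
    have := hcmono g⁻¹ h
    rwa [hcm, inv_mul_cancel, hc1, hcO] at this)
  -- `R`: a maximal subgroup generated by conjugates of `A` and `O` lying in two conjugates of `M`
  obtain ⟨R, hR⟩ := Set.Finite.exists_maximal (Set.toFinite {R : Subgroup H | IsPGroup p ↥R ∧ O ≤ R ∧ R ≤ O ⊔ ⨆ g : {g : H // cj A g ≤ R}, cj A g.1 ∧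
      ∃ g g' : H, R ≤ cj M g ∧ R ≤ cj M g' ∧ cj M g ≠ cj M g'}) ⟨O, hOp, le_rfl, le_sup_left, by
    obtain ⟨g, hg⟩ : ∃ g : H, cj M g ≠ M := by
      by_contra hall
      push_neg at hall
      have : (⊤ : Subgroup H) ≤ M := fun g _ => by
        have := hstab g 1 ((hall g).trans (hc1 M).symm)
        simpa using this
      exact hM.1.1 (top_le_iff.mp this)
    exact ⟨g, 1, hOM g, hOM 1, by rwa [hc1]⟩⟩
  obtain ⟨hRp, hOR, hRgen, g1, g2, hR1, hR2, hne12⟩ := hR.prop
  have hNgen : ∀ K : Subgroup H, (∀ n ∈ K, ∀ g : H, cj A g ≤ R → cj A (n * g) ≤ R) →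
      K ≤ Subgroup.normalizer (R : Set H) := by
    intro K hK n hn
    refine mem_normalizer_of_cj_le ?_
    refine (hcmono n hRgen).trans ?_
    rw [cj_sup, cj_iSup]
    refine sup_le ((hcO n).le.trans hOR) (iSup_le fun g => ?_)
    rw [hcm]
    exact hK n hn g.1 g.2
  -- either `R` is normalized by a Sylow subgroup of `cj M g`, or a conjugate of `A` outside `R` normalizes it
  have hgrow : ∀ g : H, R ≤ cj M g →
      (∃ T' : Sylow p H, (T' : Subgroup H) ≤ cj M g ∧ (T' : Subgroup H) ≤ Subgroup.normalizer (R : Set H) ∧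
        ∀ b : H, cj A b ≤ (T' : Subgroup H) → cj A b ≤ R) ∨
      ∃ b : H, cj A b ≤ cj M g ∧ ¬ cj A b ≤ R ∧ cj A b ≤ Subgroup.normalizer (R : Set H) := by
    intro g hRg
    by_contra hcon
    push_neg at hcon
    obtain ⟨hS, hB⟩ := hcon
    have hp : IsPGroup p ↥(cj R g⁻¹) := cj_isPGroup hRp _
    have hle : cj R g⁻¹ ≤ M := by
      have := hcmono g⁻¹ hRg
      rwa [hcm, inv_mul_cancel, hc1] at this
    obtain ⟨P, hP⟩ := (hp.comap_of_injective M.subtype M.subtype_injective).exists_le_sylow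
    obtain ⟨k, hk⟩ := MulAction.exists_smul_eq ↥M (T.subtype hM.2) P
    obtain ⟨T', hT'⟩ : ∃ T' : Sylow p H, (T' : Subgroup H) = cj (cj (T : Subgroup H) (k : H)) g :=
      ⟨g • ((k : H) • T), by rw [Sylow.coe_subgroup_smul, Sylow.coe_subgroup_smul, cj_def, cj_def]; rfl⟩
    have hT'M : (T' : Subgroup H) ≤ cj M g := hT' ▸ hcmono g ((hcmono (k : H) hM.2).trans
      (cj_eq_self (Subgroup.le_normalizer k.2)).le)
    have hRT' : R ≤ (T' : Subgroup H) := by
      have hRP : cj R g⁻¹ ≤ cj (T : Subgroup H) (k : H) := by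
        intro r hr
        have h1 : (⟨r, hle hr⟩ : ↥M) ∈ ((k • T.subtype hM.2 : Sylow p ↥M) : Subgroup ↥M) := hk ▸ hP hr
        rw [Sylow.coe_subgroup_smul, Subgroup.mem_pointwise_smul_iff_inv_smul_mem] at h1
        have h2 : (k : H)⁻¹ * r * (k : H) ∈ (T : Subgroup H) := by simpa [Subgroup.mem_subgroupOf] using h1
        exact mem_cj.mpr h2
      have := hcmono g hRP
      rwa [hcm, mul_inv_cancel, hc1, ← hT'] at this
    haveI := T'.2.isNilpotent
    set K := ((Subgroup.normalizer (R : Set H)).subgroupOf (T' : Subgroup H)) with hK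
    have hlt : K < ⊤ := lt_top_iff_ne_top.mpr fun h => by
      obtain ⟨b, hbT, hbR⟩ := hS T' hT'M (Subgroup.subgroupOf_eq_top.mp h)
      exact hB b (hbT.trans hT'M) hbR (hbT.trans (Subgroup.subgroupOf_eq_top.mp h))
    obtain ⟨n, hn, hnK⟩ := Set.exists_of_ssubset (normalizerCondition_of_isNilpotent K hlt)
    refine hnK ?_
    show (n : H) ∈ Subgroup.normalizer (R : Set H)
    refine hNgen (Subgroup.zpowers (n : H)) ?_ (Subgroup.mem_zpowers _)
    intro m hm a ha
    obtain ⟨z, rfl⟩ := Subgroup.mem_zpowers_iff.mp hm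
    have hnz : (n ^ z : ↥(T' : Subgroup H)) ∈ Subgroup.normalizer (K : Set ↥(T' : Subgroup H)) :=
      zpow_mem hn z
    have hTm : cj A ((n : H) ^ z * a) ≤ (T' : Subgroup H) ⊓ Subgroup.normalizer (R : Set H) := by
      rw [← hcm]
      intro w hw
      obtain ⟨r, hr, rfl⟩ := exists_of_mem_cj hw
      have hrT := hRT' (ha hr)
      have h := (Subgroup.mem_normalizer_iff.mp hnz ⟨r, hrT⟩).mp
        (show (⟨r, hrT⟩ : ↥(T' : Subgroup H)) ∈ K from Subgroup.le_normalizer (ha hr))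
      refine ⟨?_, by simpa [hK, Subgroup.mem_subgroupOf] using h⟩
      have hz : (n : H) ^ z ∈ (T' : Subgroup H) := zpow_mem n.2 z
      exact (T' : Subgroup H).mul_mem ((T' : Subgroup H).mul_mem hz hrT) ((T' : Subgroup H).inv_mem hz)
    by_contra hout
    exact hB _ ((hTm.trans inf_le_left).trans hT'M) hout (hTm.trans inf_le_right)
  -- choose the conjugate `B` and `M1`
  have hchoose : ∃ b c : H, R ≤ cj M c ∧ cj A b ≤ cj M c ∧ ¬ cj A b ≤ R ∧
      cj A b ≤ Subgroup.normalizer (R : Set H) ∧ ¬ Subgroup.normalizer (R : Set H) ≤ cj M c := by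
    have hmaxR : ∀ b : H, ¬ cj A b ≤ R → cj A b ≤ Subgroup.normalizer (R : Set H) →
        ∀ g g' : H, R ⊔ cj A b ≤ cj M g → R ⊔ cj A b ≤ cj M g' → cj M g = cj M g' := by
      intro b hb hbn g g' hg hg'
      by_contra hne
      refine hb (le_sup_right.trans (hR.le_of_ge ⟨hRp.to_sup_of_normal_left' (cj_isPGroup hAp _) hbn,
        hOR.trans le_sup_left, gen_sup b hRgen, g, g', hg, hg', hne⟩ le_sup_left))
    rcases hgrow g1 hR1 with ⟨T1, hT1, hT1N, hT1A⟩ | ⟨b, hb1, hb2, hb3⟩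
    · rcases hgrow g2 hR2 with ⟨T2, hT2, hT2N, -⟩ | ⟨b, hb1, hb2, hb3⟩
      · exfalso
        by_cases htop : Subgroup.normalizer (R : Set H) = ⊤
        · have hn : R.Normal := Subgroup.normalizer_eq_top_iff.mp htop
          obtain ⟨k, hk⟩ := MulAction.exists_smul_eq H T T1
          have hRO : R = O := le_antisymm (CfsgLib.CharP.le_pCore hn hRp) hOR
          refine hAconj k ((hT1A k ?_).trans hRO.le)
          rw [← hk, Sylow.coe_subgroup_smul, cj_def]
          exact Subgroup.map_mono hAT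
        · exact hne12 (by
            have h1 := hover g1 T1 hT1 _ htop hT1N
            have h2 := hover g1 T1 hT1 (cj M g1) (hcne g1 hM.1.1) hT1
            have h3 := hover g2 T2 hT2 (cj M g1) (hcne g1 hM.1.1) (hT2N.trans h1)
            exact Subgroup.eq_of_le_of_card_ge h3 (by
              rw [card_cj, card_cj]))
      · refine ⟨b, g2, hR2, hb1, hb2, hb3, fun hle => hne12 ?_⟩
        exact (Subgroup.eq_of_le_of_card_ge (hover g2 T1 (hT1N.trans hle) (cj M g1)
          (hcne g1 hM.1.1) hT1) (by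
            rw [card_cj, card_cj]))
    · refine ⟨b, g1, hR1, hb1, hb2, hb3, fun hle => hne12 ?_⟩
      rcases hgrow g2 hR2 with ⟨T2, hT2, hT2N, -⟩ | ⟨b', hb1', hb2', hb3'⟩
      · exact Subgroup.eq_of_le_of_card_ge (hover g2 T2 hT2 (cj M g1) (hcne g1 hM.1.1) (hT2N.trans hle)) (by
          rw [card_cj, card_cj])
      · exact hmaxR b' hb2' hb3' g1 g2 (sup_le hR1 (hb3'.trans hle)) (sup_le hR2 hb1')
  obtain ⟨b, c, hRc, hbc, hbR, hbN, hNc⟩ := hchoose
  have hmaxR : ∀ g : H, R ⊔ cj A b ≤ cj M g → cj M g = cj M c := fun g hg => by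
    by_contra hne
    refine hbR (le_sup_right.trans (hR.le_of_ge ⟨hRp.to_sup_of_normal_left' (cj_isPGroup hAp _) hbN,
      hOR.trans le_sup_left, gen_sup b hRgen, g, c, hg, sup_le hRc hbc, hne⟩ le_sup_left))
  set B := cj A b with hB
  obtain ⟨L, hL⟩ := Set.Finite.exists_minimal (Set.toFinite {L : Subgroup H |
    R ⊔ B ≤ L ∧ L ≤ Subgroup.normalizer (R : Set H) ∧ ¬ L ≤ cj M c})
    ⟨_, sup_le Subgroup.le_normalizer hbN, le_rfl, hNc⟩
  obtain ⟨hRBL, hLN, hLc⟩ := hL.prop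
  set P := Cfsg.pCoreOf p L with hP
  have hRP : R ≤ P := CfsgLib.LocalCharP.le_pCoreOf (le_sup_left.trans hRBL) hRp hLN
  have hPp : IsPGroup p ↥P := CfsgLib.LocalCharP.isPGroup_pCoreOf L
  have hBP' : IsPGroup p ↥(B ⊔ P) := (cj_isPGroup hAp _).to_sup_of_normal_right' hPp
    ((le_sup_right.trans hRBL).trans (CfsgLib.LocalCharP.le_normalizer_pCoreOf L))
  have hBPc : B ⊔ P ≤ cj M c := by
    obtain ⟨g, hg⟩ := hpM _ hBP'
    exact (hmaxR g ((sup_le (hRP.trans le_sup_right) le_sup_left).trans hg)) ▸ hg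
  have hBPL : B ⊔ P ≤ L := sup_le (le_sup_right.trans hRBL) (CfsgLib.LocalCharP.pCoreOf_le L)
  set L0 := L ⊓ cj M c with hL0
  have huniq : ∀ X : Subgroup H, R ⊔ B ≤ X → X < L → X ≤ L0 := fun X hX hlt => le_inf hlt.le (by
    by_contra hne
    exact hlt.not_ge (hL.le_of_le ⟨hX, hlt.le.trans hLN, hne⟩ hlt.le))
  have hgen : ∀ x ∈ L, x ∉ L0 → (B ⊔ cj B x) ⊔ P = L := by
    intro x hx hx0
    by_contra hne
    have hle : (B ⊔ cj B x) ⊔ P ≤ L := by
      refine sup_le (sup_le (le_sup_right.trans hRBL) ?_) (CfsgLib.LocalCharP.pCoreOf_le L)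
      exact (hcmono x (le_sup_right.trans hRBL)).trans
        (cj_eq_self (Subgroup.le_normalizer hx)).le
    have h1 := huniq _ (sup_le (hRP.trans le_sup_right) (le_sup_left.trans le_sup_left)) (lt_of_le_of_ne hle hne)
    have h2 : cj (R ⊔ B) x ≤ cj M c := by
      rw [cj_sup, show cj R x = R from cj_eq_self (hLN hx)]
      exact sup_le hRc ((le_sup_right.trans le_sup_left).trans (h1.trans inf_le_right))
    have h3 : R ⊔ B ≤ cj M (x⁻¹ * c) := by
      have := hcmono x⁻¹ h2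
      rwa [hcm, hcm, inv_mul_cancel, hc1] at this
    have h4 := hstab _ _ (hmaxR _ h3)
    refine hx0 ⟨hx, ?_⟩
    show x ∈ cj M c
    refine mem_cj.mpr ?_
    have := inv_mem h4
    simpa [mul_assoc] using this
  -- conjugate `B` back to `A`
  set d := b⁻¹ with hd
  have hBA : cj B d = A := by rw [hB, hcm, hd, inv_mul_cancel, hc1]
  have hPd : Cfsg.pCoreOf p (cj L d) = cj P d := by rw [cj_def, cj_def]; exact (CfsgLib.Amalgam.map_pCoreOf_conj d L).symm
  refine ⟨cj L d, ?_, cj L0 d, ?_, ?_, ?_, ⟨d * c, ?_⟩, ?_⟩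
  · rw [← hBA, ← hcO d]
    exact sup_le (hcmono d (le_sup_right.trans hRBL)) (hcmono d ((hOR.trans le_sup_left).trans hRBL))
  · rw [hPd, ← hBA, ← cj_sup]
    exact hcmono d (le_inf hBPL hBPc)
  · refine lt_of_le_of_ne (hcmono d inf_le_left) fun h => hLc ?_
    have := cj_injective h
    exact this ▸ inf_le_right
  · intro X hX hXL
    have hX' : cj X d⁻¹ ≤ L := by
      have := hcmono d⁻¹ hXL.le
      rwa [hcm, inv_mul_cancel, hc1] at this
    have h1 := huniq (cj X d⁻¹) ?_ (lt_of_le_of_ne hX' fun h => hXL.ne ?_)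
    · have := hcmono d h1
      rwa [hcm, mul_inv_cancel, hc1] at this
    · have := hcmono d⁻¹ hX
      rw [hPd, ← hBA, cj_sup] at this
      simp only [hcm, inv_mul_cancel, one_mul, mul_inv_cancel, hc1, ← hB, hd, inv_inv] at this
      exact (sup_le (hRP.trans le_sup_right) le_sup_left).trans (le_of_le_of_eq this (by rw [hd, inv_inv]))
    · have := congrArg (cj · d) h
      rwa [hcm, mul_inv_cancel, hc1] at this
  · rw [hL0, cj_inf, hcm, cj_def M (d * c)]
  · intro x hx hx0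
    obtain ⟨l, hl, rfl⟩ := exists_of_mem_cj hx
    have hl0 : l ∉ L0 := fun h => hx0 (conj_mem_cj h d)
    have h := congrArg (cj · d) (hgen l hl hl0)
    rw [cj_sup, cj_sup, hBA, hcm] at h
    rw [hPd, ← cj_def]
    refine Eq.trans ?_ h
    congr 2
    show cj A (d * l * d⁻¹) = cj B (d * l)
    rw [← hBA, hcm]
    group

end CfsgLib.LocalCharP
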