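import Cfsg.Agent.LocalCharP.Asymmetric
import Cfsg.Agent.GlaubermanZJ.AxB

/-!
Characteristic `p` is inherited by overgroups of a self-centralizing weakly closed subgroup.
-/

set_option autoImplicit false

namespace CfsgLib.LocalCharP

open Cfsg

variable {p : ℕ} {G : Type*} [Group G] [Finite G] [Fact p.Prime]

theorem isWeaklyClosedSubgroup_subgroupOf {O H : Subgroup G} (h : IsWeaklyClosedSubgroup p O)
    (hOp : IsPGroup p ↥O) (hOH : O ≤ H) : IsWeaklyClosedSubgroup p (O.subgroupOf H) := by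
  refine isWeaklyClosedSubgroup_of_normalizer_le (hOp.comap_of_injective _ H.subtype_injective) ?_
  intro R hR hOR x hx
  have hOR' : O ≤ R.map H.subtype := fun o ho => ⟨⟨o, hOH ho⟩, hOR ho, rfl⟩
  have hxn : (x : G) ∈ Subgroup.normalizer (R.map H.subtype : Set G) := by
    rw [← map_conj_eq_self_iff, Subgroup.map_map]
    conv_rhs => rw [← map_conj_eq_self_iff.mpr hx, Subgroup.map_map]
    rfl
  have hn := normalizer_le_of_weaklyClosed h (hR.map H.subtype) hOR' hxn
  refine Subgroup.mem_normalizer_iff.mpr fun y => ?_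
  exact Subgroup.mem_normalizer_iff.mp hn (y : G)

theorem pCoreOf_subgroupOf {P H : Subgroup G} (hPH : P ≤ H) :
    pCoreOf p (P.subgroupOf H) = (pCoreOf p P).subgroupOf H := by
  have hle : pCoreOf p P ≤ H := (pCoreOf_le P).trans hPH
  apply le_antisymm
  · intro x hx
    refine le_pCoreOf (D := (pCoreOf p (P.subgroupOf H)).map H.subtype) (L := P) ?_
      ((isPGroup_pCoreOf _).map _) ?_ ⟨x, hx, rfl⟩
    · rintro _ ⟨y, hy, rfl⟩
      exact pCoreOf_le (P.subgroupOf H) hy
    · refine le_normalizer_of_conj_mem ?_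
      rintro l hl _ ⟨y, hy, rfl⟩
      exact ⟨_, conj_mem_of_le_normalizer (le_normalizer_pCoreOf (P.subgroupOf H))
        (show (⟨l, hPH hl⟩ : ↥H) ∈ P.subgroupOf H from hl) hy, rfl⟩
  · refine le_pCoreOf (fun x hx => pCoreOf_le P hx)
      ((isPGroup_pCoreOf P).comap_of_injective _ H.subtype_injective) ?_
    exact le_normalizer_of_conj_mem fun l hl x hx =>
      conj_mem_of_le_normalizer (le_normalizer_pCoreOf P) (show (l : G) ∈ P from hl) hx

/-- Overgroups, in a group `H` of characteristic `p`, of a weakly closed self-centralizing `p`-subgroup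
have characteristic `p`. -/
theorem charP_of_le_of_weaklyClosed {O P H : Subgroup G} (hwc : IsWeaklyClosedSubgroup p O)
    (hOp : IsPGroup p ↥O) (hCO : Subgroup.centralizer (O : Set G) ≤ O) (hOP : O ≤ P) (hPH : P ≤ H)
    (hH : Subgroup.centralizer (pCore p ↥H : Set ↥H) ≤ pCore p ↥H) :
    Subgroup.centralizer (pCore p ↥P : Set ↥P) ≤ pCore p ↥P := by
  have hOH := hOP.trans hPH
  have hC0 : Subgroup.centralizer ((O.subgroupOf H : Subgroup ↥H) : Set ↥H) ≤ O.subgroupOf H :=
    fun x hx => hCO ((mem_centralizer_subgroupOf hOH).mp hx)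
  obtain ⟨-, -, h⟩ := weaklyClosed_overgroup (L := P.subgroupOf H)
    (isWeaklyClosedSubgroup_subgroupOf hwc hOp hOH) (hOp.comap_of_injective _ H.subtype_injective) hC0
    (fun x hx => hOP hx)
    (CfsgLib.GlaubermanZJ.charP_centralizer hH (isPGroup_pCoreOf (P.subgroupOf H)))
  refine charP_of_inf_centralizer_le ?_
  rintro x ⟨hxP, hxC⟩
  have h1 := inf_centralizer_le_of_charP h
  rw [pCoreOf_subgroupOf hPH] at h1
  exact h1 (x := ⟨x, hPH hxP⟩)
    ⟨hxP, (mem_centralizer_subgroupOf ((pCoreOf_le P).trans hPH)).mpr hxC⟩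

theorem centralizer_pCoreOf_le_of_isInFrakM {M : Subgroup G} (hM : IsInFrakM p M) :
    Subgroup.centralizer (pCoreOf p M : Set G) ≤ pCoreOf p M :=
  (mem_charPSubgroups_iff.mp hM.1).2

end CfsgLib.LocalCharP
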