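import Cfsg.Agent.LocalCharP.WeakClosure
import Mathlib.Algebra.Group.Action.Basic

/-!
An irreducible action of `H = ⟨Y^h, O⟩` on an abelian `p`-group in which `Y` acts quadratically into a subgroup
fixed pointwise by `Y` and by `O`, where `O` centralizes `Y`.
-/

set_option autoImplicit false

namespace CfsgLib.LocalCharP.Quadratic

open Cfsg

variable {H V : Type*} [Group H] [CommGroup V]

/-- The image of `S` under the action of `g`. -/
def img (φ : H →* MulAut V) (g : H) (S : Subgroup V) : Subgroup V := S.map (φ g).toMonoidHom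

/-- The fixed points of `K`. -/
def fix (φ : H →* MulAut V) (K : Subgroup H) : Subgroup V where
  carrier := {v | ∀ k ∈ K, φ k v = v}
  one_mem' := fun k _ => map_one _
  mul_mem' := fun {a b} ha hb k hk => by rw [map_mul, ha k hk, hb k hk]
  inv_mem' := fun {a} ha k hk => by rw [map_inv, ha k hk]

theorem mem_img {φ : H →* MulAut V} {g : H} {S : Subgroup V} {v : V} :
    v ∈ img φ g S ↔ φ g⁻¹ v ∈ S := by
  constructor
  · rintro ⟨s, hs, rfl⟩
    have h : φ g⁻¹ (φ g s) = s := by rw [← MulAut.mul_apply, ← map_mul, inv_mul_cancel, map_one, MulAut.one_apply]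
    exact h.symm ▸ hs
  · intro h
    refine ⟨_, h, ?_⟩
    change φ g (φ g⁻¹ v) = v
    rw [← MulAut.mul_apply, ← map_mul, mul_inv_cancel, map_one, MulAut.one_apply]

theorem img_img (φ : H →* MulAut V) (a b : H) (S : Subgroup V) : img φ a (img φ b S) = img φ (a * b) S := by
  rw [img, img, img, Subgroup.map_map, map_mul]
  rfl

theorem img_one (φ : H →* MulAut V) (S : Subgroup V) : img φ 1 S = S := by
  ext v
  rw [mem_img, inv_one, map_one, MulAut.one_apply]

theorem img_sup (φ : H →* MulAut V) (g : H) (S T : Subgroup V) : img φ g (S ⊔ T) = img φ g S ⊔ img φ g T :=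
  Subgroup.map_sup _ _ _

theorem img_top (φ : H →* MulAut V) (g : H) : img φ g ⊤ = ⊤ :=
  Subgroup.map_top_of_surjective _ (φ g).surjective

/-- The setwise stabilizer of `S`. -/
def stab (φ : H →* MulAut V) (S : Subgroup V) : Subgroup H where
  carrier := {g | img φ g S = S}
  one_mem' := img_one φ S
  mul_mem' := fun {a b} ha hb => by
    change img φ (a * b) S = S
    rw [← img_img, hb, ha]
  inv_mem' := fun {a} ha => by
    change img φ a⁻¹ S = S
    have h1 := congrArg (img φ a⁻¹) ha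
    rwa [img_img, inv_mul_cancel, img_one, eq_comm] at h1

theorem mem_stab [Finite V] {φ : H →* MulAut V} {S : Subgroup V} {g : H} (h : ∀ s ∈ S, φ g s ∈ S) :
    g ∈ stab φ S :=
  Subgroup.eq_of_le_of_card_ge (Subgroup.map_le_iff_le_comap.mpr h)
    (Subgroup.card_map_of_injective (φ g).injective).ge

/-- The standing data. -/
structure Setting (φ : H →* MulAut V) (Y O : Subgroup H) (I : Subgroup V) : Prop where
  quad : ∀ y ∈ Y, ∀ v : V, φ y v * v⁻¹ ∈ I
  fixY : ∀ y ∈ Y, ∀ i ∈ I, φ y i = i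
  fixO : ∀ o ∈ O, ∀ i ∈ I, φ o i = i
  comm : ∀ y ∈ Y, ∀ o ∈ O, Commute y o
  irred : ∀ S : Subgroup V, stab φ S = ⊤ → S = ⊥ ∨ S = ⊤
  noncentral : ∃ g : H, φ g ≠ 1

namespace Setting

variable [Finite V] {φ : H →* MulAut V} {Y O : Subgroup H} {I : Subgroup V} (d : Setting φ Y O I)
include d

theorem le_fix : I ≤ fix φ Y := fun i hi y hy => d.fixY y hy i hi

theorem diff_mem_fix {o : H} (ho : o ∈ O) (v : V) : φ o v * v⁻¹ ∈ fix φ Y := by
  intro y hy
  obtain ⟨i, hi, hiv⟩ : ∃ i ∈ I, φ y v = i * v := ⟨_, d.quad y hy v, (inv_mul_cancel_right _ _).symm⟩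
  have h1 : φ y (φ o v) = φ o (φ y v) := by
    rw [← MulAut.mul_apply, ← map_mul, (d.comm y hy o ho).eq, map_mul, MulAut.mul_apply]
  rw [map_mul, map_inv, h1, hiv, map_mul, d.fixO o ho i hi, mul_inv, mul_mul_mul_comm, mul_inv_cancel, one_mul]

theorem quad_conj {h y : H} (hy : y ∈ Y.map (MulAut.conj h).toMonoidHom) (v : V) :
    φ y v * v⁻¹ ∈ img φ h I := by
  obtain ⟨y, hy, rfl⟩ := hy
  rw [mem_img, map_mul, map_inv (φ h⁻¹)]
  have h1 : φ h⁻¹ (φ ((MulAut.conj h).toMonoidHom y) v) = φ y (φ h⁻¹ v) := by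
    change φ h⁻¹ (φ (h * y * h⁻¹) v) = φ y (φ h⁻¹ v)
    rw [← MulAut.mul_apply, ← map_mul, ← MulAut.mul_apply, ← map_mul, ← mul_assoc, ← mul_assoc,
      inv_mul_cancel, one_mul]
  rw [h1]
  exact d.quad y hy _

omit [Finite V] d in
theorem fix_conj (h : H) : fix φ (Y.map (MulAut.conj h).toMonoidHom) = img φ h (fix φ Y) := by
  ext v
  rw [mem_img]
  constructor
  · intro hv y hy
    have h1 := hv _ (Subgroup.mem_map_of_mem (MulAut.conj h).toMonoidHom hy)
    have h2 := congrArg (φ h⁻¹) h1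
    change φ h⁻¹ (φ (h * y * h⁻¹) v) = φ h⁻¹ v at h2
    rwa [← MulAut.mul_apply, ← map_mul, ← mul_assoc, ← mul_assoc, inv_mul_cancel, one_mul, map_mul,
      MulAut.mul_apply] at h2
  · rintro hv - ⟨y, hy, rfl⟩
    change φ (h * y * h⁻¹) v = v
    rw [map_mul, map_mul, MulAut.mul_apply, MulAut.mul_apply, hv y hy, ← MulAut.mul_apply, ← map_mul,
      mul_inv_cancel, map_one, MulAut.one_apply]

theorem fix_sup_img {h : H} (hgen : Y.map (MulAut.conj h).toMonoidHom ⊔ O = ⊤) :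
    fix φ Y ⊔ img φ h I = ⊤ := by
  refine (d.irred _ (top_le_iff.mp (hgen.ge.trans (sup_le ?_ ?_)))).resolve_left fun hb => ?_
  · intro y hy
    refine mem_stab fun s hs => ?_
    rw [← inv_mul_cancel_right (φ y s) s]
    exact mul_mem (Subgroup.mem_sup_right (d.quad_conj hy s)) hs
  · intro o ho
    refine mem_stab fun s hs => ?_
    rw [← inv_mul_cancel_right (φ o s) s]
    exact mul_mem (Subgroup.mem_sup_left (d.diff_mem_fix ho s)) hs
  · rw [sup_eq_bot_iff] at hb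
    obtain ⟨g, hg⟩ := d.noncentral
    have hI : I = ⊥ := (Subgroup.map_eq_bot_iff_of_injective _ (φ h).injective).mp hb.2
    refine hg (MulEquiv.ext fun v => ?_)
    have hv : v ∈ fix φ Y := fun y hy => mul_inv_eq_one.mp (Subgroup.mem_bot.mp (hI ▸ d.quad y hy v))
    rw [hb.1, Subgroup.mem_bot] at hv
    simp [hv]

theorem inf_fix {h : H} (hgen : Y.map (MulAut.conj h).toMonoidHom ⊔ O = ⊤) :
    I ⊓ img φ h (fix φ Y) = ⊥ := by
  have hK : ∀ g : H, ∀ s ∈ I ⊓ img φ h (fix φ Y), φ g s = s := by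
    intro g s hs
    let K : Subgroup H :=
      { carrier := {g | φ g s = s}
        one_mem' := by simp
        mul_mem' := fun {a b} ha hb => by
          change φ (a * b) s = s
          rw [map_mul, MulAut.mul_apply, hb, ha]
        inv_mem' := fun {a} ha => by
          change φ a⁻¹ s = s
          nth_rewrite 1 [← show φ a s = s from ha]
          rw [← MulAut.mul_apply, ← map_mul, inv_mul_cancel, map_one, MulAut.one_apply] }
    have : (⊤ : Subgroup H) ≤ K := hgen.ge.trans (sup_le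
      (fun y hy => ((fix_conj h).ge hs.2) y hy) (fun o ho => d.fixO o ho s hs.1))
    exact this (Subgroup.mem_top g)
  refine (d.irred _ (top_le_iff.mp fun g _ => mem_stab fun s hs => (hK g s hs).symm ▸ hs)).resolve_right fun ht => ?_
  obtain ⟨g, hg⟩ := d.noncentral
  exact hg (MulEquiv.ext fun v => hK g v (ht ▸ Subgroup.mem_top v))

variable {h : H} (hg1 : Y.map (MulAut.conj h).toMonoidHom ⊔ O = ⊤)
  (hg2 : Y.map (MulAut.conj h⁻¹).toMonoidHom ⊔ O = ⊤)
include hg1 hg2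

theorem fix_inf_img : fix φ Y ⊓ img φ h I = ⊥ := by
  rw [eq_bot_iff]
  rintro v ⟨hv1, hv2⟩
  have h1 : φ h⁻¹ v ∈ I ⊓ img φ h⁻¹ (fix φ Y) := ⟨mem_img.mp hv2, Subgroup.mem_map_of_mem _ hv1⟩
  rw [d.inf_fix hg2, Subgroup.mem_bot, map_eq_one_iff _ (φ h⁻¹).injective] at h1
  exact h1

/-- `V = I (C(Y) ⊓ C(Y^h)) I^h` and the middle factor together with `I` is `C(Y)`. -/
theorem fix_eq : fix φ Y = I ⊔ (fix φ Y ⊓ img φ h (fix φ Y)) := by
  refine le_antisymm (fun v hv => ?_) (sup_le d.le_fix inf_le_left)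
  have htop : I ⊔ img φ h (fix φ Y) = ⊤ := by
    have h1 := congrArg (img φ h) (d.fix_sup_img hg2)
    rwa [img_sup, img_img, mul_inv_cancel, img_one, img_top, sup_comm] at h1
  obtain ⟨i, hi, c, hc, rfl⟩ := Subgroup.mem_sup.mp (htop.ge (Subgroup.mem_top v))
  refine mul_mem (Subgroup.mem_sup_left hi) (Subgroup.mem_sup_right ⟨?_, hc⟩)
  simpa using mul_mem (inv_mem (d.le_fix hi)) hv

theorem decomp (v : V) : ∃ i ∈ I, ∃ c ∈ fix φ Y ⊓ img φ h (fix φ Y), ∃ j ∈ img φ h I, v = i * c * j := by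
  obtain ⟨a, ha, j, hj, rfl⟩ := Subgroup.mem_sup.mp ((d.fix_sup_img hg1).ge (Subgroup.mem_top v))
  rw [d.fix_eq hg1 hg2] at ha
  obtain ⟨i, hi, c, hc, rfl⟩ := Subgroup.mem_sup.mp ha
  exact ⟨i, hi, c, hc, j, hj, rfl⟩

omit [Finite V] hg1 hg2 in
theorem fix_L {x : H} (hx : x ∈ Y ⊔ Y.map (MulAut.conj h).toMonoidHom) {c : V}
    (hc : c ∈ fix φ Y ⊓ img φ h (fix φ Y)) : φ x c = c := by
  let K : Subgroup H :=
    { carrier := {g | φ g c = c}
      one_mem' := by simp
      mul_mem' := fun {a b} ha hb => by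
        change φ (a * b) c = c
        rw [map_mul, MulAut.mul_apply, hb, ha]
      inv_mem' := fun {a} ha => by
        change φ a⁻¹ c = c
        nth_rewrite 1 [← show φ a c = c from ha]
        rw [← MulAut.mul_apply, ← map_mul, inv_mul_cancel, map_one, MulAut.one_apply] }
  have : Y ⊔ Y.map (MulAut.conj h).toMonoidHom ≤ K := sup_le (fun y hy => hc.1 y hy)
    (fun y hy => ((fix_conj h).ge hc.2) y hy)
  exact this hx

theorem eq_one_of_fixed {x : H} (hx : x ∈ Y ⊔ Y.map (MulAut.conj h).toMonoidHom)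
    (hI : ∀ i ∈ I, φ x i = i) (hJ : ∀ j ∈ img φ h I, φ x j = j) : φ x = 1 := by
  refine MulEquiv.ext fun v => ?_
  obtain ⟨i, hi, c, hc, j, hj, rfl⟩ := d.decomp hg1 hg2 v
  rw [map_mul, map_mul, hI i hi, d.fix_L hx hc, hJ j hj, MulAut.one_apply]

theorem eq_one_of_mem_Y {y : H} (hy : y ∈ Y)
    (hJ : ∀ j ∈ img φ h I, φ y j * j⁻¹ ∈ img φ h I) : φ y = 1 := by
  refine d.eq_one_of_fixed hg1 hg2 (Subgroup.mem_sup_left hy) (d.fixY y hy) fun j hj => ?_
  refine mul_inv_eq_one.mp (Subgroup.mem_bot.mp ?_)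
  rw [← d.fix_inf_img hg1 hg2]
  exact ⟨d.le_fix (d.quad y hy j), hJ j hj⟩

theorem img_eq {m : H} (hm : m ∈ Y ⊔ Y.map (MulAut.conj h).toMonoidHom)
    (hmI : ∀ i ∈ I, ∀ y ∈ Y, φ (m * y * m⁻¹) i = i) :
    img φ m I = I ∧ img φ m (fix φ Y) = fix φ Y := by
  set E := I ⊔ img φ h I with hE
  have hEL : Y ⊔ Y.map (MulAut.conj h).toMonoidHom ≤ stab φ E := by
    refine sup_le (fun y hy => mem_stab fun s hs => ?_) (fun y hy => mem_stab fun s hs => ?_)
    · rw [← inv_mul_cancel_right (φ y s) s]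
      exact mul_mem (Subgroup.mem_sup_left (d.quad y hy s)) hs
    · rw [← inv_mul_cancel_right (φ y s) s]
      exact mul_mem (Subgroup.mem_sup_right (d.quad_conj hy s)) hs
  have hEm : img φ m E = E := hEL hm
  have hEfix : E ⊓ fix φ Y = I := by
    refine le_antisymm ?_ (le_inf le_sup_left d.le_fix)
    rintro v ⟨hv1, hv2⟩
    obtain ⟨i, hi, j, hj, rfl⟩ := Subgroup.mem_sup.mp hv1
    have h1 : j ∈ fix φ Y ⊓ img φ h I := ⟨by simpa using mul_mem (inv_mem (d.le_fix hi)) hv2, hj⟩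
    rw [d.fix_inf_img hg1 hg2, Subgroup.mem_bot] at h1
    rwa [h1, mul_one]
  have hIm : img φ m I = I := by
    refine (Subgroup.eq_of_le_of_card_ge ?_ (Subgroup.card_map_of_injective (φ m).injective).le).symm
    calc I ≤ E ⊓ img φ m (fix φ Y) := le_inf le_sup_left fun i hi => mem_img.mpr fun y hy => by
          have h1 := congrArg (φ m⁻¹) (hmI i hi y hy)
          rwa [← MulAut.mul_apply, ← map_mul, ← mul_assoc, ← mul_assoc, inv_mul_cancel, one_mul, map_mul,
            MulAut.mul_apply] at h1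
      _ = img φ m I := by
          conv_rhs => rw [← hEfix]
          rw [img, img, Subgroup.map_inf _ _ _ (φ m).injective]
          exact congrArg (· ⊓ _) hEm.symm
  refine ⟨hIm, ?_⟩
  conv_lhs => rw [d.fix_eq hg1 hg2, img_sup, hIm]
  conv_rhs => rw [d.fix_eq hg1 hg2]
  congr 1
  refine Subgroup.eq_of_le_of_card_ge ?_ (Subgroup.card_map_of_injective (φ m).injective).ge
  rintro - ⟨c, hc, rfl⟩
  exact (d.fix_L hm hc).symm ▸ hc

omit d hg1 hg2 in
/-- A coprime element trivial on `S` and on the quotient by `S` fixes the vector. -/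
theorem eq_of_coprime_stab {p : ℕ} [Fact p.Prime] (hVp : IsPGroup p V) {x : H}
    (hx : (orderOf x).Coprime p) {v : V} (hv : φ x (φ x v * v⁻¹) = φ x v * v⁻¹) : φ x v = v := by
  set b := φ x v * v⁻¹ with hb
  have hxv : φ x v = b * v := (inv_mul_cancel_right _ _).symm
  clear_value b
  have hpow : ∀ n : ℕ, φ (x ^ n) v = b ^ n * v := by
    intro n
    induction n with
    | zero => simp
    | succ n ih =>
      rw [pow_succ', map_mul, MulAut.mul_apply, ih, map_mul, map_pow, hv, hxv, pow_succ, mul_assoc]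
  have h1 : b ^ orderOf x = 1 := by
    have := hpow (orderOf x)
    rwa [pow_orderOf_eq_one, map_one, MulAut.one_apply, eq_comm, mul_eq_right] at this
  obtain ⟨k, hk⟩ := hVp b
  have hb1 : b = 1 := orderOf_eq_one_iff.mp (Nat.eq_one_of_dvd_coprimes (hx.pow_right k)
    (orderOf_dvd_of_pow_eq_one h1) (orderOf_dvd_of_pow_eq_one hk))
  rw [hxv, hb1, one_mul]

theorem eq_one_of_mem_normalClosure {p : ℕ} [Fact p.Prime] [Finite H] (hVp : IsPGroup p V)
    (hOp : IsPGroup p ↥O) {m : H} (hm : m ∈ Y ⊔ Y.map (MulAut.conj h).toMonoidHom)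
    (hmI : ∀ i ∈ I, ∀ y ∈ Y, φ (m * y * m⁻¹) i = i) {x : H}
    (hx : x ∈ (Subgroup.normalClosure ((O.subgroupOf (Subgroup.zpowers m ⊔ O) : Subgroup _) :
      Set ↥(Subgroup.zpowers m ⊔ O))).map (Subgroup.zpowers m ⊔ O).subtype)
    (hxc : (orderOf x).Coprime p) : φ x = 1 := by
  obtain ⟨hIm, hFm⟩ := d.img_eq hg1 hg2 hm hmI
  set F := fix φ Y with hF
  have hstabI : Subgroup.zpowers m ⊔ O ≤ stab φ I :=
    sup_le (Subgroup.zpowers_le.mpr hIm) fun o ho => mem_stab fun s hs => (d.fixO o ho s hs).symm ▸ hs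
  have hstabF : Subgroup.zpowers m ⊔ O ≤ stab φ F :=
    sup_le (Subgroup.zpowers_le.mpr hFm) fun o ho => mem_stab fun s hs => by
      rw [← inv_mul_cancel_right (φ o s) s]
      exact mul_mem (d.diff_mem_fix ho s) hs
  set P := Subgroup.zpowers m ⊔ O with hP
  have hPI : ∀ g ∈ P, ∀ i ∈ I, φ g i ∈ I := fun g hg i hi => (hstabI hg).le (Subgroup.mem_map_of_mem _ hi)
  have hPF : ∀ g ∈ P, ∀ i ∈ F, φ g i ∈ F := fun g hg i hi => (hstabF hg).le (Subgroup.mem_map_of_mem _ hi)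
  let K₁ : Subgroup ↥P :=
    { carrier := {g | (∀ i ∈ I, φ g i = i) ∧ ∀ v, φ g v * v⁻¹ ∈ F}
      one_mem' := ⟨fun i _ => by simp, fun v => by simp⟩
      mul_mem' := fun {a b} ha hb => ⟨fun i hi => by
        rw [Subgroup.coe_mul, map_mul, MulAut.mul_apply, hb.1 i hi, ha.1 i hi], fun v => by
        rw [Subgroup.coe_mul, map_mul, MulAut.mul_apply, ← mul_inv_cancel_right (φ a (φ b v)) (φ b v)⁻¹, inv_inv,
          mul_assoc]
        exact mul_mem (ha.2 _) (hb.2 v)⟩
      inv_mem' := fun {a} ha => ⟨fun i hi => by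
        nth_rewrite 1 [← ha.1 i hi]
        rw [Subgroup.coe_inv, ← MulAut.mul_apply, ← map_mul, inv_mul_cancel, map_one, MulAut.one_apply], fun v => by
        have h1 := inv_mem (ha.2 (φ (a : H)⁻¹ v))
        rw [← MulAut.mul_apply, ← map_mul, mul_inv_cancel, map_one, MulAut.one_apply, mul_inv, inv_inv,
          mul_comm] at h1
        rwa [Subgroup.coe_inv]⟩ }
  have hcc : ∀ (a g : ↥P) (v : V), φ ((a * g * a⁻¹ : ↥P) : H) v = φ a (φ g (φ (a : H)⁻¹ v)) := fun a g v => by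
    rw [Subgroup.coe_mul, Subgroup.coe_mul, Subgroup.coe_inv, map_mul, map_mul, MulAut.mul_apply, MulAut.mul_apply]
  have hcancel : ∀ (a : ↥P) (v : V), φ a (φ (a : H)⁻¹ v) = v := fun a v => by
    rw [← MulAut.mul_apply, ← map_mul, mul_inv_cancel, map_one, MulAut.one_apply]
  haveI hK₁n : K₁.Normal := ⟨fun g hg a => ⟨fun i hi => by
      rw [hcc, hg.1 _ (hPI _ (inv_mem a.2) i hi), hcancel], fun v => by
      rw [hcc]
      have h1 := hPF a a.2 _ (hg.2 (φ (a : H)⁻¹ v))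
      rwa [map_mul, map_inv (φ (a : H)), hcancel] at h1⟩⟩
  let K₂ : Subgroup ↥P :=
    { carrier := {g | ∀ c ∈ F, φ g c * c⁻¹ ∈ I}
      one_mem' := fun c _ => by simp
      mul_mem' := fun {a b} ha hb c hc => by
        rw [Subgroup.coe_mul, map_mul, MulAut.mul_apply, ← mul_inv_cancel_right (φ a (φ b c)) (φ b c)⁻¹, inv_inv,
          mul_assoc]
        exact mul_mem (ha _ (hPF b b.2 c hc)) (hb c hc)
      inv_mem' := fun {a} ha c hc => by
        have h1 := inv_mem (ha (φ (a : H)⁻¹ c) (hPF _ (inv_mem a.2) c hc))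
        rw [← MulAut.mul_apply, ← map_mul, mul_inv_cancel, map_one, MulAut.one_apply, mul_inv, inv_inv,
          mul_comm] at h1
        rwa [Subgroup.coe_inv] }
  haveI hK₂n : K₂.Normal := ⟨fun g hg a c hc => by
    rw [hcc]
    have h1 := hPI a a.2 _ (hg (φ (a : H)⁻¹ c) (hPF _ (inv_mem a.2) c hc))
    rwa [map_mul, map_inv (φ (a : H)), hcancel] at h1⟩
  obtain ⟨z, hz, rfl⟩ := hx
  have hz1 : z ∈ K₁ := by
    refine Subgroup.normalClosure_le_normal (fun o ho => ?_) hz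
    exact ⟨d.fixO o ho, d.diff_mem_fix ho⟩
  have htop : K₂ ⊔ O.subgroupOf P = ⊤ := by
    apply Subgroup.map_injective P.subtype_injective
    rw [Subgroup.map_sup, Subgroup.map_subgroupOf_eq_of_le le_sup_right, ← MonoidHom.range_eq_map,
      Subgroup.range_subtype]
    refine le_antisymm (sup_le (Subgroup.map_subtype_le _) le_sup_right)
      (sup_le (le_sup_of_le_left (Subgroup.zpowers_le.mpr ?_)) le_sup_right)
    refine ⟨⟨m, Subgroup.mem_sup_left (Subgroup.mem_zpowers m)⟩, fun c hc => ?_, rfl⟩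
    rw [hF, d.fix_eq hg1 hg2] at hc
    obtain ⟨i, hi, e, he, rfl⟩ := Subgroup.mem_sup.mp hc
    rw [map_mul, d.fix_L hm he, mul_inv, mul_mul_mul_comm, mul_inv_cancel, mul_one]
    exact mul_mem (hPI m (Subgroup.mem_sup_left (Subgroup.mem_zpowers m)) i hi) (inv_mem hi)
  have hzc : (orderOf z).Coprime p := by rwa [← Subgroup.orderOf_coe]
  have hz2 : z ∈ K₂ := CfsgLib.LocalCharP.mem_of_isPGroup_quotient
    (CfsgLib.LocalCharP.isPGroup_quotient_of_sup_eq_top (hOp.comap_of_injective _ P.subtype_injective) htop) hzc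
  have hzF : ∀ c ∈ F, φ z c = c := fun c hc => eq_of_coprime_stab hVp hxc (hz1.1 _ (hz2 c hc))
  exact MulEquiv.ext fun v => eq_of_coprime_stab hVp hxc (hzF _ (hz1.2 v))

theorem false_of_coprime_trivial {p : ℕ} [Fact p.Prime] [Finite H] (hVp : IsPGroup p V)
    (hYp : IsPGroup p ↥Y) (hOp : IsPGroup p ↥O) (hh : h ∈ Y ⊔ Y.map (MulAut.conj h).toMonoidHom)
    (hL : ∀ x ∈ Y ⊔ Y.map (MulAut.conj h).toMonoidHom, (orderOf x).Coprime p → φ x = 1) : False := by
  set L := Y ⊔ Y.map (MulAut.conj h).toMonoidHom with hLdef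
  set Lb := L.map φ with hLb
  have hLp : IsPGroup p ↥Lb := by
    rintro ⟨-, x, hx, rfl⟩
    obtain ⟨k, hk⟩ := CfsgLib.LocalCharP.mem_or_pow_coprime (p := p) x
    exact ⟨k, Subtype.ext (by rw [SubgroupClass.coe_pow, ← map_pow, hL _ (pow_mem hx _) hk, Subgroup.coe_one])⟩
  have hYL : Y ≤ L := le_sup_left
  have hLY : Lb = Y.map φ := by
    refine le_antisymm ?_ (Subgroup.map_mono hYL)
    have h1 : (Y.map φ).subgroupOf Lb = ⊤ := by
      refine CfsgLib.LocalCharP.eq_top_of_isPGroup_of_forall_normal hLp fun N hN hYN => ?_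
      refine top_le_iff.mp ?_
      have hle : L ≤ (N.map Lb.subtype).comap φ := by
        refine sup_le (fun y hy => ⟨⟨φ y, Subgroup.mem_map_of_mem φ (hYL hy)⟩, hYN (Subgroup.mem_map_of_mem φ hy), rfl⟩) ?_
        rintro - ⟨y, hy, rfl⟩
        refine ⟨⟨φ h, Subgroup.mem_map_of_mem φ hh⟩ * ⟨φ y, Subgroup.mem_map_of_mem φ (hYL hy)⟩ *
          ⟨φ h, Subgroup.mem_map_of_mem φ hh⟩⁻¹, hN.conj_mem _ (hYN (Subgroup.mem_map_of_mem φ hy)) _, ?_⟩
        simp
      rintro ⟨-, x, hx, rfl⟩ -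
      obtain ⟨q, hq, hqx⟩ := hle hx
      exact (Subtype.ext hqx : q = ⟨φ x, _⟩) ▸ hq
    exact Subgroup.subgroupOf_eq_top.mp h1
  have hrange : φ.range = Y.map φ ⊔ O.map φ := by
    rw [MonoidHom.range_eq_map, ← hg1, Subgroup.map_sup]
    refine le_antisymm (sup_le ?_ le_sup_right) (sup_le ?_ le_sup_right)
    · exact ((Subgroup.map_mono le_sup_right).trans hLY.le).trans le_sup_left
    · rw [← Subgroup.map_sup, hg1]
      exact Subgroup.map_mono le_top
  have hRp : IsPGroup p ↥φ.range := by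
    rw [hrange]
    refine (hYp.map φ).to_sup_of_normal_right' (hOp.map φ) ?_
    rintro - ⟨y, hy, rfl⟩
    refine Subgroup.centralizer_le_normalizer _ (Subgroup.mem_centralizer_iff.mpr ?_)
    rintro - ⟨o, ho, rfl⟩
    rw [← map_mul, ← map_mul, (d.comm y hy o ho).eq]
  letI act : MulAction ↥φ.range V :=
    { smul := fun g v => (g : MulAut V) v
      one_smul := fun v => rfl
      mul_smul := fun a b v => rfl }
  have hVne : Nontrivial V := by
    obtain ⟨g, hg⟩ := d.noncentral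
    by_contra hV
    haveI := not_nontrivial_iff_subsingleton.mp hV
    exact hg (MulEquiv.ext fun v => Subsingleton.elim _ _)
  obtain ⟨k, hk0, hk⟩ := hVp.nontrivial_iff_card.mp hVne
  have hdvd : p ∣ Nat.card V := hk ▸ dvd_pow_self p hk0.ne'
  obtain ⟨v, hv, hv1⟩ := hRp.exists_fixed_point_of_prime_dvd_card_of_fixed_point V hdvd (a := (1 : V))
    (fun g => map_one (g : MulAut V))
  have hfixall : ∀ (s : V), (∀ g : H, φ g s = s) ↔ s ∈ fix φ (⊤ : Subgroup H) :=
    fun s => ⟨fun h g _ => h g, fun h g => h g (Subgroup.mem_top g)⟩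
  have hvf : v ∈ fix φ (⊤ : Subgroup H) := fun g _ => hv ⟨φ g, g, rfl⟩
  rcases d.irred (fix φ ⊤) (top_le_iff.mp fun g _ => mem_stab fun s hs => (hs g (Subgroup.mem_top g)).symm ▸ hs) with h0 | h0
  · rw [h0, Subgroup.mem_bot] at hvf
    exact hv1 hvf.symm
  · obtain ⟨g, hg⟩ := d.noncentral
    exact hg (MulEquiv.ext fun s => ((hfixall s).mpr (h0 ▸ Subgroup.mem_top s)) g)

end Setting

end CfsgLib.LocalCharP.Quadratic
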