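import Cfsg.Prelude.Def_LocalStructure
import Cfsg.Agent.Eq.Def_LocalStructure
import Cfsg.Agent.LocalCharP.Residual
import Cfsg.Agent.LocalCharP.WeaklyClosed
import Cfsg.Agent.LocalCharP.SylowCenter
import Cfsg.Agent.LocalCharP.CharPLocal
import Mathlib.Tactic.Group

/-!
The weak closure of a weakly closed `p`-subgroup and its residual.
-/

set_option autoImplicit false

namespace CfsgLib.LocalCharP

open Cfsg
open scoped commutatorElement

variable {G : Type*} [Group G] {p : ℕ}

theorem weakClosure_le {Q L : Subgroup G} : weakClosure Q L ≤ L :=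
  iSup_le fun g => g.2

theorem conj_le_weakClosure {Q L : Subgroup G} {g : G} (h : Q.map (MulAut.conj g).toMonoidHom ≤ L) :
    Q.map (MulAut.conj g).toMonoidHom ≤ weakClosure Q L :=
  le_iSup (fun g : {g : G // Q.map (MulAut.conj g).toMonoidHom ≤ L} => Q.map (MulAut.conj (g : G)).toMonoidHom)
    ⟨g, h⟩

theorem le_weakClosure_self {Q L : Subgroup G} (h : Q ≤ L) : Q ≤ weakClosure Q L := by
  have := conj_le_weakClosure (Q := Q) (L := L) (g := 1) (by rwa [map_conj_one])
  rwa [map_conj_one] at this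

theorem weakClosure_le_of {Q L M : Subgroup G}
    (h : ∀ g : G, Q.map (MulAut.conj g).toMonoidHom ≤ L → Q.map (MulAut.conj g).toMonoidHom ≤ M) :
    weakClosure Q L ≤ M :=
  iSup_le fun g => h g g.2

theorem normalizer_le_normalizer_weakClosure (Q L : Subgroup G) :
    Subgroup.normalizer (L : Set G) ≤ Subgroup.normalizer (weakClosure Q L : Set G) := by
  have key : ∀ x ∈ Subgroup.normalizer (L : Set G),
      (weakClosure Q L).map (MulAut.conj x).toMonoidHom ≤ weakClosure Q L := fun x hx =>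
    Subgroup.map_le_iff_le_comap.mpr (weakClosure_le_of fun g hg => Subgroup.map_le_iff_le_comap.mp (by
      rw [map_conj_map_conj]
      refine conj_le_weakClosure ?_
      rw [← map_conj_map_conj]
      exact (Subgroup.map_mono hg).trans (map_conj_eq_self_iff.mpr hx).le))
  intro x hx
  refine map_conj_eq_self_iff.mp (le_antisymm (key x hx) ?_)
  have h1 := Subgroup.map_mono (f := (MulAut.conj x).toMonoidHom) (key x⁻¹ (inv_mem hx))
  rwa [map_conj_map_conj, mul_inv_cancel, map_conj_one] at h1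

theorem weakClosure_idem (Q L : Subgroup G) : weakClosure Q (weakClosure Q L) = weakClosure Q L :=
  le_antisymm weakClosure_le (weakClosure_le_of fun _ hg => conj_le_weakClosure (conj_le_weakClosure hg))

theorem normalizer_le_normalizer_pResidual_map (L : Subgroup G) :
    Subgroup.normalizer (L : Set G) ≤ Subgroup.normalizer (((pResidual p ↥L).map L.subtype : Subgroup G) : Set G) := by
  have key : ∀ x ∈ Subgroup.normalizer (L : Set G), ∀ k ∈ (pResidual p ↥L).map L.subtype,
      x * k * x⁻¹ ∈ (pResidual p ↥L).map L.subtype := by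
    intro x hx
    have h1 : (pResidual p ↥L).map L.subtype ≤
        ((pResidual p ↥L).map L.subtype).comap (MulAut.conj x).toMonoidHom := by
      refine map_pResidual_le_iff.mpr fun k hk hkc => ?_
      refine mem_map_pResidual ((Subgroup.mem_normalizer_iff.mp hx k).mp hk) ?_
      exact hkc.coprime_dvd_left (orderOf_map_dvd (MulAut.conj x).toMonoidHom k)
    exact fun k hk => h1 hk
  intro x hx
  refine Subgroup.mem_normalizer_iff.mpr fun k => ⟨key x hx k, fun h => ?_⟩
  simpa [mul_assoc] using key x⁻¹ (inv_mem hx) _ h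

/-- A proper subgroup of a finite `p`-group lies in a proper normal subgroup. -/
theorem eq_top_of_isPGroup_of_forall_normal [Finite G] [Fact p.Prime] (hG : IsPGroup p G) {Q : Subgroup G}
    (h : ∀ N : Subgroup G, N.Normal → Q ≤ N → N = ⊤) : Q = ⊤ := by
  obtain h1 | ⟨M, hM, hQM⟩ := eq_top_or_exists_le_coatom Q
  · exact h1
  · haveI := hG.isNilpotent
    exact absurd (h M (Subgroup.NormalizerCondition.normal_of_coatom M Group.normalizerCondition_of_isNilpotent hM) hQM) hM.1

/-- An element of order prime to `p` in `NP`, for a `p`-group `P` normalizing `N`, lies in `N`. -/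
theorem coprime_mem_of_sup [Finite G] [Fact p.Prime] {N P : Subgroup G} (hP : IsPGroup p ↥P)
    (hPN : P ≤ Subgroup.normalizer (N : Set G)) {x : G} (hx : x ∈ N ⊔ P) (hc : (orderOf x).Coprime p) :
    x ∈ N := by
  set L := N ⊔ P with hL
  have hLN : L ≤ Subgroup.normalizer (N : Set G) := sup_le Subgroup.le_normalizer hPN
  haveI : (N.subgroupOf L).Normal := (Subgroup.normal_subgroupOf_iff_le_normalizer le_sup_left).mpr hLN
  have h1 : N.subgroupOf L ⊔ P.subgroupOf L = ⊤ := by
    rw [← Subgroup.subgroupOf_sup le_sup_left le_sup_right, Subgroup.subgroupOf_self]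
  exact mem_of_isPGroup_quotient (x := (⟨x, hx⟩ : ↥L)) (isPGroup_quotient_of_sup_eq_top
    (hP.comap_of_injective L.subtype L.subtype_injective) h1) (by rwa [← Subgroup.orderOf_coe])

/-- `A` normalizes `⁅A, B⁆`. -/
theorem le_normalizer_commutator_self (A B : Subgroup G) : A ≤ Subgroup.normalizer ((⁅A, B⁆ : Subgroup G) : Set G) := by
  refine le_normalizer_of_conj_mem fun a ha => ?_
  have h1 : ⁅A, B⁆ ≤ (⁅A, B⁆ : Subgroup G).comap (MulAut.conj a).toMonoidHom := by
    rw [Subgroup.commutator_le]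
    intro x hx y hy
    have h2 := mul_mem (Subgroup.commutator_mem_commutator (mul_mem ha hx) hy)
      (inv_mem (Subgroup.commutator_mem_commutator ha hy))
    rw [commutatorElement_mul_left_eq_conj_mul, mul_inv_cancel_right] at h2
    exact h2
  exact fun m hm => h1 hm

variable [Finite G] [Fact p.Prime] {Q : Subgroup G}

theorem weakClosure_pResidual_sup (hwc : IsWeaklyClosedSubgroup p Q) (hQp : IsPGroup p ↥Q) {L : Subgroup G}
    (hQL : Q ≤ L) :
    (pResidual p ↥(weakClosure Q L)).map (weakClosure Q L).subtype ⊔ Q = weakClosure Q L := by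
  set W := weakClosure Q L with hW
  have hQW : Q ≤ W := le_weakClosure_self hQL
  refine le_antisymm (sup_le (Subgroup.map_subtype_le _) hQW) ?_
  set f := QuotientGroup.mk' (pResidual p ↥W)
  have htop : (Q.subgroupOf W).map f = ⊤ := by
    refine eq_top_of_isPGroup_of_forall_normal isPGroup_quotient_pResidual fun N hN hle => ?_
    have hN' : (N.comap f).Normal := hN.comap f
    have h1 : W ≤ (N.comap f).map W.subtype := by
      nth_rewrite 1 [hW, ← weakClosure_idem]
      refine weakClosure_le_of fun g hg => ?_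
      obtain ⟨k, hk, hgk⟩ := exists_mem_conj_eq hwc hQp hQW hg
      rw [hgk]
      rintro - ⟨q, hq, rfl⟩
      exact ⟨⟨k, hk⟩ * ⟨q, hQW hq⟩ * ⟨k, hk⟩⁻¹, hN'.conj_mem _ (hle ⟨⟨q, hQW hq⟩, hq, rfl⟩) _, rfl⟩
    refine top_le_iff.mp fun y _ => ?_
    obtain ⟨x, rfl⟩ := QuotientGroup.mk'_surjective _ y
    obtain ⟨z, hz, hzx⟩ := h1 x.2
    rwa [← show z = x from Subtype.ext hzx]
  intro x hx
  obtain ⟨q, hq, hqx⟩ := htop.ge (Subgroup.mem_top (f ⟨x, hx⟩))
  have h1 : q⁻¹ * ⟨x, hx⟩ ∈ pResidual p ↥W := by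
    rw [← QuotientGroup.eq]
    exact hqx
  have h2 := mul_mem (Subgroup.mem_sup_right (S := (pResidual p ↥W).map W.subtype) hq)
    (Subgroup.mem_sup_left (T := Q) (Subgroup.mem_map_of_mem W.subtype h1))
  simpa using h2

theorem commutator_weakClosure_pResidual (hwc : IsWeaklyClosedSubgroup p Q) (hQp : IsPGroup p ↥Q)
    {L : Subgroup G} (hQL : Q ≤ L) :
    ⁅(pResidual p ↥(weakClosure Q L)).map (weakClosure Q L).subtype, Q⁆ =
      (pResidual p ↥(weakClosure Q L)).map (weakClosure Q L).subtype := by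
  set W := weakClosure Q L with hW
  set R := (pResidual p ↥W).map W.subtype with hR
  have hRW : R ≤ W := Subgroup.map_subtype_le _
  have hQW : Q ≤ W := le_weakClosure_self hQL
  have hWR : W ≤ Subgroup.normalizer (R : Set G) :=
    Subgroup.le_normalizer.trans (normalizer_le_normalizer_pResidual_map W)
  set M := ⁅R, Q⁆ with hM
  have hMR : M ≤ R := commutator_le_of_le_normalizer hWR hQW
  have hQM : Q ≤ Subgroup.normalizer (M : Set G) :=
    le_normalizer_commutator (hQW.trans hWR) Subgroup.le_normalizer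
  have hRM : ∀ r ∈ R, ∀ m ∈ M, r * m * r⁻¹ ∈ M := by
    intro r hr
    have h1 : M ≤ M.comap (MulAut.conj r).toMonoidHom := by
      rw [hM, Subgroup.commutator_le]
      intro a ha q hq
      rw [Subgroup.mem_comap, ← hM]
      have h2 := mul_mem (Subgroup.commutator_mem_commutator (mul_mem hr ha) hq)
        (inv_mem (Subgroup.commutator_mem_commutator hr hq))
      rw [commutatorElement_mul_left_eq_conj_mul, mul_inv_cancel_right] at h2
      exact h2
    exact fun m hm => h1 hm
  have hRQ : R ≤ Subgroup.normalizer ((M ⊔ Q : Subgroup G) : Set G) := by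
    refine le_normalizer_of_conj_mem fun r hr => ?_
    have h1 : M ⊔ Q ≤ (M ⊔ Q).comap (MulAut.conj r).toMonoidHom := by
      refine sup_le (fun m hm => Subgroup.mem_sup_left (hRM r hr m hm)) fun q hq => ?_
      have h2 := mul_mem (Subgroup.mem_sup_left (T := Q) (Subgroup.commutator_mem_commutator hr hq))
        (Subgroup.mem_sup_right hq)
      rw [← hM] at h2
      simpa [Subgroup.mem_comap, commutatorElement_def] using h2
    exact fun m hm => h1 hm
  have hWN : W ≤ Subgroup.normalizer ((M ⊔ Q : Subgroup G) : Set G) :=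
    (weakClosure_pResidual_sup hwc hQp hQL).ge.trans (sup_le hRQ (le_sup_right.trans Subgroup.le_normalizer))
  have hWM : W ≤ M ⊔ Q := by
    nth_rewrite 1 [hW, ← weakClosure_idem]
    refine weakClosure_le_of fun g hg => ?_
    obtain ⟨k, hk, hgk⟩ := exists_mem_conj_eq hwc hQp hQW hg
    rw [hgk]
    exact (Subgroup.map_mono le_sup_right).trans (map_conj_eq_self_iff.mpr (hWN hk)).le
  exact le_antisymm hMR (map_pResidual_le_iff.mpr fun x hx hxc => coprime_mem_of_sup hQp hQM (hWM hx) hxc)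

/-- In a group `AB` with `[A, B]` central, every `⁅a, g⁆` with `a ∈ A` centralizes `B`. -/
theorem commute_commutator_of_central {A B : Subgroup G} [B.Normal] (hAB : A ⊔ B = ⊤)
    (hD : ⁅A, B⁆ ≤ Subgroup.center G) {a : G} (ha : a ∈ A) (g : G) {b : G} (hb : b ∈ B) :
    Commute ⁅a, g⁆ b := by
  obtain ⟨a₁, ha₁, b₁, hb₁, rfl⟩ := Subgroup.mem_sup_of_normal_right.mp (hAB.ge (Subgroup.mem_top g))
  have hz : ∀ x ∈ A, ∀ y ∈ B, ∀ u : G, u * ⁅x, y⁆ = ⁅x, y⁆ * u := fun x hx y hy u =>
    Subgroup.mem_center_iff.mp (hD (Subgroup.commutator_mem_commutator hx hy)) u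
  have hmul : ∀ x ∈ A, ∀ y ∈ A, ⁅x * y, b⁆ = ⁅y, b⁆ * ⁅x, b⁆ := fun x hx y hy => by
    rw [commutatorElement_mul_left_eq_conj_mul, hz y hy b hb x, mul_inv_cancel_right]
  set y := a₁ * a⁻¹ * a₁⁻¹ with hy
  have hyA : y ∈ A := mul_mem (mul_mem ha₁ (inv_mem ha)) (inv_mem ha₁)
  have hg : ⁅a, a₁ * b₁⁆ = a * y * ⁅a, b₁⁆ := by
    rw [commutatorElement_mul_right_eq_mul_conj, mul_assoc ⁅a, a₁⁆ a₁, hz a ha b₁ hb₁ a₁, ← mul_assoc,
      mul_inv_cancel_right, hy, commutatorElement_def a a₁]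
    group
  have h1 : ⁅a * y, b⁆ = 1 := by
    rw [hmul a ha y hyA, hy, hmul _ (mul_mem ha₁ (inv_mem ha)) _ (inv_mem ha₁), hmul _ ha₁ _ (inv_mem ha),
      ← mul_assoc ⁅a₁⁻¹, b⁆, ← hz _ (inv_mem ha₁) _ hb, mul_assoc ⁅a⁻¹, b⁆, ← hmul _ ha₁ _ (inv_mem ha₁),
      mul_inv_cancel, commutatorElement_one_left, mul_one, ← hmul _ ha _ (inv_mem ha), mul_inv_cancel,
      commutatorElement_one_left]
  rw [hg]
  refine Commute.mul_left (commutatorElement_eq_one_iff_commute.mp h1) ?_
  exact (hz a ha b₁ hb₁ b).symm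

/-- One half of the factorization lemma for the weak closure of `Q`. -/
theorem weakClosure_factor (hwc : IsWeaklyClosedSubgroup p Q) (hQp : IsPGroup p ↥Q) {Hc H₁ H₂ K : Subgroup G}
    (hHc : Hc = weakClosure Q ⊤) (hn₁ : H₁ ≤ Hc ∧ Hc ≤ Subgroup.normalizer (H₁ : Set G))
    (hn₂ : H₂ ≤ Hc ∧ Hc ≤ Subgroup.normalizer (H₂ : Set G)) (hprod : H₁ ⊔ H₂ = Hc)
    (hcomm : ⁅H₁, H₂⁆ ≤ Subgroup.normalizer (Q : Set G))
    (hK : K = (pResidual p ↥(weakClosure Q (H₁ ⊔ Q))).map (weakClosure Q (H₁ ⊔ Q)).subtype) :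
    ⁅K, Q⁆ = K ∧ ⁅K, H₁⁆ = K ∧ K ≤ ⁅H₁, H₁⁆ ∧ Hc ≤ Subgroup.normalizer (K : Set G) ∧
      ⁅K, H₂⁆ ≤ pCoreOf p Hc ∧ K ≤ H₁ ∧ ∀ h ∈ H₁, Q.map (MulAut.conj h).toMonoidHom ≤ K ⊔ Q := by
  have hQHc : Q ≤ Hc := hHc ▸ le_weakClosure_self le_top
  set L := H₁ ⊔ Q with hL
  set W := weakClosure Q L with hW
  have hQL : Q ≤ L := le_sup_right
  have hKQ : ⁅K, Q⁆ = K := hK ▸ commutator_weakClosure_pResidual hwc hQp hQL
  have hWKQ : K ⊔ Q = W := hK ▸ weakClosure_pResidual_sup hwc hQp hQL
  have hKH : K ≤ H₁ := hK ▸ map_pResidual_le_iff.mpr fun x hx hxc =>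
    coprime_mem_of_sup hQp (hQHc.trans hn₁.2) (weakClosure_le hx) hxc
  have hconjW : ∀ h ∈ H₁, Q.map (MulAut.conj h).toMonoidHom ≤ K ⊔ Q := fun h hh => by
    rw [hWKQ]
    refine conj_le_weakClosure ?_
    exact (Subgroup.map_mono hQL).trans (map_conj_eq_self_iff.mpr
      (Subgroup.le_normalizer (le_sup_left (b := Q) hh))).le
  set O := pCoreOf p Hc with hO
  have hOn : Hc ≤ Subgroup.normalizer (O : Set G) := le_normalizer_pCoreOf Hc
  have hOp : IsPGroup p ↥O := isPGroup_pCoreOf Hc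
  have hON : O ≤ Subgroup.normalizer (Q : Set G) :=
    le_normalizer_of_isPGroup_normalized hwc hQp hOp (hQHc.trans hOn)
  set D := ⁅H₁, H₂⁆ with hD
  have hDHc : D ≤ Hc := (Subgroup.commutator_le.mpr fun a ha b hb =>
    mul_mem (mul_mem (mul_mem (hn₁.1 ha) (hn₂.1 hb)) (inv_mem (hn₁.1 ha))) (inv_mem (hn₂.1 hb)))
  have hDn : Hc ≤ Subgroup.normalizer (D : Set G) := le_normalizer_commutator hn₁.2 hn₂.2
  -- work modulo `O`
  haveI := pCore_normal p ↥Hc
  set f := QuotientGroup.mk' (pCore p ↥Hc) with hf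
  have hfs : Function.Surjective f := QuotientGroup.mk'_surjective _
  have hmemO : ∀ x : ↥Hc, f x = 1 → (x : G) ∈ O := fun x hx =>
    Subgroup.mem_map_of_mem _ ((QuotientGroup.eq_one_iff x).mp hx)
  have hfmem : ∀ x : ↥Hc, (x : G) ∈ O → f x = 1 := fun x hx => by
    obtain ⟨y, hy, hyx⟩ := hx
    rw [← show y = x from Subtype.ext hyx]
    exact (QuotientGroup.eq_one_iff y).mpr hy
  set A := (H₁.subgroupOf Hc).map f
  set B := (H₂.subgroupOf Hc).map f
  haveI hBn : B.Normal := ((Subgroup.normal_subgroupOf_iff_le_normalizer hn₂.1).mpr hn₂.2).map f hfs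
  have hAB : A ⊔ B = ⊤ := by
    rw [← Subgroup.map_sup, ← Subgroup.subgroupOf_sup hn₁.1 hn₂.1, hprod, Subgroup.subgroupOf_self,
      Subgroup.map_top_of_surjective f hfs]
  have hcentral : ⁅A, B⁆ ≤ Subgroup.center _ := by
    have h1 : ∀ (d : ↥Hc), (d : G) ∈ D → ∀ y : ↥Hc, Commute (f d) (f y) := by
      intro d hd
      have hC : Hc ≤ ((Subgroup.centralizer {f d}).comap f).map Hc.subtype := by
        nth_rewrite 1 [hHc]
        refine weakClosure_le_of fun g _ => ?_
        obtain ⟨k, hk, hgk⟩ := exists_mem_conj_eq hwc hQp hQHc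
          (g := g) (hHc ▸ conj_le_weakClosure le_top)
        rw [hgk]
        rintro - ⟨q, hq, rfl⟩
        refine ⟨⟨k * q * k⁻¹, mul_mem (mul_mem hk (hQHc hq)) (inv_mem hk)⟩, ?_, rfl⟩
        refine Subgroup.mem_centralizer_singleton_iff.mpr ?_
        set Qk := Q.map (MulAut.conj k).toMonoidHom with hQk
        have hqk : k * q * k⁻¹ ∈ Qk := Subgroup.mem_map_of_mem _ hq
        have hDQk : D ≤ Subgroup.normalizer (Qk : Set G) := by
          rw [hQk, ← map_conj_normalizer, ← map_conj_eq_self_iff.mpr (hDn hk)]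
          exact Subgroup.map_mono hcomm
        have hQkHc : Qk ≤ Hc := (Subgroup.map_mono hQHc).trans
          (map_conj_eq_self_iff.mpr (Subgroup.le_normalizer hk)).le
        have hI : Qk ⊓ D ≤ O := by
          have hsn : ((Qk ⊓ D).subgroupOf Hc).IsSubnormal := by
            refine Subgroup.IsSubnormal.step _ (D.subgroupOf Hc) (fun _ hx => hx.2)
              ((Subgroup.normal_subgroupOf_iff_le_normalizer hDHc).mpr hDn).isSubnormal ?_
            refine ⟨fun x hx y => ⟨?_, ?_⟩⟩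
            · exact (Subgroup.mem_normalizer_iff.mp (hDQk y.2) _).mp hx.1
            · exact D.mul_mem (D.mul_mem y.2 hx.2) (D.inv_mem y.2)
          intro x hx
          exact ⟨⟨x, hDHc hx.2⟩, le_pCore_of_isSubnormal hsn
            ((hQp.map _).to_le inf_le_left |>.comap_of_injective _ Hc.subtype_injective) hx, rfl⟩
        refine (commutatorElement_eq_one_iff_commute.mp ?_).eq.symm
        rw [← map_commutatorElement]
        refine hfmem _ (hI ⟨?_, ?_⟩)
        · have h2 := mul_mem ((Subgroup.mem_normalizer_iff.mp (hDQk hd) _).mp hqk) (inv_mem hqk)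
          simpa [commutatorElement_def] using h2
        · have h2 := mul_mem hd ((Subgroup.mem_normalizer_iff.mp (hDn (hQkHc hqk)) _).mp (inv_mem hd))
          simpa [commutatorElement_def, mul_assoc] using h2
      intro y
      obtain ⟨z, hz, hzy⟩ := hC y.2
      rw [← show z = y from Subtype.ext hzy]
      exact (Subgroup.mem_centralizer_singleton_iff.mp hz).symm
    rw [Subgroup.commutator_le]
    rintro - ⟨a, ha, rfl⟩ - ⟨b, hb, rfl⟩
    refine Subgroup.mem_center_iff.mpr fun u => ?_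
    obtain ⟨y, rfl⟩ := hfs u
    rw [← map_commutatorElement]
    exact (h1 ⁅a, b⁆ (Subgroup.commutator_mem_commutator (g₁ := (a : G)) (g₂ := (b : G)) ha hb) y).eq.symm
  have hKO : ⁅K, H₂⁆ ≤ O := by
    have hsub : K ≤ ((Subgroup.centralizer (B : Set (↥Hc ⧸ pCore p ↥Hc))).comap f).map Hc.subtype := by
      nth_rewrite 1 [← hKQ]
      rw [Subgroup.commutator_le]
      intro k hk q hq
      refine ⟨⁅(⟨k, hn₁.1 (hKH hk)⟩ : ↥Hc), ⟨q, hQHc hq⟩⁆, ?_, rfl⟩
      refine Subgroup.mem_centralizer_iff.mpr fun b hb => ?_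
      rw [map_commutatorElement]
      exact (commute_commutator_of_central hAB hcentral (Subgroup.mem_map_of_mem f
        (show (⟨k, hn₁.1 (hKH hk)⟩ : ↥Hc) ∈ H₁.subgroupOf Hc from hKH hk)) _ hb).eq.symm
    rw [Subgroup.commutator_le]
    intro k hk h hh
    obtain ⟨k', hk', rfl⟩ := hsub hk
    have h1 : f ⁅k', (⟨h, hn₂.1 hh⟩ : ↥Hc)⁆ = 1 := by
      rw [map_commutatorElement, commutatorElement_eq_one_iff_mul_comm]
      exact (Subgroup.mem_centralizer_iff.mp hk' _ (Subgroup.mem_map_of_mem f hh)).symm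
    simpa [commutatorElement_def] using hmemO _ h1
  have hLn : L ≤ Subgroup.normalizer (W : Set G) :=
    Subgroup.le_normalizer.trans (normalizer_le_normalizer_weakClosure Q L)
  have hWK : Subgroup.normalizer (W : Set G) ≤ Subgroup.normalizer (K : Set G) :=
    hK ▸ normalizer_le_normalizer_pResidual_map W
  have hOW : O ≤ Subgroup.normalizer (K : Set G) := by
    refine le_trans (le_normalizer_of_conj_mem fun o ho => ?_) hWK
    have h1 : W ≤ W.comap (MulAut.conj o).toMonoidHom := by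
      refine weakClosure_le_of fun g hg => Subgroup.map_le_iff_le_comap.mp ?_
      obtain ⟨k, hk, hgk⟩ := exists_mem_conj_eq hwc hQp hQL hg
      have hkL : k ∈ Hc := sup_le hn₁.1 hQHc hk
      rw [hgk, map_conj_map_conj, show o * k = k * (k⁻¹ * o * k) by group, ← map_conj_map_conj,
        map_conj_eq_self_iff.mpr (hON (by
          simpa using (Subgroup.mem_normalizer_iff.mp (hOn (inv_mem hkL)) o).mp ho))]
      exact conj_le_weakClosure (hgk ▸ hg)
    exact fun w hw => h1 hw
  have hH₂K : ∀ h ∈ H₂, ∀ k ∈ K, h * k * h⁻¹ ∈ K := by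
    intro h hh
    have h1 : K ≤ K.comap (MulAut.conj h).toMonoidHom := by
      nth_rewrite 1 [hK]
      refine map_pResidual_le_iff.mpr fun k hkW hkc => ?_
      have hk : k ∈ K := hK ▸ mem_map_pResidual hkW hkc
      refine coprime_mem_of_sup hOp hOW ?_ (hkc.coprime_dvd_left (orderOf_map_dvd (MulAut.conj h).toMonoidHom k))
      have h2 : ⁅h, k⁆ ∈ O := hKO (Subgroup.commutator_comm H₂ K ▸ Subgroup.commutator_mem_commutator hh hk)
      have h3 := mul_mem (Subgroup.mem_sup_right (S := K) h2) (Subgroup.mem_sup_left (T := O) hk)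
      simpa [commutatorElement_def] using h3
    exact fun k hk => h1 hk
  have hHcK : Hc ≤ Subgroup.normalizer (K : Set G) := by
    rw [← hprod]
    exact sup_le ((le_sup_left.trans hLn).trans hWK) (le_normalizer_of_conj_mem hH₂K)
  have hM : ⁅K, H₁⁆ = K := by
    refine le_antisymm (commutator_le_of_le_normalizer hHcK hn₁.1) ?_
    have hMn : Hc ≤ Subgroup.normalizer ((⁅K, H₁⁆ : Subgroup G) : Set G) :=
      le_normalizer_commutator hHcK hn₁.2
    have h1 : K ≤ ⁅K, H₁⁆ ⊔ O := by
      nth_rewrite 1 [← hKQ]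
      rw [Subgroup.commutator_le]
      intro k hk q hq
      have hq' : q ∈ (↑(H₁ ⊔ H₂) : Set G) := hprod.ge (hQHc hq)
      rw [Subgroup.coe_mul_of_left_le_normalizer_right _ _ (hn₁.1.trans hn₂.2)] at hq'
      obtain ⟨a, ha, b, hb, rfl⟩ := hq'
      rw [commutatorElement_mul_right_eq_mul_conj, mul_assoc ⁅k, a⁆, mul_assoc ⁅k, a⁆]
      exact mul_mem (Subgroup.mem_sup_left (Subgroup.commutator_mem_commutator hk ha))
        (Subgroup.mem_sup_right ((Subgroup.mem_normalizer_iff.mp (hOn (hn₁.1 ha)) _).mp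
          (hKO (Subgroup.commutator_mem_commutator hk hb))))
    nth_rewrite 1 [hK]
    refine map_pResidual_le_iff.mpr fun k hkW hkc => coprime_mem_of_sup hOp ((pCoreOf_le Hc).trans hMn) (h1 ?_) hkc
    exact hK ▸ mem_map_pResidual hkW hkc
  exact ⟨hKQ, hM, hM.ge.trans (Subgroup.commutator_mono hKH le_rfl), hHcK, hKO, hKH, hconjW⟩

end CfsgLib.LocalCharP
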